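import Mathlib.FieldTheory.Finite.Basic
import Mathlib.GroupTheory.Index
import Mathlib.Tactic.LinearCombination
import Mathlib.Tactic.FieldSimp
import Mathlib.Tactic.Ring

/-!
# The identities forcing the unitary structure map

`u` is the section of the elements inverted by the central involution, read in the plane `F` of `q ^ 2` elements;
`β` is the commutator pairing. The three-step identity makes `τ` constant with `3 τ = 0`, the product identity
then gives the pairing.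
-/

set_option autoImplicit false
set_option linter.unusedSectionVars false

namespace Cfsg.Agent.ONanU3

variable {F : Type*} [Field F] (σ : F →+* F)

/-- The norm. -/
def nm (x : F) : F := x * σ x

/-- The symmetric product. -/
def ip (x y : F) : F := (x * σ y + σ x * y) / 2

/-- The determinant. -/
def dt (ω x y : F) : F := (x * σ y - σ x * y) / (2 * ω)

/-- The section. -/
def sec (ω : F) (τ : F → F) (v : F) : F := (ω + τ v) * v / nm σ v

/-- The reflected row. -/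
def refl (ω : F) (τ : F → F) (f v : F) : F := 2 * sec σ ω τ v - f

/-- The row after three steps. -/
def third (ω : F) (τ : F → F) (f v : F) : F := v + 2 * sec σ ω τ (refl σ ω τ f v)

/-- The identities of the structure map. -/
structure UnitaryEqs where
  ω : F
  τ : F → F
  β : F → F → F
  Γ : Subgroup Fˣ
  two : (2 : F) ≠ 0
  hinv : ∀ x, σ (σ x) = x
  hω : σ ω = -ω
  hω0 : ω ≠ 0
  hτ : ∀ v, v ≠ 0 → σ (τ v) = τ v
  real_mem : ∀ s : Fˣ, σ (s : F) = s → s ∈ Γ
  exists_nonreal : ∃ γ ∈ Γ, σ ((γ : Fˣ) : F) ≠ γ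
  τ_smul : ∀ γ ∈ Γ, ∀ v, v ≠ 0 → τ ((γ : F) * v) = τ v
  index : Γ.index ∣ 3
  char_three : (3 : F) = 0 → Γ.index = 1
  β_anti : ∀ f g, dt σ ω f g ≠ 0 → β g f = -β f g
  r1 : ∀ f v, dt σ ω f v = 1 → ∃ γ ∈ Γ, third σ ω τ f v = (γ : F) * f
  r2 : ∀ f v, dt σ ω f v = 1 → dt σ ω (refl σ ω τ f v) (sec σ ω τ (third σ ω τ f v)) * nm σ (third σ ω τ f v) =
    -(dt σ ω v (sec σ ω τ f) * nm σ f)
  r3 : ∀ f v s, dt σ ω f v = 1 → σ s = s → s ≠ 0 → β f (f + s * v) =
    2 * (dt σ ω v (sec σ ω τ (f + s * v)) - dt σ ω v (sec σ ω τ f) -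
      nm σ (third σ ω τ f v) / nm σ f *
        dt σ ω (refl σ ω τ f v) (sec σ ω τ (third σ ω τ f v - refl σ ω τ f v / s)))
  r4 : ∀ f v s, dt σ ω f v = 1 → σ s = s → s ≠ 0 →
    f * (third σ ω τ f v - refl σ ω τ f v / s) ≠ -(f + s * v) * third σ ω τ f v

namespace UnitaryEqs

variable {σ} (E : UnitaryEqs σ)

theorem nm_ne {x : F} (hx : x ≠ 0) : nm σ x ≠ 0 := mul_ne_zero hx ((map_ne_zero σ).2 hx)

theorem two_omega : 2 * E.ω ≠ 0 := mul_ne_zero E.two E.hω0

theorem dt_swap (x y : F) : dt σ E.ω y x = -dt σ E.ω x y := by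
  simp only [dt]; ring

theorem dt_self (x : F) : dt σ E.ω x x = 0 := by simp only [dt]; ring

theorem ne_zero_of_dt {f v : F} (h : dt σ E.ω f v ≠ 0) : f ≠ 0 ∧ v ≠ 0 := by
  constructor <;> rintro rfl <;> exact h (by simp [dt])

theorem nm_mul (x y : F) : nm σ x * nm σ y = ip σ x y ^ 2 - E.ω ^ 2 * dt σ E.ω x y ^ 2 := by
  have := E.two; have := E.hω0
  simp only [nm, ip, dt]
  field_simp
  ring

theorem dt_add (x y z : F) : dt σ E.ω x (y + z) = dt σ E.ω x y + dt σ E.ω x z := by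
  simp only [dt, map_add]; ring

theorem dt_sec_self {v : F} (hv : v ≠ 0) : dt σ E.ω (sec σ E.ω E.τ v) v = 1 := by
  have := E.two; have := E.hω0; have := nm_ne (σ := σ) hv
  have h : σ (nm σ v) = nm σ v := by rw [nm, map_mul, E.hinv, mul_comm]
  simp only [dt, sec, map_div₀, map_mul, map_add, E.hω, E.hτ v hv, h]
  field_simp
  simp only [nm]
  ring

theorem ip_sec_self {v : F} (hv : v ≠ 0) : ip σ (sec σ E.ω E.τ v) v = E.τ v := by
  have := E.two; have := nm_ne (σ := σ) hv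
  have h : σ (nm σ v) = nm σ v := by rw [nm, map_mul, E.hinv, mul_comm]
  simp only [ip, sec, map_div₀, map_mul, map_add, E.hω, E.hτ v hv, h]
  field_simp
  simp only [nm]
  ring

theorem dt_sec {y : F} (hy : y ≠ 0) (x : F) :
    dt σ E.ω x (sec σ E.ω E.τ y) = (-ip σ x y + E.τ y * dt σ E.ω x y) / nm σ y := by
  have := E.two; have := E.hω0; have := nm_ne (σ := σ) hy
  have h : σ (nm σ y) = nm σ y := by rw [nm, map_mul, E.hinv, mul_comm]
  simp only [ip, dt, sec, map_div₀, map_mul, map_add, E.hω, E.hτ y hy, h]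
  field_simp
  ring

theorem dt_refl {f v : F} (h : dt σ E.ω f v = 1) : dt σ E.ω (refl σ E.ω E.τ f v) v = 1 := by
  obtain ⟨-, hv⟩ := E.ne_zero_of_dt (f := f) (v := v) (by rw [h]; exact one_ne_zero)
  have hs := E.dt_sec_self hv
  simp only [dt, refl, map_sub, map_mul, map_ofNat] at *
  linear_combination 2 * hs - h

theorem ip_refl {f v : F} (h : dt σ E.ω f v = 1) :
    ip σ (refl σ E.ω E.τ f v) v = 2 * E.τ v - ip σ f v := by
  obtain ⟨-, hv⟩ := E.ne_zero_of_dt (f := f) (v := v) (by rw [h]; exact one_ne_zero)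
  have hs := E.ip_sec_self hv
  simp only [ip, refl, map_sub, map_mul, map_ofNat] at *
  linear_combination 2 * hs

theorem refl_ne {f v : F} (h : dt σ E.ω f v = 1) : refl σ E.ω E.τ f v ≠ 0 :=
  (E.ne_zero_of_dt (f := refl σ E.ω E.τ f v) (v := v) (by rw [E.dt_refl h]; exact one_ne_zero)).1

theorem dt_third {f v : F} (h : dt σ E.ω f v = 1) :
    dt σ E.ω (refl σ E.ω E.τ f v) (third σ E.ω E.τ f v) = -1 := by
  have h1 := E.dt_refl h
  have h2 := E.dt_sec_self (E.refl_ne h)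
  simp only [dt, third, map_add, map_mul, map_ofNat] at *
  linear_combination h1 - 2 * h2

theorem ip_third {f v : F} (h : dt σ E.ω f v = 1) :
    ip σ (refl σ E.ω E.τ f v) (third σ E.ω E.τ f v) =
      2 * E.τ v - ip σ f v + 2 * E.τ (refl σ E.ω E.τ f v) := by
  have h1 := E.ip_refl h
  have h2 := E.ip_sec_self (E.refl_ne h)
  simp only [ip, third, map_add, map_mul, map_ofNat] at *
  linear_combination h1 + 2 * h2

theorem third_ne {f v : F} (h : dt σ E.ω f v = 1) : third σ E.ω E.τ f v ≠ 0 :=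
  (E.ne_zero_of_dt (f := refl σ E.ω E.τ f v) (v := third σ E.ω E.τ f v)
    (by rw [E.dt_third h]; exact neg_ne_zero.2 one_ne_zero)).2

theorem τ_third {f v : F} (h : dt σ E.ω f v = 1) : E.τ (third σ E.ω E.τ f v) = E.τ f := by
  obtain ⟨γ, hγ, e⟩ := E.r1 f v h
  rw [e, E.τ_smul γ hγ f (E.ne_zero_of_dt (f := f) (v := v) (by rw [h]; exact one_ne_zero)).1]

/-- The three-step identity. -/
theorem τ_sum {f v : F} (h : dt σ E.ω f v = 1) :
    E.τ v + E.τ f + E.τ (refl σ E.ω E.τ f v) = 0 := by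
  obtain ⟨hf, -⟩ := E.ne_zero_of_dt (f := f) (v := v) (by rw [h]; exact one_ne_zero)
  have h2 := E.r2 f v h
  rw [E.dt_sec (E.third_ne h), E.dt_sec hf, div_mul_cancel₀ _ (nm_ne (E.third_ne h)),
    div_mul_cancel₀ _ (nm_ne hf), E.ip_third h, E.dt_third h, E.τ_third h,
    show ip σ v f = ip σ f v by simp only [ip]; ring, E.dt_swap f v, h] at h2
  exact (mul_eq_zero.1 (show (2 : F) * (E.τ v + E.τ f + E.τ (refl σ E.ω E.τ f v)) = 0 by
    linear_combination -h2)).resolve_left E.two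

variable [Fintype F]

theorem exists_sum {a b : F} (ha : a ≠ 0) (hb : b ≠ 0) :
    ∃ c : F, c ≠ 0 ∧ E.τ a + E.τ b + E.τ c = 0 := by
  obtain ⟨γ, hγ, hγr⟩ := E.exists_nonreal
  obtain ⟨b', hb', hd⟩ : ∃ b', E.τ b' = E.τ b ∧ dt σ E.ω b' a ≠ 0 := by
    by_cases h : dt σ E.ω b a = 0
    · refine ⟨(γ : F) * b, E.τ_smul γ hγ b hb, fun h' => ?_⟩
      have h1 : b * σ a = σ b * a := by
        simpa [dt, E.two_omega, sub_eq_zero] using h
      have h2 : (γ : F) * b * σ a = σ (γ : F) * σ b * a := by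
        simpa [dt, E.two_omega, sub_eq_zero, map_mul] using h'
      refine hγr (mul_right_cancel₀ (mul_ne_zero hb ((map_ne_zero σ).2 ha)) ?_)
      linear_combination -h2 + σ (γ : F) * h1
    · exact ⟨b, rfl, h⟩
  set d := dt σ E.ω b' a with hd'
  have hdr : σ d = d := by
    rw [hd', dt, map_div₀, map_sub, map_mul, map_mul, map_mul, map_ofNat, E.hinv, E.hinv, E.hω]
    field_simp [E.hω0, E.two]
    ring
  have hdi : σ d⁻¹ = d⁻¹ := by rw [map_inv₀, hdr]
  have hdt : dt σ E.ω (d⁻¹ * b') a = 1 := by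
    rw [show dt σ E.ω (d⁻¹ * b') a = d⁻¹ * dt σ E.ω b' a by simp only [dt, map_mul, hdi]; ring,
      ← hd', inv_mul_cancel₀ hd]
  refine ⟨_, E.refl_ne hdt, ?_⟩
  have := E.τ_sum hdt
  rwa [show d⁻¹ * b' = ((Units.mk0 d⁻¹ (inv_ne_zero hd) : Fˣ) : F) * b' from rfl,
    E.τ_smul _ (E.real_mem _ hdi) b' (E.ne_zero_of_dt hd).1, hb'] at this

/-- `τ` takes a single value `c` with `3 c = 0`. -/
theorem exists_const : ∃ c : F, σ c = c ∧ 3 * c = 0 ∧ ∀ v, v ≠ 0 → E.τ v = c := by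
  classical
  set T : Finset F := (Finset.univ : Finset Fˣ).image fun v : Fˣ => E.τ (v : F) with hT
  have hmem : ∀ {v : F}, v ≠ 0 → E.τ v ∈ T := fun {v} hv => Finset.mem_image.2 ⟨Units.mk0 v hv, Finset.mem_univ _, rfl⟩
  have hcl : ∀ s ∈ T, ∀ t ∈ T, -s - t ∈ T := by
    intro s hs t ht
    obtain ⟨a, -, rfl⟩ := Finset.mem_image.1 hs
    obtain ⟨b, -, rfl⟩ := Finset.mem_image.1 ht
    obtain ⟨c, hc, h⟩ := E.exists_sum a.ne_zero b.ne_zero
    rw [show -E.τ a - E.τ b = E.τ c by linear_combination -h]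
    exact hmem hc
  haveI : Fintype (Fˣ ⧸ E.Γ) := Fintype.ofFinite _
  have hcard : T.card ≤ E.Γ.index := by
    rw [Subgroup.index_eq_card, Nat.card_eq_fintype_card, ← Finset.card_univ]
    refine Finset.card_le_card_of_surjOn (fun x : Fˣ ⧸ E.Γ => E.τ ((x.out : Fˣ) : F)) fun t ht => ?_
    obtain ⟨a, -, rfl⟩ := Finset.mem_image.1 ht
    refine ⟨(a : Fˣ ⧸ E.Γ), Finset.mem_coe.2 (Finset.mem_univ _), ?_⟩
    obtain ⟨γ, hγ⟩ := QuotientGroup.mk_out_eq_mul E.Γ a
    show E.τ (((a : Fˣ ⧸ E.Γ).out : Fˣ) : F) = E.τ a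
    rw [hγ, Units.val_mul, mul_comm]
    exact E.τ_smul _ γ.2 _ a.ne_zero
  have hc0 : (T.card : F) ≠ 0 := by
    have hpos : 0 < T.card := Finset.card_pos.2 ⟨_, hmem one_ne_zero⟩
    have h3 := Nat.le_of_dvd (by norm_num) E.index
    intro h
    obtain h1 | h1 | h1 : T.card = 1 ∨ T.card = 2 ∨ T.card = 3 := by omega
    · rw [h1, Nat.cast_one] at h; exact one_ne_zero h
    · rw [h1, Nat.cast_ofNat] at h; exact E.two h
    · rw [h1, Nat.cast_ofNat] at h
      have := E.char_three h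
      omega
  have hsum : ∀ s ∈ T, (T.card : F) * s = -2 * ∑ t ∈ T, t := by
    intro s hs
    have himg : T.image (fun t => -s - t) = T := Finset.eq_of_subset_of_card_le
      (fun x hx => by obtain ⟨t, ht, rfl⟩ := Finset.mem_image.1 hx; exact hcl s hs t ht)
      (Finset.card_image_of_injective T sub_right_injective).ge
    have h := Finset.sum_image (f := fun x : F => x) (g := fun t => -s - t) (s := T) (fun x _ y _ h => by simpa using h)
    rw [himg, Finset.sum_sub_distrib, Finset.sum_const, nsmul_eq_mul] at h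
    linear_combination h
  have huniq : ∀ v, v ≠ 0 → E.τ v = E.τ 1 := fun v hv =>
    mul_left_cancel₀ hc0 ((hsum _ (hmem hv)).trans (hsum _ (hmem one_ne_zero)).symm)
  refine ⟨E.τ 1, E.hτ 1 one_ne_zero, ?_, huniq⟩
  obtain ⟨c, hc, h⟩ := E.exists_sum (one_ne_zero (α := F)) one_ne_zero
  rw [huniq c hc] at h
  linear_combination h

variable {c : F} (hc : σ c = c) (hτc : ∀ v, v ≠ 0 → E.τ v = c)
include hc hτc

/-- The product identity with `τ` constant. -/
theorem β_general {f v s : F} (h : dt σ E.ω f v = 1) (hs : σ s = s) (hs0 : s ≠ 0) :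
    E.β f (f + s * v) = 2 * ((-(ip σ f v + s * nm σ v) - c) / nm σ (f + s * v) - (-ip σ f v - c) / nm σ f -
      nm σ (third σ E.ω E.τ f v) / nm σ f *
        ((-(4 * c - ip σ f v) + nm σ (refl σ E.ω E.τ f v) / s - c) /
          nm σ (third σ E.ω E.τ f v - refl σ E.ω E.τ f v / s))) := by
  obtain ⟨hf, hv⟩ := E.ne_zero_of_dt (f := f) (v := v) (by rw [h]; exact one_ne_zero)
  have hfr := E.refl_ne h
  have h3 : dt σ E.ω (refl σ E.ω E.τ f v) (third σ E.ω E.τ f v - refl σ E.ω E.τ f v / s) = -1 := by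
    have := E.dt_third h
    simp only [dt, map_sub, map_div₀, hs] at this ⊢
    linear_combination this
  have hx0 := (E.ne_zero_of_dt (f := refl σ E.ω E.τ f v) (v := third σ E.ω E.τ f v - refl σ E.ω E.τ f v / s)
    (by rw [h3]; exact neg_ne_zero.2 one_ne_zero)).2
  have hg : dt σ E.ω (f + s * v) v = 1 := by
    simp only [dt, map_add, map_mul, hs] at h ⊢
    linear_combination h
  obtain ⟨hg0, -⟩ := E.ne_zero_of_dt (f := f + s * v) (v := v) (by rw [hg]; exact one_ne_zero)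
  have hi : ip σ (refl σ E.ω E.τ f v) (third σ E.ω E.τ f v - refl σ E.ω E.τ f v / s) =
      4 * c - ip σ f v - nm σ (refl σ E.ω E.τ f v) / s := by
    rw [show ip σ (refl σ E.ω E.τ f v) (third σ E.ω E.τ f v - refl σ E.ω E.τ f v / s) =
        ip σ (refl σ E.ω E.τ f v) (third σ E.ω E.τ f v) - nm σ (refl σ E.ω E.τ f v) / s by
      have := E.two
      simp only [ip, nm, map_sub, map_div₀, hs]
      field_simp
      ring,
      E.ip_third h, hτc v hv, hτc _ hfr]
    ring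
  have hig : ip σ v (f + s * v) = ip σ f v + s * nm σ v := by
    have := E.two
    simp only [ip, nm, map_add, map_mul, hs]
    field_simp
    ring
  rw [E.r3 f v s h hs hs0, E.dt_sec hx0, E.dt_sec hf, E.dt_sec hg0, hτc _ hg0, hτc _ hf, hτc _ hx0, h3,
    hi, hig, show ip σ v f = ip σ f v by simp only [ip]; ring, E.dt_swap f v, h, E.dt_swap (f + s * v) v, hg]
  ring

/-- In characteristic three the value is zero. -/
theorem const_eq_zero (h3 : 3 * c = 0) : c = 0 := by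
  by_contra hc0
  have h30 : (3 : F) = 0 := (mul_eq_zero.1 h3).resolve_right hc0
  set D := -E.ω ^ 2 with hD
  have hD0 : D ≠ 0 := neg_ne_zero.2 (pow_ne_zero 2 E.hω0)
  have := E.two
  have := E.hω0
  have hdt : ∀ y : F, σ y = y → dt σ E.ω (y + E.ω) 1 = 1 := fun y hy => by
    simp only [dt, map_add, map_one, hy, E.hω]; field_simp; ring
  have hrefl : ∀ y : F, refl σ E.ω E.τ (y + E.ω) 1 = (2 * c - y) + E.ω := fun y => by
    simp only [refl, sec, nm, map_one, hτc 1 one_ne_zero]; ring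
  have hip : ∀ y : F, σ y = y → ip σ (y + E.ω) 1 = y := fun y hy => by
    simp only [ip, map_add, map_one, hy, E.hω]; field_simp; ring
  have hnm : ∀ y : F, σ y = y → nm σ (y + E.ω) = y ^ 2 + D := fun y hy => by
    simp only [nm, map_add, hy, E.hω, hD]; ring
  have h2c : ∀ y : F, σ y = y → σ (2 * c - y) = 2 * c - y := fun y hy => by
    rw [map_sub, map_mul, map_ofNat, hc, hy]
  -- the third row
  have hthird : ∀ y : F, σ y = y → third σ E.ω E.τ (y + E.ω) 1 * (2 * c - y - E.ω) = 4 * c - y + E.ω := fun y hy => by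
    have hne := E.refl_ne (hdt y hy)
    have hN : (2 * c - y + E.ω) * (2 * c - y - E.ω) ≠ 0 := by
      have := nm_ne (σ := σ) hne
      rwa [hrefl, nm, map_add, h2c y hy, E.hω, ← sub_eq_add_neg] at this
    have hsec : sec σ E.ω E.τ (refl σ E.ω E.τ (y + E.ω) 1) * (2 * c - y - E.ω) = E.ω + c := by
      rw [sec, hτc _ hne, hrefl, nm, map_add, h2c y hy, E.hω, ← sub_eq_add_neg, div_mul_eq_mul_div,
        div_eq_iff hN]
      ring
    simp only [third]
    linear_combination 2 * hsec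
  have hC : ∀ y : F, σ y = y → nm σ (third σ E.ω E.τ (y + E.ω) 1) * ((2 * c - y) ^ 2 + D) = (4 * c - y) ^ 2 + D :=
    fun y hy => by
    have e := hthird y hy
    have e' := congrArg σ e
    simp only [map_mul, map_sub, map_add, map_ofNat, hc, hy, E.hω] at e'
    simp only [nm, hD]
    linear_combination (σ (third σ E.ω E.τ (y + E.ω) 1) * (2 * c - y - -E.ω)) * e + (4 * c - y + E.ω) * e'
  have hP : ∀ y s : F, σ y = y → σ s = s →
      nm σ (third σ E.ω E.τ (y + E.ω) 1 - refl σ E.ω E.τ (y + E.ω) 1 / s) =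
        nm σ (third σ E.ω E.τ (y + E.ω) 1) - 2 * (4 * c - y) / s + ((2 * c - y) ^ 2 + D) / s ^ 2 := fun y s hy hs => by
    have h := E.ip_third (hdt y hy)
    rw [hτc 1 one_ne_zero, hτc _ (E.refl_ne (hdt y hy)), hip y hy] at h
    have hr : nm σ (refl σ E.ω E.τ (y + E.ω) 1) = (2 * c - y) ^ 2 + D := by rw [hrefl, hnm _ (h2c y hy)]
    rw [← hr, show nm σ (third σ E.ω E.τ (y + E.ω) 1 - refl σ E.ω E.τ (y + E.ω) 1 / s) =
      nm σ (third σ E.ω E.τ (y + E.ω) 1) - 2 * ip σ (refl σ E.ω E.τ (y + E.ω) 1) (third σ E.ω E.τ (y + E.ω) 1) / s +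
        nm σ (refl σ E.ω E.τ (y + E.ω) 1) / s ^ 2 by simp only [nm, ip, map_sub, map_div₀, hs]; field_simp; ring, h]
    ring
  have hval : ∀ y s : F, σ y = y → σ s = s → s ≠ 0 → E.β (y + E.ω) (y + s + E.ω) =
      2 * ((-(y + s) - c) / ((y + s) ^ 2 + D) - (-y - c) / (y ^ 2 + D) -
        nm σ (third σ E.ω E.τ (y + E.ω) 1) / (y ^ 2 + D) * ((-(4 * c - y) + ((2 * c - y) ^ 2 + D) / s - c) /
          (nm σ (third σ E.ω E.τ (y + E.ω) 1) - 2 * (4 * c - y) / s + ((2 * c - y) ^ 2 + D) / s ^ 2))) := by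
    intro y s hy hs hs0
    have h := E.β_general hc hτc (hdt y hy) hs hs0
    have hys : σ (y + s) = y + s := by rw [map_add, hy, hs]
    rwa [hP y s hy hs, hip y hy, hrefl, hnm _ (h2c y hy), hnm y hy, show nm σ (1 : F) = 1 by simp [nm], mul_one,
      show y + E.ω + s = y + s + E.ω by ring, hnm _ hys] at h
  have h00 : σ (0 : F) = 0 := map_zero σ
  have hDE : c ^ 2 + D ≠ 0 := by
    have := nm_ne (σ := σ) (E.ne_zero_of_dt (f := c + E.ω) (v := 1) (by rw [hdt c hc]; exact one_ne_zero)).1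
    rwa [hnm c hc] at this
  have hC0 : nm σ (third σ E.ω E.τ (0 + E.ω) 1) = 1 := by
    refine mul_right_cancel₀ hDE ?_
    linear_combination hC 0 h00 + (-nm σ (third σ E.ω E.τ (0 + E.ω) 1) * c ^ 2 + 5 * c ^ 2) * h30
  have hC1 : nm σ (third σ E.ω E.τ (c + E.ω) 1) = D / (c ^ 2 + D) := by
    rw [eq_div_iff hDE]
    linear_combination hC c hc + (3 * c ^ 2) * h30
  have e1 := hval 0 c h00 hc hc0
  have e2 := hval c (-c) hc (by rw [map_neg, hc]) (neg_ne_zero.2 hc0)
  have hanti := E.β_anti (0 + E.ω) (0 + c + E.ω) (by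
    have : dt σ E.ω (0 + E.ω) (0 + c + E.ω) = c := by
      simp only [dt, map_add, map_zero, hc, E.hω]; field_simp; ring
    rw [this]; exact hc0)
  rw [show E.β (0 + c + E.ω) (0 + E.ω) = E.β (c + E.ω) (c + -c + E.ω) by
    rw [zero_add c, add_neg_cancel, zero_add]] at hanti
  rw [e1, e2, hC0, hC1] at hanti
  have p1 : 1 - 2 * (4 * c - 0) / c + ((2 * c - 0) ^ 2 + D) / c ^ 2 = D / c ^ 2 := by
    field_simp
    linear_combination -(c ^ 2) * h30
  have p2 : D / (c ^ 2 + D) - 2 * (4 * c - c) / -c + ((2 * c - c) ^ 2 + D) / (-c) ^ 2 =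
      (D * c ^ 2 + (c ^ 2 + D) ^ 2) / ((c ^ 2 + D) * c ^ 2) := by
    field_simp
    linear_combination (2 * c ^ 2 * (c ^ 2 + D)) * h30
  rw [p1, p2] at hanti
  have hQ : D * c ^ 2 + (c ^ 2 + D) ^ 2 ≠ 0 := by
    have h := E.third_ne (hdt c hc)
    intro hQ
    have := nm_ne (σ := σ) (show third σ E.ω E.τ (c + E.ω) 1 - refl σ E.ω E.τ (c + E.ω) 1 / -c ≠ 0 from fun h0 =>
      absurd (E.dt_third (hdt c hc)) (by
        rw [sub_eq_zero.1 h0, show dt σ E.ω (refl σ E.ω E.τ (c + E.ω) 1) (refl σ E.ω E.τ (c + E.ω) 1 / -c) = 0 by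
          simp only [dt, map_div₀, map_neg, hc]; ring]
        exact fun e => one_ne_zero (neg_eq_zero.1 e.symm)))
    rw [hP c (-c) hc (by rw [map_neg, hc]), hC1, p2, hQ, zero_div] at this
    exact this rfl
  have hcube : c ^ 2 * (D - c ^ 2) ^ 3 = 0 := by
    have q1 : (1 : F) / (0 ^ 2 + D) * ((-(4 * c - 0) + ((2 * c - 0) ^ 2 + D) / c - c) / (D / c ^ 2)) =
        c * (D - c ^ 2) / D ^ 2 := by
      simp only [zero_pow two_ne_zero, zero_add]
      field_simp
      ring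
    have q2 : D / (c ^ 2 + D) / (c ^ 2 + D) * ((-(4 * c - c) + ((2 * c - c) ^ 2 + D) / -c - c) /
        ((D * c ^ 2 + (c ^ 2 + D) ^ 2) / ((c ^ 2 + D) * c ^ 2))) =
        -(D * c * (5 * c ^ 2 + D)) / ((c ^ 2 + D) * (D * c ^ 2 + (c ^ 2 + D) ^ 2)) := by
      field_simp
      ring
    rw [q1, q2] at hanti
    have hsum : (2 : F) * (c * (D - c ^ 2) / D ^ 2 +
        -(D * c * (5 * c ^ 2 + D)) / ((c ^ 2 + D) * (D * c ^ 2 + (c ^ 2 + D) ^ 2))) = 0 := by
      linear_combination -hanti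
    have hm := (mul_eq_zero.1 hsum).resolve_left E.two
    rw [div_add_div _ _ (pow_ne_zero 2 hD0) (mul_ne_zero hDE hQ), div_eq_zero_iff] at hm
    have hn := hm.resolve_right (mul_ne_zero (pow_ne_zero 2 hD0) (mul_ne_zero hDE hQ))
    have hk : (D - c ^ 2) * ((c ^ 2 + D) * (D * c ^ 2 + (c ^ 2 + D) ^ 2)) - D ^ 3 * (5 * c ^ 2 + D) = 0 := by
      refine (mul_eq_zero.1 (show c * _ = 0 from ?_)).resolve_left hc0
      linear_combination hn
    linear_combination hk + (2 * c ^ 2 * D ^ 3 - (D - c ^ 2) * (c ^ 2 * D ^ 2 + c ^ 4 * D) - c ^ 2 * (D - c ^ 2) * (c ^ 2 * D + D ^ 2 - D * c ^ 2 - D ^ 2) + (c ^ 6 * D - c ^ 4 * D ^ 2)) * h30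
  have hDc : D = c ^ 2 := sub_eq_zero.1 (pow_eq_zero_iff (n := 3) (by norm_num) |>.1
    ((mul_eq_zero.1 hcube).resolve_left (pow_ne_zero 2 hc0)))
  -- the fourth identity fails
  refine E.r4 (0 + E.ω) 1 (-c) (hdt 0 h00) (by rw [map_neg, hc]) (neg_ne_zero.2 hc0) ?_
  have e := hthird 0 h00
  have hX : 2 * c - 0 - E.ω ≠ 0 := fun h => by
    have := nm_ne (σ := σ) (E.refl_ne (hdt 0 h00))
    rw [hrefl, nm, map_add, h2c 0 h00, E.hω] at this
    exact this (by rw [← sub_eq_add_neg, h, mul_zero])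
  set T := third σ E.ω E.τ (0 + E.ω) 1 with hT
  have key : T * (2 * E.ω * c - c ^ 2) + E.ω * (2 * c + E.ω) = 0 := by
    refine (mul_eq_zero.1 (show _ * (2 * c - 0 - E.ω) = 0 from ?_)).resolve_right hX
    rw [hD] at hDc
    linear_combination (2 * E.ω * c - c ^ 2) * e - (2 * c - E.ω) * hDc + (4 * E.ω * c ^ 2 - 2 * c ^ 3) * h30
  rw [hrefl]
  field_simp
  linear_combination key

/-- The pairing, when `τ` vanishes. -/
theorem β_eq (h0 : c = 0) {f g : F} (hd : dt σ E.ω f g ≠ 0) :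
    E.β f g = 4 * E.ω ^ 2 * dt σ E.ω f g / (nm σ f * nm σ g) := by
  subst h0
  obtain ⟨hf, hg⟩ := E.ne_zero_of_dt hd
  have := E.two
  have := E.hω0
  set s := dt σ E.ω f g with hs'
  have hs : σ s = s := by
    rw [hs', dt, map_div₀, map_sub, map_mul, map_mul, map_mul, map_ofNat, E.hinv, E.hinv, E.hω]
    field_simp
    ring
  set v := (g - f) / s with hv'
  have hdv : dt σ E.ω f v = 1 := by
    rw [hv', show dt σ E.ω f ((g - f) / s) = (dt σ E.ω f g - dt σ E.ω f f) / s by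
      simp only [dt, map_div₀, map_sub, hs]; ring, E.dt_self, sub_zero, ← hs', div_self hd]
  have hg' : f + s * v = g := by rw [hv']; field_simp; ring
  have hv := (E.ne_zero_of_dt (f := f) (v := v) (by rw [hdv]; exact one_ne_zero)).2
  have hNf := nm_ne (σ := σ) hf
  have hNg := nm_ne (σ := σ) hg
  have hNv := nm_ne (σ := σ) hv
  have hfr := E.refl_ne hdv
  have e := E.β_general hc hτc hdv hs hd
  rw [hg'] at e
  have hsv : σ v * v = nm σ v := by rw [nm, mul_comm]
  have hr : nm σ (refl σ E.ω E.τ f v) = nm σ f := by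
    have h := E.nm_mul (refl σ E.ω E.τ f v) v
    rw [E.ip_refl hdv, E.dt_refl hdv, hτc v hv] at h
    refine mul_right_cancel₀ hNv ?_
    rw [h, E.nm_mul, hdv]; ring
  have ht : nm σ (third σ E.ω E.τ f v) = nm σ v := by
    have h := E.nm_mul (refl σ E.ω E.τ f v) (third σ E.ω E.τ f v)
    rw [E.ip_third hdv, E.dt_third hdv, hτc v hv, hτc _ hfr, hr] at h
    refine mul_left_cancel₀ hNf ?_
    rw [h, E.nm_mul, hdv]; ring
  have hx : nm σ (third σ E.ω E.τ f v - refl σ E.ω E.τ f v / s) = nm σ g / s ^ 2 := by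
    rw [show nm σ (third σ E.ω E.τ f v - refl σ E.ω E.τ f v / s) =
      nm σ (third σ E.ω E.τ f v) - 2 * ip σ (refl σ E.ω E.τ f v) (third σ E.ω E.τ f v) / s +
        nm σ (refl σ E.ω E.τ f v) / s ^ 2 by simp only [nm, ip, map_sub, map_div₀, hs]; field_simp; ring,
      ht, hr, E.ip_third hdv, hτc v hv, hτc _ hfr, ← hg']
    simp only [nm, ip, map_add, map_mul, hs]
    field_simp
    ring
  rw [hx, hr, ht] at e
  have hNg' : nm σ g = nm σ f + 2 * s * ip σ f v + s ^ 2 * nm σ v := by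
    rw [← hg']; simp only [nm, ip, map_add, map_mul, hs]; field_simp; ring
  have hprod := E.nm_mul f v
  rw [hdv] at hprod
  rw [e]
  field_simp
  rw [hNg']
  linear_combination (-4 * s) * hprod

end UnitaryEqs

end Cfsg.Agent.ONanU3
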