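import Cfsg.Agent.Lib.ONanU3.BlockField
import Cfsg.Agent.Lib.Classical.TwoByTwo

/-!
# O'Nan's theorem: `SL₂` is regular off the fixed points of the central involution

An element of `SL₂` of odd prime order fixing a point off `F = Fix j` would be conjugate into the kernel `K` of
the two-point stabiliser on `F`; it is inverted in `SL₂`, while the stabiliser of `F` centralises `K`.
-/

set_option autoImplicit false
set_option linter.style.haveILetI false
set_option linter.unusedSectionVars false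

namespace Cfsg.Agent.ONanU3

universe u v

open MulAction Matrix

section Matrices

variable {k : Type} [Field k]

local notation "SL" => SpecialLinearGroup (Fin 2) k

theorem det_eq_one (m : SL) : m.1 0 0 * m.1 1 1 - m.1 0 1 * m.1 1 0 = 1 := by
  have h := m.2
  rwa [Matrix.det_fin_two] at h

theorem eq_one_or_neg_one (m : SL) (h01 : m.1 0 1 = 0) (h10 : m.1 1 0 = 0) (h : m.1 0 0 = m.1 1 1) :
    m = 1 ∨ m = -1 := by
  have hd := det_eq_one m
  rw [h01, h10, h, mul_zero, sub_zero] at hd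
  rcases mul_self_eq_one_iff.1 hd with h1 | h1
  · left
    apply Subtype.ext
    ext i j
    fin_cases i <;> fin_cases j <;> simp [h01, h10, h, h1]
  · right
    apply Subtype.ext
    ext i j
    fin_cases i <;> fin_cases j <;> simp [h01, h10, h, h1]

theorem invol_eq_neg_one (h2 : (2 : k) ≠ 0) (m : SL) (hm : m * m = 1) (h1 : m ≠ 1) : m = -1 := by
  have e : m.1 * m.1 = 1 := congrArg Subtype.val hm
  have e00 := congrFun (congrFun e 0) 0
  have e01 := congrFun (congrFun e 0) 1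
  have e10 := congrFun (congrFun e 1) 0
  simp [Matrix.mul_apply, Fin.sum_univ_two] at e00 e01 e10
  have hd := det_eq_one m
  by_cases ht : m.1 0 0 + m.1 1 1 = 0
  · exfalso
    exact h2 (by linear_combination (-1 : k) * e00 + (-1 : k) * hd + m.1 0 0 * ht)
  · have h01 : m.1 0 1 = 0 :=
      (mul_eq_zero.1 (by linear_combination e01 : m.1 0 1 * (m.1 0 0 + m.1 1 1) = 0)).resolve_right ht
    have h10 : m.1 1 0 = 0 :=
      (mul_eq_zero.1 (by linear_combination e10 : m.1 1 0 * (m.1 0 0 + m.1 1 1) = 0)).resolve_right ht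
    rw [h01, zero_mul, add_zero] at e00
    rw [h01, zero_mul, sub_zero] at hd
    have h0 : m.1 0 0 ≠ 0 := fun e0 => by rw [e0, zero_mul] at e00; exact zero_ne_one e00
    exact (eq_one_or_neg_one m h01 h10 (mul_left_cancel₀ h0 (e00.trans hd.symm))).resolve_left h1

/-- A unipotent element up to sign has order dividing twice the characteristic. -/
theorem pow_two_char {p : ℕ} (hp : (p : k) = 0) (h2 : (2 : k) ≠ 0) (m : SL)
    (ht : (m.1 0 0 + m.1 1 1) ^ 2 = 4) : m ^ (2 * p) = 1 := by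
  set ε : k := (m.1 0 0 + m.1 1 1) / 2 with hε
  have hε2 : 2 * ε = m.1 0 0 + m.1 1 1 := by rw [hε]; field_simp
  have hεε : ε * ε = 1 := by
    have h4 : (2 * 2 : k) * (ε * ε - 1) = 0 := by
      linear_combination ht + (2 * ε + (m.1 0 0 + m.1 1 1)) * hε2
    exact sub_eq_zero.1 ((mul_eq_zero.1 h4).resolve_left (mul_ne_zero h2 h2))
  have hd := det_eq_one m
  set N : Matrix (Fin 2) (Fin 2) k := ε • m.1 - 1 with hN
  have hNN : N * N = 0 := by
    ext i j
    fin_cases i <;> fin_cases j <;>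
      simp [hN, Matrix.mul_apply, Fin.sum_univ_two, Matrix.one_apply] <;> grind
  have hpow : ∀ i : ℕ, (ε • m.1) ^ i = 1 + (i : k) • N := by
    intro i
    induction i with
    | zero => simp
    | succ i ih =>
      rw [pow_succ, ih, show ε • m.1 = 1 + N from (add_sub_cancel _ _).symm, add_mul, one_mul,
        smul_mul_assoc, mul_add, mul_one, hNN, add_zero, Nat.cast_add, Nat.cast_one, add_smul, one_smul]
      abel
  have h := hpow (2 * p)
  rw [Nat.cast_mul, hp, mul_zero, zero_smul, add_zero, smul_pow, pow_mul ε, pow_two, hεε, one_pow,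
    one_smul] at h
  exact Subtype.ext ((Matrix.SpecialLinearGroup.coe_pow m _).trans h)

/-- An element whose trace is not `±2` is conjugate to its inverse. -/
theorem exists_inverter [Fintype k] (hodd : Fintype.card k % 2 = 1) (h2 : (2 : k) ≠ 0) (m : SL)
    (ht : (m.1 0 0 + m.1 1 1) ^ 2 ≠ 4) : ∃ w : SL, w * m * w⁻¹ = m⁻¹ := by
  have hd := det_eq_one m
  obtain ⟨u, v, w, hdet, htr⟩ : ∃ u v w : k, -(u * u) - v * w = 1 ∧
      u * (m.1 0 0 - m.1 1 1) + v * m.1 1 0 + w * m.1 0 1 = 0 := by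
    by_cases h10 : m.1 1 0 = 0
    · have hne : m.1 0 0 - m.1 1 1 ≠ 0 := fun e => ht (by
        rw [h10, mul_zero, sub_zero] at hd
        linear_combination (m.1 0 0 - m.1 1 1) * e + 4 * hd)
      refine ⟨m.1 0 1 / (m.1 0 0 - m.1 1 1), 1 + (m.1 0 1 / (m.1 0 0 - m.1 1 1)) ^ 2, -1, by ring, ?_⟩
      rw [h10, div_mul_cancel₀ _ hne]
      ring
    · set D : k := ((m.1 0 0 + m.1 1 1) ^ 2 - 4) / (4 * m.1 1 0 ^ 2) with hD
      have h4 : (4 : k) ≠ 0 := by
        rw [show (4 : k) = 2 * 2 by norm_num]; exact mul_ne_zero h2 h2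
      have hD0 : D ≠ 0 := div_ne_zero (sub_ne_zero.2 ht) (mul_ne_zero h4 (pow_ne_zero _ h10))
      obtain ⟨a, b, hab⟩ := FiniteField.exists_root_sum_quadratic
        (f := -(Polynomial.X ^ 2 : Polynomial k))
        (g := Polynomial.C D * Polynomial.X ^ 2 - Polynomial.C 1)
        (by simp [Polynomial.degree_neg])
        (by rw [Polynomial.degree_sub_eq_left_of_degree_lt] <;>
            rw [Polynomial.degree_C_mul_X_pow 2 hD0]
            · rfl
            · rw [Polynomial.degree_C one_ne_zero]; decide)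
        hodd
      simp only [Polynomial.eval_neg, Polynomial.eval_pow, Polynomial.eval_X, Polynomial.eval_sub,
        Polynomial.eval_mul, Polynomial.eval_C] at hab
      refine ⟨a + (m.1 0 0 - m.1 1 1) / (2 * m.1 1 0) * b,
        -((a + (m.1 0 0 - m.1 1 1) / (2 * m.1 1 0) * b) * (m.1 0 0 - m.1 1 1) + b * m.1 0 1) / m.1 1 0,
        b, ?_, ?_⟩
      · rw [hD] at hab
        field_simp at hab ⊢
        linear_combination hab - 4 * b ^ 2 * hd
      · field_simp
        ring
  refine ⟨⟨!![u, v; w, -u], by rw [Matrix.det_fin_two_of]; linear_combination hdet⟩, ?_⟩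
  refine mul_inv_eq_iff_eq_mul.2 (Subtype.ext ?_)
  show !![u, v; w, -u] * m.1 = Matrix.adjugate m.1 * !![u, v; w, -u]
  rw [Matrix.adjugate_fin_two]
  ext i j
  fin_cases i <;> fin_cases j <;> simp [Matrix.mul_apply, Fin.sum_univ_two] <;> grind

theorem scaleS_one (m : SL) : scaleS 1 m = m := by
  apply Subtype.ext
  ext i j
  fin_cases i <;> fin_cases j <;> simp [scaleS]

theorem big_cell (m : SL) (h : m.1 1 0 ≠ 0) :
    m = zS (m.1 0 0 / m.1 1 0) * nS (Units.mk0 (-(m.1 1 0)⁻¹) (neg_ne_zero.2 (inv_ne_zero h))) *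
      zS (m.1 1 1 / m.1 1 0) := by
  have hd := det_eq_one m
  refine Subtype.ext ?_
  show m.1 = !![1, _; 0, 1] * !![0, _; _, 0] * !![1, _; 0, 1]
  ext i j
  fin_cases i <;> fin_cases j <;> simp [Matrix.mul_apply, Fin.sum_univ_two] <;> field_simp <;>
    grind

theorem small_cell (m : SL) (h : m.1 1 0 = 0) :
    ∃ c : kˣ, (c : k) = m.1 0 0 ∧ m = zS (m.1 0 0 * m.1 0 1) * (nS c * nS (-1)) := by
  have hd := det_eq_one m
  rw [h, mul_zero, sub_zero] at hd
  refine ⟨Units.mk0 (m.1 0 0) fun e => by rw [e, zero_mul] at hd; exact zero_ne_one hd, rfl, ?_⟩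
  have h0 : m.1 0 0 ≠ 0 := fun e => by rw [e, zero_mul] at hd; exact zero_ne_one hd
  refine Subtype.ext ?_
  show m.1 = !![1, _; 0, 1] * (!![0, _; _, 0] * !![0, _; _, 0])
  ext i j
  fin_cases i <;> fin_cases j <;> simp [Matrix.mul_apply, Fin.sum_univ_two, h] <;> field_simp <;>
    grind

end Matrices

variable {G : Type u} [Group G] [Finite G] {Ω : Type v} [MulAction G Ω] [Finite Ω] {p n : ℕ}
variable {P : Pre G Ω p n} {k : Type} [Field k] {C : Coord P k}

namespace Lift

variable (L : Lift C)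
include L

theorem big_a (m : SpecialLinearGroup (Fin 2) k) (h : m.1 1 0 ≠ 0) :
    L.φ m • P.a = C.pt (m.1 0 0 / m.1 1 0) := by
  conv_lhs => rw [big_cell m h]
  rw [map_mul, map_mul, L.φ_z, L.φ_z, mul_smul, mul_smul, C.z_a, L.n_a]
  rfl

theorem diag_b (c : kˣ) : L.φ (nS c * nS (-1)) • P.b = P.b := by
  rw [map_mul, mul_smul, L.n_b, L.n_a]

theorem diag_pt (c : kˣ) {x : k} (hx : x ≠ 0) :
    L.φ (nS c * nS (-1)) • C.pt x = C.pt ((c : k) ^ 2 * x) := by
  rw [map_mul, mul_smul, L.n_pt _ _ hx, L.n_pt _ _ (neg_ne_zero.2 (div_ne_zero (pow_ne_zero _ (Units.ne_zero _)) hx))]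
  congr 1
  simp
  field_simp

theorem φ_inj (hneg : L.φ (-1) = P.j) : Function.Injective L.φ := by
  refine (injective_iff_map_eq_one L.φ).2 fun m hm => ?_
  have h10 : m.1 1 0 = 0 := by
    by_contra h
    have e := L.big_a m h
    rw [hm, one_smul] at e
    exact C.pt_ne_a _ e.symm
  obtain ⟨c, hc, hmc⟩ := small_cell m h10
  have eb : L.φ m • P.b = C.pt (m.1 0 0 * m.1 0 1) := by
    conv_lhs => rw [hmc]
    rw [map_mul, mul_smul, L.diag_b, L.φ_z]
    rfl
  rw [hm, one_smul, ← C.pt_zero] at eb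
  have hs := (C.pt_inj eb).symm
  have e1 : L.φ m • C.pt 1 = C.pt ((c : k) ^ 2) := by
    conv_lhs => rw [hmc]
    rw [map_mul, mul_smul, L.diag_pt c one_ne_zero, mul_one, L.φ_z, hs, C.z_zero, one_smul]
  rw [hm, one_smul] at e1
  have hc2 := C.pt_inj e1
  rw [hc] at hc2
  have hd := det_eq_one m
  rw [h10, mul_zero, sub_zero] at hd
  have h0 : m.1 0 0 ≠ 0 := fun e => by rw [e, zero_mul] at hd; exact zero_ne_one hd
  have h11 : m.1 0 0 = m.1 1 1 := mul_left_cancel₀ h0 (by linear_combination -hc2 - hd)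
  rcases eq_one_or_neg_one m ((mul_eq_zero.1 hs).resolve_left h0) h10 h11 with e | e
  · exact e
  · exact absurd (hneg.symm.trans (e ▸ hm)) P.j_ne

theorem K_comm {h : G} (hh : h ∈ P.K) (m : SpecialLinearGroup (Fin 2) k) : Commute h (L.φ m) := by
  have hH := (P.mem_K.1 hh).1
  have hχ : C.χ ⟨h, hH⟩ = 1 := Units.ext (C.χ_eq_of_pt hH (P.K_smul hh (C.j_pt 1)))
  have e := L.conj_phi ⟨h, hH⟩ m
  rw [hχ, scaleS_one] at e
  exact mul_inv_eq_iff_eq_mul.1 e

/-- An element of `H` centralised by an element exchanging the two points has character of square one. -/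
theorem χ_sq {s y : G} (hy : y ∈ P.H) (hsa : s • P.a = P.b) (hsb : s • P.b = P.a) (hc : Commute s y) :
    (C.χ ⟨y, hy⟩ : k) * C.χ ⟨y, hy⟩ = 1 := by
  set w := L.φ (nS 1) with hw
  have hmem : w⁻¹ * s ∈ P.H := (P.H_iff _).2
    ⟨by rw [mul_smul, hsa, inv_smul_eq_iff, hw, L.n_a], by rw [mul_smul, hsb, inv_smul_eq_iff, hw, L.n_b]⟩
  have hwy : Commute w y := by
    rw [show w = s * (w⁻¹ * s)⁻¹ by group]
    exact hc.mul_left (P.H_comm hmem hy).inv_left
  set c := (C.χ ⟨y, hy⟩ : k) with hc'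
  have h1 : w • C.pt c = C.pt (-(1 / c)) := by
    rw [hw, L.n_pt 1 c (Units.ne_zero _), Units.val_one, one_pow]
  have h2 : w • C.pt c = C.pt (-c) := by
    have e1 := C.h_pt ⟨y, hy⟩ 1
    rw [mul_one] at e1
    have e2 := C.h_pt ⟨y, hy⟩ (-1)
    rw [mul_neg, mul_one] at e2
    change y • C.pt 1 = C.pt c at e1
    change y • C.pt (-1) = C.pt (-c) at e2
    rw [← e1, ← mul_smul, hwy.eq, mul_smul, hw, L.n_pt 1 1 one_ne_zero, Units.val_one, one_pow,
      one_div_one, e2]
  have h3 := neg_injective (C.pt_inj (h1.symm.trans h2))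
  have := Units.ne_zero (C.χ ⟨y, hy⟩)
  rw [← hc'] at this
  field_simp at h3
  linear_combination -h3

/-- `SL₂` is semiregular off the fixed points of `j`. -/
theorem semiregular [Fintype k] (hk : Fintype.card k = p ^ n) (hneg : L.φ (-1) = P.j)
    {m : SpecialLinearGroup (Fin 2) k} {x : Ω} (hx : ¬ P.j • x = x) (hm : L.φ m • x = x) : m = 1 := by
  classical
  -- elements of prime order suffice
  suffices key : ∀ m' : SpecialLinearGroup (Fin 2) k, ∀ r : ℕ, r.Prime → orderOf m' = r →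
      L.φ m' • x ≠ x by
    by_contra h1
    have ho : orderOf m ≠ 1 := fun e => h1 (orderOf_eq_one_iff.1 e)
    obtain ⟨r, hr, hrd⟩ := Nat.exists_prime_and_dvd ho
    refine key (m ^ (orderOf m / r)) r hr ?_ ?_
    · exact orderOf_pow_orderOf_div (orderOf_pos m).ne' hrd
    · rw [map_pow]
      exact MulAction.mem_stabilizer_iff.1
        (Subgroup.pow_mem (stabilizer G x) (MulAction.mem_stabilizer_iff.2 hm) _)
  clear hm m
  intro m r hr hord hm
  haveI := Fact.mk hr
  have h2 : (2 : k) ≠ 0 := C.two_ne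
  by_cases hr2 : r = 2
  · subst hr2
    have hsq : m * m = 1 := by rw [← pow_two]; simpa [hord] using pow_orderOf_eq_one m
    have hne : m ≠ 1 := fun e => by rw [e, orderOf_one] at hord; omega
    rw [invol_eq_neg_one h2 m hsq hne, hneg] at hm
    exact hx hm
  have hrodd : Odd r := hr.odd_of_ne_two hr2
  set y := L.φ m with hy
  have hordy : orderOf y = r := (orderOf_injective L.φ (L.φ_inj hneg) m).trans hord
  have hjx : y • P.j • x = P.j • x := by rw [← mul_smul, (L.comm m).eq, mul_smul, hm]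
  obtain ⟨g, ga, gb⟩ := P.exists_move (Ne.symm hx)
  set y0 := g⁻¹ * y * g with hy0
  have hy0H : y0 ∈ P.H := (P.H_iff _).2
    ⟨by rw [hy0, mul_smul, mul_smul, ga, hm, ← ga, inv_smul_smul],
      by rw [hy0, mul_smul, mul_smul, gb, hjx, ← gb, inv_smul_smul]⟩
  have hord0 : orderOf y0 = r := by
    rw [← hordy, hy0]
    exact (SemiconjBy.orderOf_eq g (show g * (g⁻¹ * y * g) = y * g by group))
  have hrp : r ≠ p := by
    intro e
    have h1 : r ∣ (p ^ n) ^ 2 - 1 := by
      rw [← P.card_H, ← hord0]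
      exact dvd_mul_of_dvd_right (Subgroup.orderOf_dvd_natCard P.H hy0H) _
    have h2' : r ∣ (p ^ n) ^ 2 := by
      rw [e]; exact dvd_pow (dvd_pow_self p (by have := P.hn; omega)) two_ne_zero
    have h3 := Nat.dvd_sub h2' h1
    have h4 : 1 ≤ (p ^ n) ^ 2 := Nat.one_le_pow _ _ (by have := P.three_le; omega)
    rw [show (p ^ n) ^ 2 - ((p ^ n) ^ 2 - 1) = 1 by omega] at h3
    exact hr.one_lt.ne' (Nat.dvd_one.1 h3)
  -- `y0` is in the kernel
  set s := g⁻¹ * P.j * g with hs
  have hsa : s • P.a = P.b := by rw [hs, mul_smul, mul_smul, ga, ← gb, inv_smul_smul]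
  have hsb : s • P.b = P.a := by
    rw [hs, mul_smul, mul_smul, gb, ← mul_smul P.j, P.j_sq, one_smul, ← ga, inv_smul_smul]
  have hsy : Commute s y0 := by
    have := (L.comm m).symm.map (MulAut.conj g⁻¹).toMonoidHom
    simpa [MulAut.conj_apply, hs, hy0, mul_assoc] using this
  have hc2 := L.χ_sq hy0H hsa hsb hsy
  have hc1 : (C.χ ⟨y0, hy0H⟩ : k) = 1 := by
    obtain ⟨i, hi⟩ := hrodd
    have e : (⟨y0, hy0H⟩ : P.H) ^ r = 1 :=
      Subtype.ext (by
        show y0 ^ r = 1
        rw [← hord0, pow_orderOf_eq_one])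
    have e2 := congrArg (fun h => (C.χ h : k)) e
    simp only [map_pow, map_one, Units.val_pow_eq_pow_val, Units.val_one] at e2
    rwa [hi, pow_succ, pow_mul, pow_two, hc2, one_pow, one_mul] at e2
  have hK : y0 ∈ P.K := by
    refine C.mem_K_of_fix (P.H_a hy0H) (P.H_b hy0H) one_ne_zero ?_
    have := C.h_pt ⟨y0, hy0H⟩ 1
    rwa [hc1, one_mul] at this
  -- an element inverting it
  have hp0 : (p : k) = 0 := by
    have h := FiniteField.cast_card_eq_zero k
    rw [hk, Nat.cast_pow] at h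
    exact eq_zero_of_pow_eq_zero h
  have htr : (m.1 0 0 + m.1 1 1) ^ 2 ≠ 4 := by
    intro e
    have hd : r ∣ 2 * p := by rw [← hord]; exact orderOf_dvd_of_pow_eq_one (pow_two_char hp0 h2 m e)
    rcases (Nat.Prime.dvd_mul hr).1 hd with h | h
    · exact hr2 ((Nat.prime_dvd_prime_iff_eq hr Nat.prime_two).1 h)
    · exact hrp ((Nat.prime_dvd_prime_iff_eq hr P.hp).1 h)
  obtain ⟨w, hw⟩ := exists_inverter (by rw [hk]; exact Nat.odd_iff.1 P.q_odd) h2 m htr
  set v := g⁻¹ * L.φ w * g with hv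
  have hvy : v * y0 * v⁻¹ = y0⁻¹ := by
    have e := congrArg L.φ hw
    rw [map_mul, map_mul, map_inv, map_inv, ← hy] at e
    calc v * y0 * v⁻¹ = g⁻¹ * (L.φ w * y * (L.φ w)⁻¹) * g := by rw [hv, hy0]; group
      _ = g⁻¹ * y⁻¹ * g := by rw [e]
      _ = y0⁻¹ := by rw [hy0]; group
  have hy0ne : y0 ≠ 1 := fun e => by rw [e, orderOf_one] at hord0; exact hr.one_lt.ne hord0
  have hvF : ∀ c : Ω, P.j • c = c → P.j • v • c = v • c := by
    intro c hc
    refine P.fix_le_j hy0H hy0ne ?_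
    have e : y0 * v = v * y0⁻¹ := by
      calc y0 * v = (v * y0 * v⁻¹)⁻¹ * v := by rw [hvy, inv_inv]
        _ = v * y0⁻¹ := by group
    rw [← mul_smul, e, mul_smul, P.K_smul (P.K.inv_mem hK) hc]
  have hvc : Commute v y0 := by
    obtain ⟨m1, hm1⟩ : ∃ m1, L.φ m1 • P.a = v • P.a := by
      rcases C.F_cases (hvF _ P.j_a) with h | ⟨x', h⟩
      · exact ⟨1, by rw [map_one, one_smul, h]⟩
      · exact ⟨zS x' * nS 1, by rw [map_mul, mul_smul, L.n_a, L.φ_z, ← h]; rfl⟩
    set v1 := (L.φ m1)⁻¹ * v with hv1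
    have h1a : v1 • P.a = P.a := by rw [hv1, mul_smul, inv_smul_eq_iff, hm1]
    have h1b : P.j • v1 • P.b = v1 • P.b := by
      rw [hv1, mul_smul]; exact P.F_smul (L.comm m1).inv_left (hvF _ P.j_b)
    obtain ⟨x', hx'⟩ := (C.F_cases h1b).resolve_left fun e =>
      P.ne ((smul_left_cancel_iff v1).1 (e.trans h1a.symm))
    have hmem : (C.z x')⁻¹ * v1 ∈ P.H := (P.H_iff _).2
      ⟨by rw [mul_smul, h1a, inv_smul_eq_iff, C.z_a], by rw [mul_smul, inv_smul_eq_iff, ← hx']; rfl⟩
    have hz : Commute (C.z x') y0 := ((P.mem_K.1 hK).2 _ (C.z_mem x')).symm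
    rw [show v = L.φ m1 * (C.z x' * ((C.z x')⁻¹ * v1)) by rw [hv1]; group]
    exact (L.K_comm hK m1).symm.mul_left (hz.mul_left (P.H_comm hmem hy0H))
  rw [hvc.eq, mul_inv_cancel_right] at hvy
  have hd2 : r ∣ 2 := by
    rw [← hord0]
    exact orderOf_dvd_of_pow_eq_one (by rw [pow_two]; nth_rw 2 [hvy]; exact mul_inv_cancel y0)
  exact hr2 ((Nat.prime_dvd_prime_iff_eq hr Nat.prime_two).1 hd2)

/-- The frame of a lift. -/
theorem exists_frame [Fintype k] (hk : Fintype.card k = p ^ n) (hneg : L.φ (-1) = P.j) :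
    Nonempty (Frame G Ω k) := by
  classical
  have hq : Nat.card k = p ^ n := by rw [Nat.card_eq_fintype_card, hk]
  have hoff : Nat.card {c : Ω // ¬ P.j • c = c} = Nat.card (SpecialLinearGroup (Fin 2) k) := by
    rw [P.card_off, TwoByTwo.card_sl_two, hq, Nat.mul_sub, mul_one]
    ring_nf
  obtain ⟨⟨p₀, hp₀⟩⟩ : Nonempty {c : Ω // ¬ P.j • c = c} :=
    (Nat.card_pos_iff.1 (by rw [hoff]; exact Nat.card_pos)).1
  let f : SpecialLinearGroup (Fin 2) k → {c : Ω // ¬ P.j • c = c} := fun m =>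
    ⟨L.φ m • p₀, fun e => hp₀ ((P.F_smul_iff (L.comm m) p₀).1 e)⟩
  have hfi : Function.Injective f := by
    intro m m' e
    have e' : L.φ m • p₀ = L.φ m' • p₀ := congrArg Subtype.val e
    refine inv_mul_eq_one.1 (L.semiregular hk hneg hp₀ (m := m⁻¹ * m') ?_)
    rw [map_mul, map_inv, mul_smul, ← e', inv_smul_smul]
  have hfb : Function.Bijective f := (Nat.bijective_iff_injective_and_card f).2 ⟨hfi, hoff.symm⟩
  exact ⟨{
    a := P.a
    b := P.b
    p₀ := p₀
    U := P.U
    H := P.H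
    φ := L.φ
    χ := fun h => C.χ h
    simple := P.simple
    faithful := P.faithful
    two_ne := C.two_ne
    ne := P.ne
    U_le := P.U_le
    U_reg := P.U_reg
    H_iff := P.H_iff
    H_norm := P.H_norm
    H_cyclic := P.H_cyclic
    card_H := by rw [hq]; exact P.card_H
    w_a := by rw [← nS_one]; exact L.n_a 1
    w_b := by rw [← nS_one]; exact L.n_b 1
    z_mem := fun s => by rw [L.φ_z]; exact P.Z_le (C.z_mem s)
    z_central := fun s x hx => by rw [L.φ_z]; exact P.Z_central _ (C.z_mem s) x hx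
    neg_inv := fun x hx => by
      obtain ⟨s, hs⟩ := C.z_surj _ (P.j_inv x hx)
      exact ⟨s, by rw [hneg, L.φ_z, hs]⟩
    comm_mod := fun x hx y hy => by
      obtain ⟨s, hs⟩ := C.z_surj _ (P.comm_mod x hx y hy)
      exact ⟨s, by rw [L.φ_z, hs]⟩
    fix_iff := fun c => by
      rw [hneg, P.j_iff]
      refine or_congr Iff.rfl ⟨?_, ?_⟩
      · rintro ⟨z, hz, e⟩
        obtain ⟨s, hs⟩ := C.z_surj z hz
        exact ⟨s, by rw [L.φ_z, hs, e]⟩
      · rintro ⟨s, e⟩
        exact ⟨C.z s, C.z_mem s, by rw [← L.φ_z, e]⟩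
    p₀_free := by rw [hneg]; exact hp₀
    reg := fun c hc => by
      rw [hneg] at hc
      obtain ⟨m, hm⟩ := hfb.2 ⟨c, hc⟩
      have hm' : L.φ m • p₀ = c := congrArg Subtype.val hm
      exact ⟨m, hm', fun m' hm2 => hfb.1 (Subtype.ext (hm2.trans hm'.symm))⟩
    conj_phi := L.conj_phi
    free := fun h hh h1 c hc => by rw [hneg]; exact P.fix_le_j hh h1 hc }⟩

end Lift

end Cfsg.Agent.ONanU3
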