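import Cfsg.Agent.Lib.ONanU3.Defs
import Cfsg.Agent.Lib.FixityTwo.Sylow

/-!
# O'Nan's theorem: the fixed points of the central involution

`F = Fix j`; the centraliser of `j` is transitive on its ordered pairs, and the two-point stabiliser induces the
full automorphism group of order `q - 1` of a one-dimensional space on `Z`.
-/

set_option autoImplicit false
set_option linter.style.haveILetI false
set_option linter.unusedSectionVars false

namespace Cfsg.Agent.ONanU3

universe u v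

open MulAction

/-- A free action has order dividing the number of points. -/
theorem card_dvd_of_free_act {L X : Type*} [Group L] [MulAction L X] [Finite X]
    (hf : ∀ (l : L) (x : X), l • x = x → l = 1) : Nat.card L ∣ Nat.card X := by
  classical
  haveI := Fintype.ofFinite (orbitRel.Quotient L X)
  have h : ∀ x : X, Nat.card (orbit L x) = Nat.card L := by
    intro x
    have hs : stabilizer L x = ⊥ := (Subgroup.eq_bot_iff_forall _).2 fun l hl => hf l x hl
    rw [Nat.card_congr (orbitEquivQuotientStabilizer L x), ← Subgroup.index_eq_card, hs,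
      Subgroup.index_bot]
  rw [Nat.card_congr (selfEquivSigmaOrbits L X), Nat.card_sigma,
    Finset.sum_congr rfl (fun q _ => h _)]
  simp

variable {G : Type u} [Group G] [Finite G] {Ω : Type v} [MulAction G Ω] [Finite Ω] {p n : ℕ}

namespace Pre

variable (P : Pre G Ω p n)
include P

theorem q_odd : Odd (p ^ n) := (P.hp.odd_of_ne_two P.hp2).pow

theorem three_le : 3 ≤ p ^ n := by
  have h3 : 3 ≤ p := by
    have := P.hp.two_le
    have := P.hp2
    omega
  exact h3.trans (Nat.le_self_pow (by have := P.hn; omega) p)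

theorem U_cancel {x y : G} (hx : x ∈ P.U) (hy : y ∈ P.U) (h : x • P.b = y • P.b) : x = y := by
  have hne : y • P.b ≠ P.a := fun e =>
    P.ne ((smul_left_cancel_iff y).mp (e.trans (P.U_le y hy).symm))
  obtain ⟨u, -, hu⟩ := P.U_reg _ hne
  exact (congrArg Subtype.val (hu ⟨x, hx⟩ h)).trans (congrArg Subtype.val (hu ⟨y, hy⟩ rfl)).symm

theorem Ub_ne {x : G} (hx : x ∈ P.U) : x • P.b ≠ P.a := fun e =>
  P.ne ((smul_left_cancel_iff x).mp (e.trans (P.U_le x hx).symm))

theorem H_a {h : G} (hh : h ∈ P.H) : h • P.a = P.a := ((P.H_iff h).1 hh).1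

theorem H_b {h : G} (hh : h ∈ P.H) : h • P.b = P.b := ((P.H_iff h).1 hh).2

theorem H_smul {h : G} (hh : h ∈ P.H) (x : G) : h • x • P.b = (h * x * h⁻¹) • P.b := by
  rw [mul_smul, mul_smul, P.H_b (P.H.inv_mem hh)]

theorem fix_comm {h x : G} (hh : h ∈ P.H) (hx : x ∈ P.U) (e : h • x • P.b = x • P.b) : Commute h x := by
  rw [P.H_smul hh] at e
  exact mul_inv_eq_iff_eq_mul.mp (P.U_cancel (P.H_norm h hh x hx) hx e)

theorem j_sq : P.j * P.j = 1 := by
  rw [← pow_two, ← P.j_order, pow_orderOf_eq_one]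

theorem j_ne : P.j ≠ 1 := fun e => by
  have := P.j_order
  rw [e, orderOf_one] at this
  omega

theorem j_Zb {z : G} (hz : z ∈ P.Z) : P.j • z • P.b = z • P.b := by
  have h : Commute P.j z := (P.j_fix z (P.Z_le hz)).2 hz
  rw [P.H_smul P.j_mem, h.eq, mul_inv_cancel_right]

theorem j_iff (c : Ω) : P.j • c = c ↔ c = P.a ∨ ∃ z ∈ P.Z, z • P.b = c := by
  refine ⟨fun e => ?_, ?_⟩
  · by_cases hc : c = P.a
    · exact Or.inl hc
    · obtain ⟨⟨x, hx⟩, hxc, -⟩ := P.U_reg c hc
      refine Or.inr ⟨x, (P.j_fix x hx).1 (P.fix_comm P.j_mem hx ?_), hxc⟩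
      exact (congrArg (P.j • ·) hxc).trans (e.trans hxc.symm)
  · rintro (rfl | ⟨z, hz, rfl⟩)
    · exact P.H_a P.j_mem
    · exact P.j_Zb hz

theorem j_a : P.j • P.a = P.a := P.H_a P.j_mem

theorem j_b : P.j • P.b = P.b := P.H_b P.j_mem

theorem decomp {g : G} (ga : g • P.a = P.a) : ∃ x ∈ P.U, ∃ h ∈ P.H, g = x * h := by
  have hne : g • P.b ≠ P.a := fun e => P.ne ((smul_left_cancel_iff g).mp (e.trans ga.symm))
  obtain ⟨⟨x, hx⟩, hxc, -⟩ := P.U_reg _ hne
  refine ⟨x, hx, x⁻¹ * g, (P.H_iff _).2 ⟨?_, ?_⟩, (mul_inv_cancel_left x g).symm⟩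
  · rw [mul_smul, ga, inv_smul_eq_iff, P.U_le x hx]
  · rw [mul_smul, inv_smul_eq_iff]
    exact hxc.symm

/-- A non-trivial element of `H` has all its fixed points among those of `j`. -/
theorem fix_le_j {h : G} (hh : h ∈ P.H) (h1 : h ≠ 1) {c : Ω} (hc : h • c = c) : P.j • c = c := by
  by_cases ha : c = P.a
  · rw [ha]; exact P.j_a
  · obtain ⟨⟨x, hx⟩, hxc, -⟩ := P.U_reg c ha
    exact (P.j_iff c).2 (Or.inr ⟨x, P.semi h hh h1 x hx (P.fix_comm hh hx
      ((congrArg (h • ·) hxc).trans (hc.trans hxc.symm))), hxc⟩)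

theorem exists_move {c d : Ω} (hcd : c ≠ d) : ∃ g : G, g • P.a = c ∧ g • P.b = d :=
  MulAction.is_two_pretransitive_iff.mp P.two P.ne.symm hcd

theorem invol_eq {x : G} (hx : x ∈ P.H) (x2 : x * x = 1) (x1 : x ≠ 1) : x = P.j := by
  classical
  haveI := P.H_cyclic
  haveI := Fintype.ofFinite P.H
  by_contra hne
  have h := IsCyclic.card_pow_eq_one_le (α := P.H) two_pos
  have hsub : ({1, ⟨P.j, P.j_mem⟩, ⟨x, hx⟩} : Finset P.H) ⊆
      Finset.univ.filter fun a : P.H => a ^ 2 = 1 := by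
    intro y hy
    simp only [Finset.mem_insert, Finset.mem_singleton] at hy
    refine Finset.mem_filter.2 ⟨Finset.mem_univ _, ?_⟩
    rcases hy with rfl | rfl | rfl
    · simp
    · exact Subtype.ext (by simpa [pow_two] using P.j_sq)
    · exact Subtype.ext (by simpa [pow_two] using x2)
  have h2 := Finset.card_le_card hsub
  rw [Finset.card_eq_three.2 ⟨1, ⟨P.j, P.j_mem⟩, ⟨x, hx⟩,
    fun e => P.j_ne (congrArg Subtype.val e).symm, fun e => x1 (congrArg Subtype.val e).symm,
    fun e => hne (congrArg Subtype.val e).symm, rfl⟩] at h2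
  exact absurd (h2.trans h) (by norm_num)

theorem comm_of_ab {g : G} (ha : P.j • g • P.a = g • P.a) (hb : P.j • g • P.b = g • P.b) :
    Commute g P.j := by
  have hmem : g⁻¹ * P.j * g ∈ P.H := (P.H_iff _).2
    ⟨by rw [mul_smul, mul_smul, ha, inv_smul_smul], by rw [mul_smul, mul_smul, hb, inv_smul_smul]⟩
  have he := P.invol_eq hmem
    (by rw [show g⁻¹ * P.j * g * (g⁻¹ * P.j * g) = g⁻¹ * (P.j * P.j) * g by group, P.j_sq]; group)
    (fun e => P.j_ne (by
      calc P.j = g * (g⁻¹ * P.j * g) * g⁻¹ := by group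
        _ = 1 := by rw [e]; group))
  show g * P.j = P.j * g
  calc g * P.j = g * (g⁻¹ * P.j * g) := by rw [he]
    _ = P.j * g := by group

theorem F_smul {g : G} (hg : Commute g P.j) {c : Ω} (hc : P.j • c = c) : P.j • g • c = g • c := by
  rw [← mul_smul, ← hg.eq, mul_smul, hc]

theorem F_smul_iff {g : G} (hg : Commute g P.j) (c : Ω) : P.j • g • c = g • c ↔ P.j • c = c := by
  refine ⟨fun h => ?_, P.F_smul hg⟩
  have := P.F_smul hg.inv_left h
  rwa [inv_smul_smul] at this

theorem pair_trans {c d : Ω} (hc : P.j • c = c) (hd : P.j • d = d) (hcd : c ≠ d) :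
    ∃ g : G, Commute g P.j ∧ g • P.a = c ∧ g • P.b = d := by
  obtain ⟨g, ga, gb⟩ := P.exists_move hcd
  exact ⟨g, P.comm_of_ab (by rw [ga, hc]) (by rw [gb, hd]), ga, gb⟩

theorem H_comm {g h : G} (hg : g ∈ P.H) (hh : h ∈ P.H) : Commute g h := by
  haveI := P.H_cyclic
  letI := IsCyclic.commGroup (α := P.H)
  exact congrArg Subtype.val (mul_comm (⟨g, hg⟩ : P.H) ⟨h, hh⟩)

/-- The kernel of `H` on the fixed points of `j`. -/
def K : Subgroup G := P.H ⊓ Subgroup.centralizer (P.Z : Set G)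

theorem mem_K {h : G} : h ∈ P.K ↔ h ∈ P.H ∧ ∀ z ∈ P.Z, Commute h z := by
  refine and_congr Iff.rfl ?_
  exact ⟨fun H z hz => (H z hz).symm, fun H z hz => (H z hz).symm⟩

theorem K_of_fix {h z : G} (hh : h ∈ P.H) (hz : z ∈ P.Z) (z1 : z ≠ 1)
    (e : h • z • P.b = z • P.b) : h ∈ P.K :=
  P.mem_K.2 ⟨hh, P.semi_Z h hh z hz z1 (P.fix_comm hh (P.Z_le hz) e)⟩

theorem K_smul {h : G} (hh : h ∈ P.K) {c : Ω} (hc : P.j • c = c) : h • c = c := by
  obtain ⟨hH, hZ⟩ := P.mem_K.1 hh
  rcases (P.j_iff c).1 hc with rfl | ⟨z, hz, rfl⟩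
  · exact P.H_a hH
  · rw [P.H_smul hH, (hZ z hz).eq, mul_inv_cancel_right]

theorem three_K {g z : G} (ga : g • P.a = P.a) (gb : g • P.b = P.b) (hz : z ∈ P.Z) (z1 : z ≠ 1)
    (gz : g • z • P.b = z • P.b) : g ∈ P.K :=
  P.K_of_fix ((P.H_iff g).2 ⟨ga, gb⟩) hz z1 gz

/-- The action of `H` on `Z`. -/
def act : P.H →* MulAut P.Z where
  toFun h :=
    { toFun := fun z => ⟨(h : G) * z * (h : G)⁻¹, P.Z_norm h h.2 z z.2⟩
      invFun := fun z => ⟨(h : G)⁻¹ * z * h, by simpa using P.Z_norm _ (P.H.inv_mem h.2) z z.2⟩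
      left_inv := fun z => Subtype.ext (by simp [mul_assoc])
      right_inv := fun z => Subtype.ext (by simp [mul_assoc])
      map_mul' := fun z y => Subtype.ext (by simp [mul_assoc]) }
  map_one' := MulEquiv.ext fun z => Subtype.ext (by simp)
  map_mul' h k := MulEquiv.ext fun z => Subtype.ext (by simp [mul_assoc])

theorem act_coe (h : P.H) (z : P.Z) : (P.act h z : G) = (h : G) * z * (h : G)⁻¹ := rfl

theorem act_smul (h : P.H) (z : P.Z) : (h : G) • (z : G) • P.b = (P.act h z : G) • P.b :=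
  P.H_smul h.2 z

theorem act_eq_one {h : P.H} : P.act h = 1 ↔ (h : G) ∈ P.K := by
  refine ⟨fun e => P.mem_K.2 ⟨h.2, fun z hz => ?_⟩, fun hK => MulEquiv.ext fun z => Subtype.ext ?_⟩
  · have h1 := congrArg (fun f : MulAut P.Z => (f ⟨z, hz⟩ : G)) e
    exact mul_inv_eq_iff_eq_mul.mp h1
  · rw [P.act_coe, ((P.mem_K.1 hK).2 z z.2).eq, mul_inv_cancel_right]
    rfl

theorem act_free {h : P.H} {z : P.Z} (e : P.act h z = z) (z1 : z ≠ 1) : P.act h = 1 :=
  P.act_eq_one.2 (P.K_of_fix h.2 z.2 (fun e' => z1 (Subtype.ext e')) (by rw [P.act_smul, e]))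

theorem Z_comm (z y : P.Z) : z * y = y * z :=
  Subtype.ext (P.Z_central z z.2 y (P.Z_le y.2)).eq

theorem invol_inverts {h : P.H} (h2 : P.act h * P.act h = 1) (h1 : P.act h ≠ 1) (z : P.Z) :
    P.act h z = z⁻¹ := by
  have hfix : P.act h (z * P.act h z) = z * P.act h z := by
    rw [map_mul, ← MulAut.mul_apply, h2, MulAut.one_apply, P.Z_comm]
  by_contra hne
  refine h1 (P.act_free hfix fun e => hne ?_)
  exact eq_inv_of_mul_eq_one_right e

theorem hom_units (f : G →* ℤˣ) (g : G) : f g = 1 := by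
  haveI := P.simple
  rcases Subgroup.Normal.eq_bot_or_eq_top (H := f.ker) inferInstance with h | h
  · exfalso
    have h1 : Nat.card G ≤ Nat.card ℤˣ :=
      Nat.card_le_card_of_injective f ((MonoidHom.ker_eq_bot_iff f).1 h)
    have h2 : Nat.card Ω ≤ Nat.card G := by
      refine Nat.card_le_card_of_surjective (fun g : G => g • P.a) fun c => ?_
      by_cases hc : c = P.a
      · exact ⟨1, (one_smul G P.a).trans hc.symm⟩
      · obtain ⟨g, ga, -⟩ := P.exists_move hc
        exact ⟨g, ga⟩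
    have h3 : Nat.card ℤˣ = 2 := by rw [Nat.card_eq_fintype_card]; rfl
    rw [P.card_points] at h2
    have := P.three_le
    have : p ^ n ≤ (p ^ n) ^ 3 := Nat.le_self_pow (by norm_num) _
    omega
  · exact MonoidHom.mem_ker.mp (h ▸ Subgroup.mem_top g)

/-- The fixed points of `j`. -/
abbrev Fix := {c : Ω // P.j • c = c}

/-- The centraliser of `j`. -/
abbrev C : Subgroup G := Subgroup.centralizer {P.j}

theorem mem_C {g : G} : g ∈ P.C ↔ Commute g P.j := by
  rw [Subgroup.mem_centralizer_singleton_iff]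
  rfl

/-- The action of the centraliser on the fixed points. -/
@[instance_reducible]
def fixAction : MulAction P.C P.Fix where
  smul g c := ⟨(g : G) • (c : Ω), P.F_smul (P.mem_C.1 g.2) c.2⟩
  one_smul c := Subtype.ext (one_smul G (c : Ω))
  mul_smul g g' c := Subtype.ext (mul_smul (g : G) (g' : G) (c : Ω))

/-- The sign on the fixed points of `j`. -/
noncomputable def delta : P.C →* ℤˣ :=
  letI := P.fixAction
  haveI : DecidableEq P.Fix := Classical.decEq _
  haveI : Fintype P.Fix := Fintype.ofFinite _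
  Equiv.Perm.sign.comp (MulAction.toPermHom P.C P.Fix)

theorem delta_eq [DecidableEq P.Fix] [Fintype P.Fix] (g : P.C) (σ : Equiv.Perm P.Fix)
    (hσ : ∀ c, (σ c : Ω) = (g : G) • (c : Ω)) : P.delta g = Equiv.Perm.sign σ := by
  letI := P.fixAction
  have : MulAction.toPermHom P.C P.Fix g = σ := Equiv.ext fun c => Subtype.ext (hσ c).symm
  rw [← this]
  unfold delta
  dsimp only [MonoidHom.comp_apply]
  congr!

theorem delta_K {g : P.C} (hg : (g : G) ∈ P.K) : P.delta g = 1 := by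
  classical
  haveI : Fintype P.Fix := Fintype.ofFinite _
  rw [P.delta_eq g 1 fun c => (P.K_smul hg c.2).symm, map_one]

theorem H_le_C {h : G} (hh : h ∈ P.H) : h ∈ P.C := P.mem_C.2 (P.H_comm hh P.j_mem)

theorem card_Fix : Nat.card P.Fix = p ^ n + 1 := by
  classical
  let f : Option P.Z → P.Fix := fun o =>
    o.elim ⟨P.a, P.j_a⟩ fun z => ⟨(z : G) • P.b, P.j_Zb z.2⟩
  have hf : Function.Bijective f := by
    refine ⟨?_, fun c => ?_⟩
    · rintro (_ | z) (_ | y) e
      · rfl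
      · exact absurd (congrArg Subtype.val e).symm (P.Ub_ne (P.Z_le y.2))
      · exact absurd (congrArg Subtype.val e) (P.Ub_ne (P.Z_le z.2))
      · exact congrArg some (Subtype.ext (P.U_cancel (P.Z_le z.2) (P.Z_le y.2) (congrArg Subtype.val e)))
    · rcases (P.j_iff c).1 c.2 with h | ⟨z, hz, h⟩
      · exact ⟨none, Subtype.ext h.symm⟩
      · exact ⟨some ⟨z, hz⟩, Subtype.ext h⟩
  rw [← Nat.card_congr (Equiv.ofBijective f hf), Finite.card_option, P.card_Z]

theorem card_off : Nat.card {c : Ω // ¬ P.j • c = c} = (p ^ n) ^ 3 - p ^ n := by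
  classical
  haveI := Fintype.ofFinite Ω
  have h := P.card_Fix
  rw [Nat.card_eq_fintype_card] at h ⊢
  rw [Fintype.card_subtype_compl, h, ← Nat.card_eq_fintype_card, P.card_points]
  omega

/-- The order of `H`, split at the prime two. -/
theorem exists_two_part : ∃ s o : ℕ, Odd o ∧ 1 ≤ s ∧ Nat.card P.H = 2 ^ s * o := by
  obtain ⟨s, o, ho, hc⟩ := Nat.exists_eq_two_pow_mul_odd (Nat.card_pos (α := P.H)).ne'
  refine ⟨s, o, ho, ?_, hc⟩
  by_contra hs
  have hs0 : s = 0 := by omega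
  have h2 : orderOf (⟨P.j, P.j_mem⟩ : P.H) ∣ Nat.card P.H := orderOf_dvd_natCard _
  rw [Subgroup.orderOf_mk, P.j_order, hc, hs0, pow_zero, one_mul] at h2
  exact absurd ((even_iff_two_dvd).2 h2) (Nat.not_even_iff_odd.2 ho)

theorem e_odd : Odd (Nat.gcd 3 (p ^ n + 1)) :=
  (by decide : Odd 3).of_dvd_nat (Nat.gcd_dvd_left _ _)

theorem cube_sub {s o : ℕ} (ho : Odd o) (hc : Nat.card P.H = 2 ^ s * o) :
    ∃ w, Odd w ∧ (p ^ n) ^ 3 - p ^ n = 2 ^ s * w := by
  refine ⟨p ^ n * Nat.gcd 3 (p ^ n + 1) * o, (P.q_odd.mul P.e_odd).mul ho, ?_⟩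
  have h1 : (p ^ n) ^ 3 - p ^ n = p ^ n * ((p ^ n) ^ 2 - 1) := by
    rw [Nat.mul_sub, mul_one]
    ring_nf
  rw [h1, ← P.card_H, hc]
  ring

/-- The generator of the Sylow `2`-subgroup of `H` is odd on the fixed points of `j`. -/
theorem sign_two {h : G} (hh : h ∈ P.H) {s o : ℕ} (ho : Odd o) (hs : 1 ≤ s)
    (hc : Nat.card P.H = 2 ^ s * o) (hord : orderOf h = 2 ^ s) :
    P.delta ⟨h, P.H_le_C hh⟩ = -1 := by
  classical
  haveI := Fintype.ofFinite Ω
  set σ : Equiv.Perm Ω := MulAction.toPermHom G Ω h with hσ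
  have hpres : ∀ x, P.j • (σ x) = σ x ↔ P.j • x = x := fun x =>
    P.F_smul_iff (P.H_comm hh P.j_mem) x
  set σF := σ.subtypePerm hpres
  set σR := σ.subtypePerm fun x => not_congr (hpres x)
  have hsplit : σ = σF.subtypeCongr σR := by
    ext x
    rw [Equiv.Perm.subtypeCongr.apply]
    split <;> rfl
  have h1 : Equiv.Perm.sign σ = 1 :=
    P.hom_units (Equiv.Perm.sign.comp (MulAction.toPermHom G Ω)) h
  have hpowR : ∀ (i : ℕ) (x : {c : Ω // ¬ P.j • c = c}), ((σR ^ i) x : Ω) = h ^ i • (x : Ω) := by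
    intro i x
    simp only [σR, Equiv.Perm.subtypePerm_pow, Equiv.Perm.subtypePerm_apply]
    rw [hσ, ← map_pow]
    rfl
  have hR : Equiv.Perm.sign σR = -1 := by
    have hne : h ≠ 1 := fun e => by
      rw [e, orderOf_one] at hord
      have := Nat.lt_two_pow_self (n := s)
      omega
    have hsupp : σR.support = Finset.univ := by
      refine Finset.eq_univ_of_forall fun x => Equiv.Perm.mem_support.2 fun e => x.2 ?_
      refine P.fix_le_j hh hne ?_
      have := congrArg Subtype.val e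
      exact this
    rw [FixityTwo.sign_eq_of_period σR (Nat.two_pow_pos s) (Equiv.ext fun x => Subtype.ext (by
        rw [hpowR, ← hord, pow_orderOf_eq_one, one_smul, Equiv.Perm.one_apply])) fun x _ i hi => ?_]
    · rw [hsupp, Finset.card_univ, ← Nat.card_eq_fintype_card, P.card_off]
      obtain ⟨w, hw, he⟩ := P.cube_sub ho hc
      rw [he, Nat.mul_div_cancel_left _ (Nat.two_pow_pos s)]
      refine Odd.neg_one_pow (Even.add_odd ?_ hw)
      exact ((Nat.even_pow).2 ⟨even_two, by omega⟩).mul_right _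
    · rw [← hord]
      refine orderOf_dvd_of_pow_eq_one ?_
      by_contra hne'
      refine x.2 (P.fix_le_j (P.H.pow_mem hh i) hne' ?_)
      have := congrArg Subtype.val hi
      rwa [hpowR] at this
  rw [hsplit, Equiv.Perm.sign_subtypeCongr, hR] at h1
  rw [P.delta_eq ⟨h, P.H_le_C hh⟩ σF fun c => rfl]
  calc Equiv.Perm.sign σF = Equiv.Perm.sign σF * (-1) * (-1) := by simp
    _ = -1 := by rw [h1, one_mul]

theorem exists_h2 : ∃ (h : P.H) (s o : ℕ), Odd o ∧ 1 ≤ s ∧ Nat.card P.H = 2 ^ s * o ∧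
    orderOf h = 2 ^ s ∧ P.delta ⟨h, P.H_le_C h.2⟩ = -1 := by
  obtain ⟨s, o, ho, hs, hc⟩ := P.exists_two_part
  haveI := P.H_cyclic
  obtain ⟨g, hg⟩ := IsCyclic.exists_generator (α := P.H)
  have hog : orderOf g = 2 ^ s * o := by rw [orderOf_eq_card_of_forall_mem_zpowers hg, hc]
  have hord : orderOf (g ^ o) = 2 ^ s := by
    rw [orderOf_pow_of_dvd ho.pos.ne' (by rw [hog]; exact Dvd.intro_left _ rfl), hog,
      Nat.mul_div_cancel _ ho.pos]
  exact ⟨g ^ o, s, o, ho, hs, hc, hord,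
    P.sign_two (g ^ o).2 ho hs hc (by rw [← hord, Subgroup.orderOf_coe])⟩

theorem card_Zsharp : Nat.card {z : P.Z // z ≠ 1} = p ^ n - 1 := by
  classical
  haveI := Fintype.ofFinite P.Z
  rw [Nat.card_eq_fintype_card, Fintype.card_subtype_compl, Fintype.card_subtype_eq,
    ← Nat.card_eq_fintype_card, P.card_Z]

theorem range_dvd : Nat.card P.act.range ∣ p ^ n - 1 := by
  rw [← P.card_Zsharp]
  letI : MulAction P.act.range {z : P.Z // z ≠ 1} :=
    { smul := fun f z => ⟨(f : MulAut P.Z) z.1, fun e => z.2 (by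
        simpa using e)⟩
      one_smul := fun z => Subtype.ext rfl
      mul_smul := fun f g z => Subtype.ext rfl }
  refine card_dvd_of_free_act fun f z e => ?_
  obtain ⟨h, hh⟩ := f.2
  refine Subtype.ext ?_
  rw [← hh, P.act_free (z := z.1) ?_ z.2]
  · rfl
  · rw [hh]; exact congrArg Subtype.val e

/-- An element of `H` inverting `Z`, and the parity of the index of the range. -/
theorem range_odd : (∃ ι : P.H, P.act ι * P.act ι = 1 ∧ P.act ι ≠ 1) ∧
    ∃ w, Odd w ∧ p ^ n - 1 = Nat.card P.act.range * w := by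
  classical
  obtain ⟨h, s, o, ho, hs, hc, hord, hδ⟩ := P.exists_h2
  haveI := Fintype.ofFinite Ω
  set lam := orderOf (P.act h) with hlam
  have hK : (h : G) ∉ P.K := fun hK => by
    rw [P.delta_K hK] at hδ
    exact absurd hδ (by decide)
  have hlpos : 0 < lam := orderOf_pos _
  set σ : Equiv.Perm P.Fix :=
    (MulAction.toPermHom G Ω (h : G)).subtypePerm fun x => P.F_smul_iff (P.H_comm h.2 P.j_mem) x
  rw [P.delta_eq _ σ fun c => rfl] at hδ
  have hpow : ∀ (i : ℕ) (x : P.Fix), ((σ ^ i) x : Ω) = ((h ^ i : P.H) : G) • (x : Ω) := by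
    intro i x
    simp only [σ, Equiv.Perm.subtypePerm_pow, Equiv.Perm.subtypePerm_apply]
    rw [← map_pow]
    rfl
  have hsupp : σ.support = Finset.univ.filter fun x : P.Fix => (x : Ω) ≠ P.a ∧ (x : Ω) ≠ P.b := by
    ext x
    rw [Equiv.Perm.mem_support, Finset.mem_filter]
    refine ⟨fun hx => ⟨Finset.mem_univ _, fun e => hx (Subtype.ext ?_), fun e => hx (Subtype.ext ?_)⟩,
      fun hx e => ?_⟩
    · show (h : G) • (x : Ω) = x
      rw [e, P.H_a h.2]
    · show (h : G) • (x : Ω) = x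
      rw [e, P.H_b h.2]
    · rcases (P.j_iff _).1 x.2 with hxa | ⟨z, hz, hxz⟩
      · exact hx.2.1 hxa
      · refine hK (P.K_of_fix h.2 hz (fun z1 => hx.2.2 ?_) ?_)
        · rw [← hxz, z1, one_smul]
        · rw [hxz]; exact congrArg Subtype.val e
  have hcard : σ.support.card = p ^ n - 1 := by
    rw [hsupp, show (Finset.univ.filter fun x : P.Fix => (x : Ω) ≠ P.a ∧ (x : Ω) ≠ P.b) =
      (Finset.univ.erase ⟨P.a, P.j_a⟩).erase ⟨P.b, P.j_b⟩ from ?_]
    · rw [Finset.card_erase_of_mem (Finset.mem_erase.2 ⟨fun e => P.ne (congrArg Subtype.val e),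
          Finset.mem_univ _⟩), Finset.card_erase_of_mem (Finset.mem_univ _), Finset.card_univ,
        ← Nat.card_eq_fintype_card, P.card_Fix]
      omega
    · ext x
      simp only [Finset.mem_filter, Finset.mem_erase, Finset.mem_univ, true_and, and_true,
        ne_eq, Subtype.ext_iff]
      exact and_comm
  rw [FixityTwo.sign_eq_of_period σ hlpos (Equiv.ext fun x => Subtype.ext (by
      rw [hpow, Equiv.Perm.one_apply]
      refine P.K_smul ?_ x.2
      rw [← P.act_eq_one, map_pow, pow_orderOf_eq_one])) ?hper] at hδ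
  case hper =>
    intro x hx i hi
    refine orderOf_dvd_of_pow_eq_one ?_
    rw [← map_pow, P.act_eq_one]
    rw [hsupp, Finset.mem_filter] at hx
    rcases (P.j_iff _).1 x.2 with hxa | ⟨z, hz, hxz⟩
    · exact absurd hxa hx.2.1
    · refine P.K_of_fix (h ^ i).2 hz (fun z1 => hx.2.2 ?_) ?_
      · rw [← hxz, z1, one_smul]
      · rw [hxz, ← hpow i x, hi]
  rw [hcard] at hδ
  have hq : Even (p ^ n - 1) := Nat.Odd.sub_odd P.q_odd odd_one
  have hodd : Odd ((p ^ n - 1) / lam) := by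
    by_contra he
    rw [Nat.not_odd_iff_even] at he
    rw [(hq.add he).neg_one_pow] at hδ
    exact absurd hδ (by decide)
  have hll : lam ∣ Nat.card P.act.range := Subgroup.orderOf_dvd_natCard _ ⟨h, rfl⟩
  obtain ⟨w, hw⟩ := P.range_dvd
  obtain ⟨r, hr⟩ := hll
  refine ⟨?_, w, ?_, hw⟩
  · have hle : Even lam := by
      obtain ⟨i, -, hi⟩ := (Nat.dvd_prime_pow Nat.prime_two).1
        (hord ▸ orderOf_map_dvd P.act h : lam ∣ 2 ^ s)
      rcases Nat.eq_zero_or_pos i with rfl | hpos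
      · exfalso
        refine hK (P.act_eq_one.1 (orderOf_eq_one_iff.1 ?_))
        exact hi.trans (pow_zero 2)
      · exact hi ▸ (Nat.even_pow).2 ⟨even_two, hpos.ne'⟩
    obtain ⟨t, ht⟩ := hle
    refine ⟨h ^ t, ?_, fun e => ?_⟩
    · rw [map_pow, ← pow_add, ← ht, hlam, pow_orderOf_eq_one]
    · rw [map_pow] at e
      have := Nat.le_of_dvd (by omega) (orderOf_dvd_of_pow_eq_one e)
      omega
  · rw [hw, hr, mul_assoc, Nat.mul_div_cancel_left _ hlpos] at hodd
    exact (Nat.odd_mul.1 hodd).2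

/-- For each point of `F` other than the two, an involution on `F` exchanging them and fixing it. -/
theorem exists_swap_fix {z : G} (hz : z ∈ P.Z) (z1 : z ≠ 1) :
    ∃ t : G, Commute t P.j ∧ t • P.a = P.b ∧ t • P.b = P.a ∧ t • z • P.b = z • P.b ∧
      t • z⁻¹ • P.b = z⁻¹ • P.b ∧
      (∀ c, P.j • c = c → t • c = c → c = z • P.b ∨ c = z⁻¹ • P.b) ∧
      ∀ c, P.j • c = c → t • t • c = c := by
  obtain ⟨ι, hι2, hι1⟩ := P.range_odd.1
  have hinv := P.invol_inverts hι2 hι1
  have hιz : ∀ y ∈ P.Z, (ι : G) • y • P.b = y⁻¹ • P.b := fun y hy => by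
    rw [P.act_smul ι ⟨y, hy⟩, hinv]
    rfl
  have hι_fix : ∀ c, P.j • c = c → (ι : G) • c = c → c = P.a ∨ c = P.b := by
    intro c hc e
    rcases (P.j_iff c).1 hc with h | ⟨y, hy, rfl⟩
    · exact Or.inl h
    · by_cases y1 : y = 1
      · exact Or.inr (by rw [y1, one_smul])
      · exact absurd (P.act_eq_one.2 (P.K_of_fix ι.2 hy y1 e)) hι1
  have hι_sq : ∀ c, P.j • c = c → (ι : G) • (ι : G) • c = c := by
    intro c hc
    rw [← mul_smul, ← Subgroup.coe_mul]
    exact P.K_smul (P.act_eq_one.1 (by rw [map_mul, hι2])) hc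
  set c := z • P.b
  set d := z⁻¹ • P.b
  have hc : P.j • c = c := P.j_Zb hz
  have hd : P.j • d = d := P.j_Zb (P.Z.inv_mem hz)
  have hιc : (ι : G) • c = d := hιz z hz
  have hιd : (ι : G) • d = c := by rw [← hιc]; exact hι_sq c hc
  have hca : c ≠ P.a := P.Ub_ne (P.Z_le hz)
  have hcd : c ≠ d := fun e => by
    rcases hι_fix c hc (by rw [hιc, e]) with h | h
    · exact hca h
    · exact z1 (P.U_cancel (P.Z_le hz) P.U.one_mem (by rw [one_smul]; exact h))
  obtain ⟨g, hg, ga, gb⟩ := P.pair_trans hc hd hcd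
  set t := g * (ι : G) * g⁻¹ with ht
  have htj : Commute t P.j := (hg.mul_left (P.H_comm ι.2 P.j_mem)).mul_left hg.inv_left
  have htc : t • c = c := by rw [← ga, ht, mul_smul, mul_smul, inv_smul_smul, P.H_a ι.2]
  have htd : t • d = d := by rw [← gb, ht, mul_smul, mul_smul, inv_smul_smul, P.H_b ι.2]
  have hfix : ∀ y, P.j • y = y → t • y = y → y = c ∨ y = d := by
    intro y hy e
    have hy' : P.j • g⁻¹ • y = g⁻¹ • y := P.F_smul hg.inv_left hy
    have e' : (ι : G) • g⁻¹ • y = g⁻¹ • y := by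
      rw [ht, mul_smul, mul_smul] at e
      exact (eq_inv_smul_iff).2 e
    rcases hι_fix _ hy' e' with h | h
    · exact Or.inl (by rw [← ga, ← h, smul_inv_smul])
    · exact Or.inr (by rw [← gb, ← h, smul_inv_smul])
  have htsq : ∀ y, P.j • y = y → t • t • y = y := by
    intro y hy
    simp only [ht, mul_smul, inv_smul_smul, hι_sq _ (P.F_smul hg.inv_left hy), smul_inv_smul]
  -- `t` commutes with `ι` on `F`
  have hcomm : ∀ y, P.j • y = y → t • (ι : G) • y = (ι : G) • t • y := by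
    intro y hy
    set x : G := g⁻¹ * ((ι : G) * t * (ι : G)) * g with hx
    have hxmem : x ∈ P.H := (P.H_iff _).2
      ⟨by simp only [hx, mul_smul, ga, hιc, htd, hιd]; rw [← ga, inv_smul_smul],
        by simp only [hx, mul_smul, gb, hιd, htc, hιc]; rw [← gb, inv_smul_smul]⟩
    have hxj : ∀ w, P.j • w = w → P.j • x • w = x • w :=
      fun w hw => P.F_smul (P.H_comm hxmem P.j_mem) hw
    have hx_on : ∀ w, P.j • w = w → g • x • w = (ι : G) • t • (ι : G) • g • w := fun w _ => by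
      simp only [hx, mul_smul, smul_inv_smul]
    have hx2 : P.act ⟨x, hxmem⟩ * P.act ⟨x, hxmem⟩ = 1 := by
      rw [← map_mul, P.act_eq_one]
      obtain ⟨z', hz', z'1⟩ : ∃ z' ∈ P.Z, z' ≠ 1 := ⟨z, hz, z1⟩
      refine P.K_of_fix (P.H.mul_mem hxmem hxmem) hz' z'1 ((smul_left_cancel_iff g).1 ?_)
      have hw : P.j • z' • P.b = z' • P.b := P.j_Zb hz'
      have hιj : Commute (ι : G) P.j := P.H_comm ι.2 P.j_mem
      show g • (x * x) • z' • P.b = _
      rw [mul_smul, hx_on _ (hxj _ hw), hx_on _ hw, hι_sq _ (P.F_smul htj (P.F_smul hιj (P.F_smul hg hw))),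
        htsq _ (P.F_smul hιj (P.F_smul hg hw)), hι_sq _ (P.F_smul hg hw)]
    have hx1 : P.act ⟨x, hxmem⟩ ≠ 1 := by
      rw [Ne, P.act_eq_one]
      intro hK
      have ha' : P.j • g⁻¹ • P.a = g⁻¹ • P.a := P.F_smul hg.inv_left P.j_a
      have e := congrArg (g • ·) (P.K_smul hK ha')
      rw [hx_on _ ha'] at e
      simp only [smul_inv_smul] at e
      have e2 : (ι : G) • (ι : G) • t • (ι : G) • P.a = (ι : G) • P.a := congrArg ((ι : G) • ·) e
      rw [hι_sq _ (P.F_smul htj (P.F_smul (P.H_comm ι.2 P.j_mem) P.j_a)), P.H_a ι.2] at e2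
      rcases hfix _ P.j_a e2 with h | h
      · exact hca h.symm
      · exact P.Ub_ne (P.Z_le (P.Z.inv_mem hz)) h.symm
    have hxeq : ∀ w, P.j • w = w → x • w = (ι : G) • w := by
      intro w hw
      rcases (P.j_iff w).1 hw with rfl | ⟨v, hv, rfl⟩
      · rw [P.H_a hxmem, P.H_a ι.2]
      · rw [hιz v hv]
        show ((⟨x, hxmem⟩ : P.H) : G) • v • P.b = _
        rw [P.act_smul ⟨x, hxmem⟩ ⟨v, hv⟩, P.invol_inverts hx2 hx1]
        rfl
    have hy' : P.j • g⁻¹ • y = g⁻¹ • y := P.F_smul hg.inv_left hy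
    have e := hx_on _ hy'
    rw [hxeq _ hy'] at e
    simp only [smul_inv_smul] at e
    have e3 : t • y = (ι : G) • t • (ι : G) • y := by
      rw [← e, ht, mul_smul, mul_smul]
    have hιj : Commute (ι : G) P.j := P.H_comm ι.2 P.j_mem
    rw [e3, hι_sq _ (P.F_smul htj (P.F_smul hιj hy))]
  have hta : t • P.a = P.b := by
    have hιta : (ι : G) • t • P.a = t • P.a := by rw [← hcomm _ P.j_a, P.H_a ι.2]
    rcases hι_fix _ (P.F_smul htj P.j_a) hιta with h | h
    · rcases hfix _ P.j_a h with h' | h'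
      · exact absurd h'.symm hca
      · exact absurd h'.symm (P.Ub_ne (P.Z_le (P.Z.inv_mem hz)))
    · exact h
  refine ⟨t, htj, hta, ?_, htc, htd, hfix, htsq⟩
  rw [← hta, htsq _ P.j_a]

/-- The two-point stabiliser induces a group of order `q - 1` on `Z`. -/
theorem card_range : Nat.card P.act.range = p ^ n - 1 := by
  classical
  obtain ⟨-, w, hwo, hw⟩ := P.range_odd
  haveI := Fintype.ofFinite {z : P.Z // z ≠ 1}
  haveI := Fintype.ofFinite P.act.range
  choose t htj hta htb htz htz' htfix htsq using fun z : {z : P.Z // z ≠ 1} =>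
    P.exists_swap_fix z.1.2 fun e => z.2 (Subtype.ext e)
  obtain ⟨z0⟩ : Nonempty {z : P.Z // z ≠ 1} := (Nat.card_pos_iff.1 (by
    rw [P.card_Zsharp]; have := P.three_le; omega)).1
  have hmem : ∀ z, (t z0)⁻¹ * t z ∈ P.H := fun z => (P.H_iff _).2
    ⟨by rw [mul_smul, hta, inv_smul_eq_iff, hta], by rw [mul_smul, htb, inv_smul_eq_iff, htb]⟩
  let f : {z : P.Z // z ≠ 1} → P.act.range := fun z => ⟨P.act ⟨_, hmem z⟩, _, rfl⟩
  have hfib : ∀ b ∈ Finset.univ.image f, (Finset.univ.filter fun z => f z = b).card ≤ 2 := by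
    intro b hb
    obtain ⟨z, -, rfl⟩ := Finset.mem_image.1 hb
    refine (Finset.card_le_card (t := {z, ⟨z.1⁻¹, by simpa using z.2⟩}) fun y hy => ?_).trans
      Finset.card_le_two
    have he : f y = f z := (Finset.mem_filter.1 hy).2
    have hagree : ∀ v : P.Z, t y • (v : G) • P.b = t z • (v : G) • P.b := by
      intro v
      have h1 := congrArg (fun e : MulAut P.Z => (e v : G) • P.b)
        (congrArg Subtype.val he : P.act ⟨_, hmem y⟩ = P.act ⟨_, hmem z⟩)
      rw [← P.act_smul, ← P.act_smul] at h1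
      simpa only [mul_smul, smul_left_cancel_iff] using h1
    have h2 : t z • ((y : P.Z) : G) • P.b = ((y : P.Z) : G) • P.b := by rw [← hagree, htz]
    simp only [Finset.mem_insert, Finset.mem_singleton]
    rcases htfix z _ (P.j_Zb y.1.2) h2 with h | h
    · exact Or.inl (Subtype.ext (Subtype.ext (P.U_cancel (P.Z_le y.1.2) (P.Z_le z.1.2) h)))
    · exact Or.inr (Subtype.ext (Subtype.ext
        (P.U_cancel (P.Z_le y.1.2) (P.Z_le (P.Z.inv_mem z.1.2)) h)))
  have h := (Finset.card_le_mul_card_image Finset.univ 2 hfib).trans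
    (Nat.mul_le_mul_left 2 (Finset.card_le_univ _))
  rw [Finset.card_univ, ← Nat.card_eq_fintype_card, ← Nat.card_eq_fintype_card, P.card_Zsharp,
    hw, mul_comm 2] at h
  have hw2 : w ≤ 2 := Nat.le_of_mul_le_mul_left h Nat.card_pos
  obtain ⟨i, rfl⟩ := hwo
  rw [show i = 0 by omega] at hw
  rw [hw, mul_zero, zero_add, mul_one]

/-- `H` is transitive on the non-trivial elements of `Z`. -/
theorem act_trans {z y : P.Z} (hz : z ≠ 1) (hy : y ≠ 1) : ∃ h : P.H, P.act h z = y := by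
  classical
  haveI := Fintype.ofFinite {z : P.Z // z ≠ 1}
  let f : P.act.range → {z : P.Z // z ≠ 1} := fun e => ⟨(e : MulAut P.Z) z, fun h => hz (by
    simpa using h)⟩
  have hinj : Function.Injective f := by
    intro e e' h
    obtain ⟨g, hg⟩ := e.2
    obtain ⟨g', hg'⟩ := e'.2
    have h1 : P.act g z = P.act g' z := by rw [hg, hg']; exact congrArg Subtype.val h
    refine Subtype.ext ?_
    rw [← hg, ← hg']
    refine inv_mul_eq_one.mp ?_
    rw [← map_inv, ← map_mul]
    refine P.act_free ?_ hz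
    rw [map_mul, map_inv, MulAut.mul_apply, ← h1]
    exact (P.act g).symm_apply_apply z
  have hbij := (Nat.bijective_iff_injective_and_card f).2 ⟨hinj, by rw [P.card_range, P.card_Zsharp]⟩
  obtain ⟨⟨e, h, rfl⟩, he⟩ := hbij.2 ⟨y, hy⟩
  exact ⟨h, congrArg Subtype.val he⟩

end Pre

end Cfsg.Agent.ONanU3
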