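import Cfsg.Agent.Lib.ONanU3.BlockBase
import Cfsg.Agent.Lib.SL2Pres.Universal
import Mathlib.RingTheory.LittleWedderburn
import Mathlib.FieldTheory.Finite.Basic
import Mathlib.Algebra.Ring.Shrink

/-!
# O'Nan's theorem: coordinates on the fixed points and the group `SL₂`
-/

set_option autoImplicit false
set_option linter.style.haveILetI false
set_option linter.unusedSectionVars false

namespace Cfsg.Agent.ONanU3

universe u v

open MulAction Matrix

variable {G : Type u} [Group G] [Finite G] {Ω : Type v} [MulAction G Ω] [Finite Ω] {p n : ℕ}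

/-- Coordinates on `Z`. -/
structure Coord (P : Pre G Ω p n) (k : Type) [Field k] where
  z : k → G
  z_mem : ∀ x, z x ∈ P.Z
  z_add : ∀ x y, z (x + y) = z x * z y
  z_inj : Function.Injective z
  z_surj : ∀ g ∈ P.Z, ∃ x, z x = g
  χ : P.H →* kˣ
  conj_z : ∀ (h : P.H) (x : k), (h : G) * z x * (h : G)⁻¹ = z ((χ h : k) * x)
  χ_surj : Function.Surjective χ

theorem Pre.exists_coord (P : Pre G Ω p n) :
    ∃ (k : Type) (_ : Field k) (_ : Fintype k), Fintype.card k = p ^ n ∧ Nonempty (Coord P k) := by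
  classical
  letI : CommGroup P.Z := { (inferInstance : Group P.Z) with mul_comm := P.Z_comm }
  let ρ : P.H →* AddMonoid.End (Additive P.Z) :=
    { toFun := fun h => AddMonoidHom.mk' (fun v => Additive.ofMul (P.act h v.toMul)) fun v w =>
        congrArg Additive.ofMul (map_mul (P.act h) v.toMul w.toMul)
      map_one' := AddMonoidHom.ext fun v => by
        show Additive.ofMul (P.act 1 v.toMul) = v
        rw [map_one]; rfl
      map_mul' := fun h g => AddMonoidHom.ext fun v => by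
        show Additive.ofMul (P.act (h * g) v.toMul) = Additive.ofMul (P.act h (P.act g v.toMul))
        rw [map_mul]; rfl }
  set E : Subring (AddMonoid.End (Additive P.Z)) := Subring.closure (Set.range ρ) with hE
  haveI hcomm : IsMulCommutative E := Subring.isMulCommutative_closure (by
    rintro _ ⟨g, rfl⟩ _ ⟨l, rfl⟩
    rw [← map_mul, ← map_mul, show g * l = l * g from Subtype.ext (P.H_comm g.2 l.2).eq])
  letI : CommRing E := { (inferInstance : Ring E) with mul_comm := mul_comm' }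
  obtain ⟨u0, hu0⟩ : ∃ v : Additive P.Z, v ≠ 0 := by
    haveI : Nontrivial P.Z := Finite.one_lt_card_iff_nontrivial.mp (by
      rw [P.card_Z]; have := P.three_le; omega)
    exact exists_ne 0
  haveI : Nontrivial E :=
    ⟨1, 0, fun h => hu0 (congrArg (fun f : E => (f : AddMonoid.End (Additive P.Z)) u0) h)⟩
  -- an invariant subgroup is trivial or everything
  have hirr : ∀ W : Subgroup P.Z, (∀ h : P.H, ∀ w ∈ W, P.act h w ∈ W) → W = ⊥ ∨ W = ⊤ := by
    intro W hW
    by_cases hb : W = ⊥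
    · exact Or.inl hb
    · obtain ⟨w, hw, w1⟩ : ∃ w ∈ W, w ≠ 1 := by
        by_contra h
        push Not at h
        exact hb ((Subgroup.eq_bot_iff_forall _).2 h)
      refine Or.inr (eq_top_iff.2 fun y _ => ?_)
      by_cases y1 : y = 1
      · exact y1 ▸ W.one_mem
      · obtain ⟨h, rfl⟩ := P.act_trans w1 y1
        exact hW h w hw
  have hker : ∀ f : E, f ≠ 0 → ∀ v, (f : AddMonoid.End (Additive P.Z)) v = 0 → v = 0 := by
    intro f hf v hv
    let W : Subgroup P.Z :=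
      { carrier := {w | (f : AddMonoid.End (Additive P.Z)) (Additive.ofMul w) = 0}
        one_mem' := map_zero (f : AddMonoid.End (Additive P.Z))
        mul_mem' := fun {x y} hx hy => by
          show (f : AddMonoid.End (Additive P.Z)) (Additive.ofMul x + Additive.ofMul y) = 0
          rw [map_add]
          exact (congrArg₂ (· + ·) hx hy).trans (add_zero 0)
        inv_mem' := fun {x} hx => by
          show (f : AddMonoid.End (Additive P.Z)) (-Additive.ofMul x) = 0
          rw [map_neg]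
          exact (congrArg Neg.neg hx).trans neg_zero }
    have hinv : ∀ h : P.H, ∀ w ∈ W, P.act h w ∈ W := fun h w hw => by
      have hc : f * (⟨ρ h, Subring.subset_closure ⟨h, rfl⟩⟩ : E) = ⟨ρ h, Subring.subset_closure ⟨h, rfl⟩⟩ * f :=
        mul_comm _ _
      have h2 : (f : AddMonoid.End (Additive P.Z)) (ρ h (Additive.ofMul w)) =
          ρ h ((f : AddMonoid.End (Additive P.Z)) (Additive.ofMul w)) :=
        congrArg (fun g : E => (g : AddMonoid.End (Additive P.Z)) (Additive.ofMul w)) hc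
      show (f : AddMonoid.End (Additive P.Z)) (ρ h (Additive.ofMul w)) = 0
      rw [h2, show (f : AddMonoid.End (Additive P.Z)) (Additive.ofMul w) = 0 from hw, map_zero]
    rcases hirr W hinv with h | h
    · exact Subgroup.mem_bot.mp (h ▸ (show v.toMul ∈ W from hv))
    · exfalso
      refine hf (Subtype.ext (AddMonoidHom.ext fun w => ?_))
      exact (show w.toMul ∈ W from h ▸ Subgroup.mem_top _)
  haveI : NoZeroDivisors E := ⟨fun {f g} hfg => by
    by_contra h
    push Not at h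
    refine h.2 (Subtype.ext (AddMonoidHom.ext fun w => hker f h.1 _ ?_))
    exact congrArg (fun z : E => (z : AddMonoid.End (Additive P.Z)) w) hfg⟩
  haveI : IsDomain E := NoZeroDivisors.to_isDomain E
  haveI : Finite E := Finite.of_injective
    (fun f : E => ((f : AddMonoid.End (Additive P.Z)) : Additive P.Z → Additive P.Z))
    (fun f g h => Subtype.ext (DFunLike.coe_injective h))
  haveI : Fintype E := Fintype.ofFinite E
  letI : Field E := Fintype.fieldOfDomain E
  haveI : Small.{0} E := inferInstance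
  let ev : E →+ Additive P.Z :=
    AddMonoidHom.mk' (fun f => (f : AddMonoid.End (Additive P.Z)) u0) fun f g => rfl
  have hevinj : Function.Injective ev := (injective_iff_map_eq_zero ev).mpr fun f hf => by
    by_contra hne
    exact hu0 (hker f hne u0 hf)
  have hevsurj : Function.Surjective ev := by
    intro v
    by_cases hv : v = 0
    · exact ⟨0, by rw [map_zero, hv]⟩
    · obtain ⟨h, hh⟩ := P.act_trans (z := u0.toMul) (y := v.toMul) hu0 hv
      exact ⟨⟨ρ h, Subring.subset_closure ⟨h, rfl⟩⟩, congrArg Additive.ofMul hh⟩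
  let ι : Shrink.{0} E ≃+* E := Shrink.ringEquiv E
  letI : Fintype (Shrink.{0} E) := Fintype.ofEquiv E (equivShrink E)
  let χ₀ : P.H →* E := ρ.codRestrict E fun h => Subring.subset_closure ⟨h, rfl⟩
  let z' : Shrink.{0} E → P.Z := fun x => (ev (ι x)).toMul
  have hz'bij : Function.Bijective z' :=
    (Additive.toMul.bijective.comp ⟨hevinj, hevsurj⟩).comp ι.bijective
  have hconj : ∀ (h : P.H) (x : Shrink.{0} E), z' (ι.symm (χ₀ h) * x) = P.act h (z' x) := by
    intro h x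
    show (ev (ι (ι.symm (χ₀ h) * x))).toMul = _
    rw [map_mul, RingEquiv.apply_symm_apply]
    rfl
  let χ : P.H →* (Shrink.{0} E)ˣ := ((ι.symm : E →* Shrink.{0} E).comp χ₀).toHomUnits
  refine ⟨Shrink.{0} E, inferInstance, inferInstance, ?_, ⟨
    { z := fun x => z' x
      z_mem := fun x => (z' x).2
      z_add := fun x y => by
        show ((ev (ι (x + y))).toMul : G) = _
        rw [map_add, map_add]
        rfl
      z_inj := Subtype.val_injective.comp hz'bij.1
      z_surj := fun g hg => by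
        obtain ⟨x, hx⟩ := hz'bij.2 ⟨g, hg⟩
        exact ⟨x, congrArg Subtype.val hx⟩
      χ := χ
      conj_z := fun h x => ?_
      χ_surj := fun c => ?_ }⟩⟩
  · rw [← Nat.card_eq_fintype_card, Nat.card_congr (Equiv.ofBijective z' hz'bij), P.card_Z]
  · show (h : G) * z' x * (h : G)⁻¹ = _
    rw [← P.act_coe, ← hconj]
    rfl
  · have h0 : z' (c : Shrink.{0} E) ≠ 1 := fun e => c.ne_zero (hz'bij.1 (e.trans (show (1 : P.Z) = z' 0 by
      show _ = (ev (ι 0)).toMul
      rw [map_zero, map_zero]; rfl)))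
    have h1 : z' (1 : Shrink.{0} E) ≠ 1 := fun e => one_ne_zero (hz'bij.1 (e.trans (show (1 : P.Z) = z' 0 by
      show _ = (ev (ι 0)).toMul
      rw [map_zero, map_zero]; rfl)))
    obtain ⟨h, hh⟩ := P.act_trans h1 h0
    refine ⟨h, Units.ext ?_⟩
    refine hz'bij.1 ?_
    rw [← hh, ← hconj, mul_one]
    rfl

variable {P : Pre G Ω p n} {k : Type} [Field k]

/-- The conjugation `scaleS` as a homomorphism. -/
def scaleHom (c : kˣ) : SpecialLinearGroup (Fin 2) k →* SpecialLinearGroup (Fin 2) k where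
  toFun := scaleS c
  map_one' := by
    apply Subtype.ext
    ext i j
    fin_cases i <;> fin_cases j <;> simp [scaleS]
  map_mul' m m' := by
    apply Subtype.ext
    ext i j
    fin_cases i <;> fin_cases j <;> simp [scaleS, Matrix.mul_apply, Fin.sum_univ_two] <;>
      field_simp

/-- The anti-diagonal elements. -/
def nS (t : kˣ) : SpecialLinearGroup (Fin 2) k :=
  ⟨!![0, (t : k); -(↑t⁻¹ : k), 0], by simp [Matrix.det_fin_two]⟩

theorem nS_one : nS (1 : kˣ) = wS := by
  apply Subtype.ext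
  simp [nS, wS]

theorem sl_closure [Finite k] :
    Subgroup.closure (Set.range (SL2Pres.up (K := k)) ∪ Set.range (SL2Pres.low (K := k))) = ⊤ := by
  refine eq_top_iff.2 fun m _ => ?_
  obtain ⟨g, rfl⟩ := (SL2Pres.toSL_bijective (K := k)).2 m
  have hg : g ∈ Subgroup.closure (Set.range (SL2Pres.presData (K := k)).X ∪
      Set.range (SL2Pres.presData (K := k)).Y) := by
    rw [SL2Pres.presData_gen]; trivial
  have h := Subgroup.mem_map_of_mem SL2Pres.toSL hg
  rw [MonoidHom.map_closure] at h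
  refine Subgroup.closure_mono ?_ h
  rintro _ ⟨_, ⟨t, rfl⟩ | ⟨t, rfl⟩, rfl⟩
  · exact Or.inl ⟨t, (SL2Pres.toSL_of true t).symm⟩
  · exact Or.inr ⟨t, (SL2Pres.toSL_of false t).symm⟩

namespace Coord

variable (C : Coord P k)
include C

/-- The point with coordinate `x`. -/
def pt (x : k) : Ω := C.z x • P.b

theorem z_zero : C.z 0 = 1 := mul_eq_left.1 (by rw [← C.z_add, add_zero] : C.z 0 * C.z 0 = C.z 0)

theorem z_neg (x : k) : (C.z x)⁻¹ = C.z (-x) :=
  inv_eq_of_mul_eq_one_right (by rw [← C.z_add, add_neg_cancel, C.z_zero])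

theorem z_a (x : k) : C.z x • P.a = P.a := P.U_le _ (P.Z_le (C.z_mem x))

theorem z_pt (x y : k) : C.z y • C.pt x = C.pt (y + x) := by rw [pt, pt, C.z_add, mul_smul]

theorem pt_zero : C.pt 0 = P.b := by rw [pt, C.z_zero, one_smul]

theorem pt_inj : Function.Injective C.pt := fun x y e =>
  C.z_inj (P.U_cancel (P.Z_le (C.z_mem x)) (P.Z_le (C.z_mem y)) e)

theorem pt_ne_a (x : k) : C.pt x ≠ P.a := P.Ub_ne (P.Z_le (C.z_mem x))

theorem pt_ne_b {x : k} (hx : x ≠ 0) : C.pt x ≠ P.b := fun e => hx (C.pt_inj (e.trans C.pt_zero.symm))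

theorem j_pt (x : k) : P.j • C.pt x = C.pt x := P.j_Zb (C.z_mem x)

theorem F_cases {c : Ω} (hc : P.j • c = c) : c = P.a ∨ ∃ x, C.pt x = c := by
  rcases (P.j_iff c).1 hc with h | ⟨z, hz, h⟩
  · exact Or.inl h
  · obtain ⟨x, rfl⟩ := C.z_surj z hz
    exact Or.inr ⟨x, h⟩

theorem F_ne {c : Ω} (hc : P.j • c = c) (ha : c ≠ P.a) (hb : c ≠ P.b) : ∃ x, x ≠ 0 ∧ C.pt x = c := by
  rcases C.F_cases hc with h | ⟨x, h⟩
  · exact absurd h ha
  · exact ⟨x, fun e => hb (by rw [← h, e, C.pt_zero]), h⟩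

theorem h_pt (h : P.H) (x : k) : (h : G) • C.pt x = C.pt ((C.χ h : k) * x) := by
  rw [pt, P.H_smul h.2, C.conj_z]
  rfl

theorem χ_eq_of_pt {g : G} (hg : g ∈ P.H) {c : k} (e : g • C.pt 1 = C.pt c) : (C.χ ⟨g, hg⟩ : k) = c := by
  have := C.h_pt ⟨g, hg⟩ 1
  rw [mul_one] at this
  exact C.pt_inj (this.symm.trans e)

theorem z_one_ne : C.z 1 ≠ 1 := fun e => one_ne_zero (C.z_inj (e.trans C.z_zero.symm))

theorem z_comm_j (x : k) : Commute (C.z x) P.j := ((P.j_fix _ (P.Z_le (C.z_mem x))).2 (C.z_mem x)).symm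

theorem mem_K_of_fix {g : G} (ga : g • P.a = P.a) (gb : g • P.b = P.b) {x : k} (hx : x ≠ 0)
    (gx : g • C.pt x = C.pt x) : g ∈ P.K :=
  P.three_K ga gb (C.z_mem x) (fun e => hx (C.z_inj (e.trans C.z_zero.symm))) gx

theorem two_ne : (2 : k) ≠ 0 := fun h2 => by
  have h : C.z 1 ^ 2 = 1 := by rw [pow_two, ← C.z_add, one_add_one_eq_two, h2, C.z_zero]
  have hd : orderOf (C.z 1) ∣ p ^ n := by
    rw [← P.card_Z, ← Subgroup.orderOf_mk (C.z 1) (C.z_mem 1)]
    exact orderOf_dvd_natCard _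
  exact C.z_one_ne (orderOf_eq_one_iff.1 (Nat.eq_one_of_dvd_coprimes
    (Nat.coprime_two_left.2 P.q_odd) (orderOf_dvd_of_pow_eq_one h) hd))

/-- The element exchanging the two points as `x ↦ -1/x`. -/
theorem exists_inv : ∃ w : G, Commute w P.j ∧ w • P.a = P.b ∧ w • P.b = P.a ∧
    ∀ x : k, x ≠ 0 → w • C.pt x = C.pt (-x⁻¹) := by
  classical
  obtain ⟨t, htj, hta, htb, ht1, htm1, htfix, htsq⟩ := P.exists_swap_fix (C.z_mem 1) C.z_one_ne
  rw [C.z_neg] at htm1 htfix
  change t • C.pt 1 = C.pt 1 at ht1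
  change t • C.pt (-1) = C.pt (-1) at htm1
  change ∀ c, P.j • c = c → t • c = c → c = C.pt 1 ∨ c = C.pt (-1) at htfix
  have hex : ∀ x : k, ∃ y : k, x ≠ 0 → y ≠ 0 ∧ t • C.pt x = C.pt y := by
    intro x
    by_cases hx : x = 0
    · exact ⟨0, fun h => absurd hx h⟩
    · obtain ⟨y, hy, e⟩ := C.F_ne (P.F_smul htj (C.j_pt x))
        (fun e => C.pt_ne_b hx ((smul_left_cancel_iff t).1 (e.trans htb.symm)))
        (fun e => C.pt_ne_a x ((smul_left_cancel_iff t).1 (e.trans hta.symm)))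
      exact ⟨y, fun _ => ⟨hy, e.symm⟩⟩
  choose σ hσ using hex
  have hσ1 : σ 1 = 1 := C.pt_inj ((hσ 1 one_ne_zero).2.symm.trans ht1)
  have hσm1 : σ (-1) = -1 := C.pt_inj ((hσ _ (neg_ne_zero.2 one_ne_zero)).2.symm.trans htm1)
  have hσσ : ∀ x, x ≠ 0 → σ (σ x) = x := fun x hx => C.pt_inj (by
    rw [← (hσ _ (hσ x hx).1).2, ← (hσ x hx).2, htsq _ (C.j_pt x)])
  have hmul : ∀ x y, x ≠ 0 → y ≠ 0 → σ (x * y) = σ x * σ y := by
    intro x y hx hy
    obtain ⟨h, hh⟩ := C.χ_surj (Units.mk0 x hx)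
    have hh' : t * (h : G) * t⁻¹ ∈ P.H := (P.H_iff _).2
      ⟨by rw [mul_smul, mul_smul, show t⁻¹ • P.a = P.b from inv_smul_eq_iff.2 htb.symm, P.H_b h.2, htb],
        by rw [mul_smul, mul_smul, show t⁻¹ • P.b = P.a from inv_smul_eq_iff.2 hta.symm, P.H_a h.2, hta]⟩
    have key : ∀ y, y ≠ 0 → σ (x * y) = (C.χ ⟨_, hh'⟩ : k) * σ y := fun y hy => C.pt_inj (by
      rw [← (hσ _ (mul_ne_zero hx hy)).2, ← C.h_pt, ← (hσ y hy).2]
      show t • C.pt (x * y) = (t * (h : G) * t⁻¹) • t • C.pt y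
      rw [mul_smul, mul_smul, inv_smul_smul, C.h_pt, hh]
      rfl)
    have h1 := key 1 one_ne_zero
    rw [mul_one, hσ1, mul_one] at h1
    rw [key y hy, h1]
  set e : k → k := fun x => x * σ x with he
  have he_pm : ∀ x, x ≠ 0 → e x = 1 ∨ e x = -1 := by
    intro x hx
    have h0 : x * σ x ≠ 0 := mul_ne_zero hx (hσ x hx).1
    have hfx : t • C.pt (x * σ x) = C.pt (x * σ x) := by
      rw [(hσ _ h0).2, hmul _ _ hx (hσ x hx).1, hσσ x hx, mul_comm]
    rcases htfix _ (C.j_pt _) hfx with h | h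
    · exact Or.inl (C.pt_inj h)
    · exact Or.inr (C.pt_inj h)
  have he_mul : ∀ x y, x ≠ 0 → y ≠ 0 → e (x * y) = e x * e y := fun x y hx hy => by
    simp only [he, hmul x y hx hy]; ring
  have he1 : e 1 = 1 := by simp only [he, hσ1, one_mul]
  have hem1 : e (-1) = 1 := by simp only [he, hσm1]; ring
  have hσe : ∀ x, x ≠ 0 → σ x = e x * x⁻¹ := fun x hx => by
    simp only [he]; field_simp
  obtain ⟨hm, hhm⟩ := C.χ_surj (-1)
  have hm_pt : ∀ x, (hm : G) • C.pt x = C.pt (-x) := fun x => by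
    rw [C.h_pt, hhm, Units.val_neg, Units.val_one, neg_one_mul]
  -- the map `x ↦ σ (1 - x)` has order three
  set g : G := t * C.z 1 * (hm : G) with hg
  have hga : g • P.a = P.b := by rw [hg, mul_smul, mul_smul, P.H_a hm.2, C.z_a, hta]
  have hgb : g • P.b = C.pt 1 := by
    rw [hg, mul_smul, mul_smul, P.H_b hm.2]
    exact ht1
  have hg1 : g • C.pt 1 = P.a := by
    rw [hg, mul_smul, mul_smul, hm_pt, C.z_pt, add_neg_cancel, C.pt_zero, htb]
  have hgpt : ∀ x, x ≠ 1 → g • C.pt x = C.pt (σ (1 - x)) := fun x hx => by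
    rw [hg, mul_smul, mul_smul, hm_pt, C.z_pt, ← sub_eq_add_neg,
      (hσ _ (sub_ne_zero.2 (Ne.symm hx))).2]
  have hg3 : g * g * g ∈ P.K := C.mem_K_of_fix (by rw [mul_smul, mul_smul, hga, hgb, hg1])
    (by rw [mul_smul, mul_smul, hgb, hg1, hga]) one_ne_zero (by rw [mul_smul, mul_smul, hg1, hga, hgb])
  have hpm : ∀ a : k, a = 1 ∨ a = -1 → a * a = 1 := by
    rintro a (rfl | rfl) <;> ring
  have hkey : ∀ x, x ≠ 0 → x ≠ 1 → e (1 - x) = 1 → e x = 1 := by
    intro x hx0 hx1 he'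
    rcases he_pm x hx0 with h | h
    · exact h
    exfalso
    have h1x : (1 : k) - x ≠ 0 := sub_ne_zero.2 (Ne.symm hx1)
    set x₁ := σ (1 - x) with hx₁
    have hx₁v : x₁ = (1 - x)⁻¹ := by rw [hx₁, hσe _ h1x, he', one_mul]
    have hx₁1 : x₁ ≠ 1 := fun e1 => hx0 (by
      rw [hx₁v] at e1
      linear_combination -(inv_eq_one.1 e1))
    have hy₁ : (1 : k) - x₁ = -1 * (x * (1 - x)⁻¹) := by rw [hx₁v]; field_simp; ring
    have hinv : e ((1 - x)⁻¹) = 1 := by
      have := he_mul _ _ h1x (inv_ne_zero h1x)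
      rw [mul_inv_cancel₀ h1x, he1, he', one_mul] at this
      exact this.symm
    have hey : e (1 - x₁) = -1 := by
      rw [hy₁, he_mul _ _ (neg_ne_zero.2 one_ne_zero) (mul_ne_zero hx0 (inv_ne_zero h1x)),
        he_mul _ _ hx0 (inv_ne_zero h1x), hem1, h, hinv]
      ring
    set x₂ := σ (1 - x₁) with hx₂
    have hx₂v : x₂ = (1 - x) / x := by
      rw [hx₂, hσe _ (sub_ne_zero.2 (Ne.symm hx₁1)), hey, hy₁]
      field_simp
    have h3 := P.K_smul hg3 (C.j_pt x)
    rw [mul_smul, mul_smul, hgpt x hx1, hgpt _ hx₁1] at h3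
    by_cases hx₂1 : x₂ = 1
    · rw [← hx₂, hx₂1, hg1] at h3
      exact C.pt_ne_a x h3.symm
    · rw [← hx₂, hgpt _ hx₂1] at h3
      have h4 := C.pt_inj h3
      have h2x : (2 : k) * x - 1 ≠ 0 := fun e0 => hx₂1 (by
        rw [hx₂v, div_eq_one_iff_eq hx0]
        linear_combination -e0)
      have hy₂ : (1 : k) - x₂ = (2 * x - 1) / x := by rw [hx₂v]; field_simp; ring
      rw [hσe _ (sub_ne_zero.2 (Ne.symm hx₂1))] at h4
      have hp := he_pm _ (sub_ne_zero.2 (Ne.symm hx₂1))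
      rw [hy₂] at h4 hp
      rcases hp with hp | hp
      · rw [hp, one_mul, inv_div, div_eq_iff h2x] at h4
        have h5 : (2 : k) * (x * (x - 1)) = 0 := by linear_combination -h4
        exact hx1 (sub_eq_zero.1 ((mul_eq_zero.1 ((mul_eq_zero.1 h5).resolve_left C.two_ne)).resolve_left hx0))
      · rw [hp, neg_one_mul, inv_div, ← neg_div, div_eq_iff h2x] at h4
        have h5 : (2 : k) * (x * x) = 0 := by linear_combination -h4
        exact hx0 (mul_self_eq_zero.1 ((mul_eq_zero.1 h5).resolve_left C.two_ne))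
  have hall : ∀ x, x ≠ 0 → e x = 1 := by
    intro x hx
    by_contra hne
    have hex : e x = -1 := (he_pm x hx).resolve_left hne
    have hsub : ∀ u v : k, u ≠ 0 → v ≠ 0 → u ≠ v → e u = 1 → e v = 1 → e (u - v) = 1 := by
      intro u v hu hv huv eu ev
      have hvu : v * u⁻¹ ≠ 1 := fun e1 => huv (by
        rw [← div_eq_mul_inv, div_eq_one_iff_eq hu] at e1
        exact e1.symm)
      have h1 : e (v * u⁻¹) = 1 := by
        have := he_mul _ _ hu (inv_ne_zero hu)
        rw [mul_inv_cancel₀ hu, he1, eu, one_mul] at this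
        rw [he_mul _ _ hv (inv_ne_zero hu), ev, ← this, one_mul]
      have h2 : e (1 - v * u⁻¹) = 1 := hkey _ (sub_ne_zero.2 (Ne.symm hvu))
        (fun e1 => mul_ne_zero hv (inv_ne_zero hu) (by linear_combination -e1))
        (by rw [sub_sub_cancel]; exact h1)
      rw [show u - v = u * (1 - v * u⁻¹) by field_simp,
        he_mul _ _ hu (sub_ne_zero.2 (Ne.symm hvu)), eu, h2, one_mul]
    have hadd : ∀ v : k, v ≠ 0 → v ≠ -1 → e v = 1 → e (v + 1) = 1 := fun v hv hv1 ev => by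
      have := hsub v (-1) hv (neg_ne_zero.2 one_ne_zero) hv1 ev hem1
      rwa [sub_neg_eq_add] at this
    have hxm1 : x ≠ -1 := fun e1 => hne (by rw [e1, hem1])
    have hx1' : x + 1 ≠ 0 := fun e1 => hxm1 (eq_neg_of_add_eq_zero_left e1)
    have h1 : e (x + 1) = -1 := by
      rcases he_pm _ hx1' with h | h
      · exfalso
        refine hne ?_
        have := hsub (x + 1) 1 hx1' one_ne_zero (fun e1 => hx (by linear_combination e1)) h he1
        rwa [add_sub_cancel_right] at this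
      · exact h
    have hi : e x⁻¹ = -1 := by
      have := he_mul _ _ hx (inv_ne_zero hx)
      rw [mul_inv_cancel₀ hx, he1, hex] at this
      linear_combination this
    have h2 : e ((x + 1) * x⁻¹) = 1 := by
      rw [he_mul _ _ hx1' (inv_ne_zero hx), h1, hi]; ring
    have h3 : e x⁻¹ = 1 := by
      have := hsub _ 1 (mul_ne_zero hx1' (inv_ne_zero hx)) one_ne_zero (fun e1 => by
        rw [← div_eq_mul_inv, div_eq_one_iff_eq hx] at e1
        exact one_ne_zero (add_eq_left.1 e1)) h2 he1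
      rwa [show (x + 1) * x⁻¹ - 1 = x⁻¹ by field_simp; ring] at this
    rcases he_pm x hx with h | h
    · exact hne h
    · have := hpm _ (he_pm x hx)
      exact hne (by rw [hex, ← hi, h3])
  refine ⟨t * (hm : G), htj.mul_left (P.H_comm hm.2 P.j_mem), ?_, ?_, fun x hx => ?_⟩
  · rw [mul_smul, P.H_a hm.2, hta]
  · rw [mul_smul, P.H_b hm.2, htb]
  · rw [mul_smul, hm_pt, (hσ _ (neg_ne_zero.2 hx)).2, hσe _ (neg_ne_zero.2 hx),
      hall _ (neg_ne_zero.2 hx), one_mul, inv_neg]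

end Coord

/-- The group `SL₂` on the fixed points of `j`. -/
structure Lift (C : Coord P k) where
  φ : SpecialLinearGroup (Fin 2) k →* G
  φ_z : ∀ t, φ (zS t) = C.z t
  comm : ∀ m, Commute (φ m) P.j
  conj_phi : ∀ (h : P.H) (m : SpecialLinearGroup (Fin 2) k),
    (h : G) * φ m * (h : G)⁻¹ = φ (scaleS (C.χ h) m)
  n_a : ∀ t, φ (nS t) • P.a = P.b
  n_b : ∀ t, φ (nS t) • P.b = P.a
  n_pt : ∀ (t : kˣ) (x : k), x ≠ 0 → φ (nS t) • C.pt x = C.pt (-((t : k) ^ 2 / x))

theorem Coord.exists_lift [Finite k] (C : Coord P k) : Nonempty (Lift C) := by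
  obtain ⟨w, hwj, hwa, hwb, hwpt⟩ := C.exists_inv
  have hwinv : ∀ x : k, x ≠ 0 → w⁻¹ • C.pt x = C.pt (-x⁻¹) := fun x hx => by
    rw [inv_smul_eq_iff, hwpt _ (neg_ne_zero.2 (inv_ne_zero hx)), inv_neg, inv_inv, neg_neg]
  have hwa' : w⁻¹ • P.a = P.b := inv_smul_eq_iff.2 hwb.symm
  have hwb' : w⁻¹ • P.b = P.a := inv_smul_eq_iff.2 hwa.symm
  have hw2 : w * w ∈ P.K := C.mem_K_of_fix (by rw [mul_smul, hwa, hwb]) (by rw [mul_smul, hwb, hwa])
    one_ne_zero (by rw [mul_smul, hwpt 1 one_ne_zero, inv_one, hwpt _ (neg_ne_zero.2 one_ne_zero),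
      inv_neg, inv_one, neg_neg])
  set Y : k → G := fun s => w * C.z (-s) * w⁻¹ with hY
  have hYb : ∀ s, Y s • P.b = P.b := fun s => by
    simp only [hY, mul_smul, hwb', C.z_a, hwa]
  have hYa : ∀ s, s ≠ 0 → Y s • P.a = C.pt s⁻¹ := fun s hs => by
    simp only [hY, mul_smul, hwa']
    show w • C.pt (-s) = _
    rw [hwpt _ (neg_ne_zero.2 hs), inv_neg, neg_neg]
  have hYpole : ∀ s x, x ≠ 0 → 1 + s * x = 0 → Y s • C.pt x = P.a := fun s x hx h => by
    simp only [hY, mul_smul, hwinv x hx, C.z_pt]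
    rw [show -s + -x⁻¹ = 0 by field_simp; linear_combination -h, C.pt_zero, hwb]
  have hYpt : ∀ s x, 1 + s * x ≠ 0 → Y s • C.pt x = C.pt (x / (1 + s * x)) := fun s x h => by
    by_cases hx : x = 0
    · rw [hx, zero_div, C.pt_zero, hYb]
    · simp only [hY, mul_smul, hwinv x hx, C.z_pt]
      have h' : -s + -x⁻¹ ≠ 0 := fun e => h (by field_simp at e; linear_combination -e)
      rw [hwpt _ h']
      congr 1
      field_simp
      ring
  set M : kˣ → G := fun t => C.z (t : k) * Y (-(t : k)⁻¹) * C.z (t : k) with hM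
  have hMa : ∀ t : kˣ, M t • P.a = P.b := fun t => by
    simp only [hM, mul_smul, C.z_a, hYa _ (neg_ne_zero.2 (inv_ne_zero t.ne_zero)), inv_neg, inv_inv,
      C.z_pt, add_neg_cancel, C.pt_zero]
  have hMb : ∀ t : kˣ, M t • P.b = P.a := fun t => by
    simp only [hM, mul_smul]
    show C.z (t : k) • Y (-(t : k)⁻¹) • C.pt (t : k) = _
    rw [hYpole _ _ t.ne_zero (by rw [neg_mul, inv_mul_cancel₀ t.ne_zero, add_neg_cancel]), C.z_a]
  have hMpt : ∀ (t : kˣ) (x : k), x ≠ 0 → M t • C.pt x = C.pt (-((t : k) ^ 2 / x)) := fun t x hx => by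
    have ht := t.ne_zero
    have h' : 1 + -(t : k)⁻¹ * ((t : k) + x) ≠ 0 := fun e => hx (by
      field_simp at e
      linear_combination -e)
    simp only [hM, mul_smul, C.z_pt, hYpt _ _ h']
    congr 1
    field_simp
    ring
  have hYadd : ∀ t u, Y t * Y u = Y (t + u) := fun t u => by
    simp only [hY, neg_add, C.z_add]; group
  have hYneg : ∀ s, w * C.z s * w⁻¹ = Y (-s) := fun s => by simp only [hY, neg_neg]
  have hYw : ∀ s, w * Y s * w⁻¹ = C.z (-s) := fun s => by
    simp only [hY]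
    rw [show w * (w * C.z (-s) * w⁻¹) * w⁻¹ = (w * w) * C.z (-s) * (w * w)⁻¹ by group,
      ((P.mem_K.1 hw2).2 _ (C.z_mem _)).eq, mul_inv_cancel_right]
  have hrelX : ∀ t u : k, t ≠ 0 → (C.z t * Y (-t⁻¹) * C.z t) * C.z u * (C.z t * Y (-t⁻¹) * C.z t)⁻¹ =
      Y (-(t⁻¹ ^ 2 * u)) := by
    intro t u ht
    set s := Units.mk0 t ht
    change M s * C.z u * (M s)⁻¹ = _
    have hh : w⁻¹ * M s ∈ P.H := (P.H_iff _).2
      ⟨by rw [mul_smul, hMa, hwb'], by rw [mul_smul, hMb, hwa']⟩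
    have hχ : (C.χ ⟨_, hh⟩ : k) = t⁻¹ ^ 2 := C.χ_eq_of_pt hh (by
      rw [mul_smul, hMpt s 1 one_ne_zero, div_one,
        hwinv _ (neg_ne_zero.2 (pow_ne_zero _ s.ne_zero)), inv_neg, neg_neg, inv_pow]
      rfl)
    have h1 := C.conj_z ⟨_, hh⟩ u
    rw [hχ] at h1
    rw [← hYneg, ← h1]
    group
  let D : SL2Pres.SData k G :=
    { X := C.z
      Y := Y
      addX := fun t u => (C.z_add t u).symm
      addY := hYadd
      relX := hrelX
      relY := fun t u ht => by
        have h1 := congrArg (fun g => w * g * w⁻¹) (hrelX (-t) (-u) (neg_ne_zero.2 ht))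
        rw [hYw] at h1
        rw [show w * ((C.z (-t) * Y (-(-t)⁻¹) * C.z (-t)) * C.z (-u) *
              (C.z (-t) * Y (-(-t)⁻¹) * C.z (-t))⁻¹) * w⁻¹ =
            ((w * C.z (-t) * w⁻¹) * (w * Y (-(-t)⁻¹) * w⁻¹) * (w * C.z (-t) * w⁻¹)) *
              (w * C.z (-u) * w⁻¹) *
              ((w * C.z (-t) * w⁻¹) * (w * Y (-(-t)⁻¹) * w⁻¹) * (w * C.z (-t) * w⁻¹))⁻¹ by group,
          hYneg, hYneg, hYw, neg_neg, neg_neg, neg_neg, inv_neg] at h1
        simpa using h1 }
  obtain ⟨φ, hφX, hφY⟩ := SL2Pres.exists_hom D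
  change ∀ t, φ (SL2Pres.up t) = C.z t at hφX
  change ∀ t, φ (SL2Pres.low t) = Y t at hφY
  have hn : ∀ t : kˣ, φ (nS t) = M t := fun t => by
    rw [show nS t = SL2Pres.up (t : k) * SL2Pres.low (-(t : k)⁻¹) * SL2Pres.up (t : k) from ?_]
    · rw [map_mul, map_mul, hφX, hφY]
    · apply Subtype.ext
      ext i j
      fin_cases i <;> fin_cases j <;> simp [nS, SL2Pres.up_val, SL2Pres.low_val]
  refine ⟨{ φ := φ, φ_z := hφX, comm := fun m => ?_, conj_phi := fun h m => ?_,
            n_a := fun t => (hn t).symm ▸ hMa t, n_b := fun t => (hn t).symm ▸ hMb t,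
            n_pt := fun t x hx => (hn t).symm ▸ hMpt t x hx }⟩
  · have : (⊤ : Subgroup _) ≤ P.C.comap φ := by
      rw [← sl_closure (k := k), Subgroup.closure_le]
      rintro _ (⟨t, rfl⟩ | ⟨t, rfl⟩) <;> rw [SetLike.mem_coe, Subgroup.mem_comap, P.mem_C]
      · rw [hφX]; exact C.z_comm_j t
      · rw [hφY]; exact (hwj.mul_left (C.z_comm_j _)).mul_left hwj.inv_left
    exact P.mem_C.1 (this (Subgroup.mem_top m))
  · have hh : w⁻¹ * (h : G) * w ∈ P.H := (P.H_iff _).2
      ⟨by rw [mul_smul, mul_smul, hwa, P.H_b h.2, hwb'], by rw [mul_smul, mul_smul, hwb, P.H_a h.2, hwa']⟩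
    have hc := (C.χ h).ne_zero
    have hχ : (C.χ ⟨_, hh⟩ : k) = (C.χ h : k)⁻¹ := C.χ_eq_of_pt hh (by
      rw [mul_smul, mul_smul, hwpt 1 one_ne_zero, inv_one, C.h_pt,
        hwinv _ (mul_ne_zero hc (neg_ne_zero.2 one_ne_zero)), mul_neg, mul_one, inv_neg, neg_neg])
    have heq : ((MulAut.conj (h : G)).toMonoidHom.comp φ) = φ.comp (scaleHom (C.χ h)) := by
      refine MonoidHom.eq_of_eqOn_dense (sl_closure (k := k)) ?_
      rintro _ (⟨t, rfl⟩ | ⟨t, rfl⟩)
      · show (h : G) * φ (SL2Pres.up t) * (h : G)⁻¹ = φ (scaleS (C.χ h) (SL2Pres.up t))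
        rw [show scaleS (C.χ h) (SL2Pres.up t) = SL2Pres.up ((C.χ h : k) * t) from ?_]
        · rw [hφX, hφX, C.conj_z]
        · apply Subtype.ext; simp [scaleS, SL2Pres.up_val]
      · show (h : G) * φ (SL2Pres.low t) * (h : G)⁻¹ = φ (scaleS (C.χ h) (SL2Pres.low t))
        rw [show scaleS (C.χ h) (SL2Pres.low t) = SL2Pres.low ((C.χ h : k)⁻¹ * t) from ?_]
        · rw [hφY, hφY]
          simp only [hY]
          rw [← mul_neg, ← hχ, ← C.conj_z]
          group
        · apply Subtype.ext; simp [scaleS, SL2Pres.low_val]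
    exact DFunLike.congr_fun heq m

end Cfsg.Agent.ONanU3
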