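import Cfsg.Prelude.Def_LieExceptional
import Mathlib.LinearAlgebra.Matrix.SpecialLinearGroup
import Mathlib.GroupTheory.GroupAction.MultipleTransitivity
import Mathlib.SetTheory.Cardinal.Finite
import Mathlib.GroupTheory.SpecificGroups.Cyclic
import Mathlib.Tactic.LinearCombination

/-!
# O'Nan's theorem on split rank-one groups of odd unitary type: the interfaces

`Pre` is what the group theory of the split rank-one action gives; `Frame` adds the group `SL₂(q)` on the fixed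
points of the central involution, regular on the remaining points. See `tools/scope/S1148_helper7.md`.
-/

set_option autoImplicit false

namespace Cfsg.Agent.ONanU3

universe u v

open MulAction Matrix

/-- The action with the centre `Z` of `U` and the involution `j` of the two-point stabiliser. -/
structure Pre (G : Type u) (Ω : Type v) [Group G] [MulAction G Ω] (p n : ℕ) where
  a : Ω
  b : Ω
  U : Subgroup G
  H : Subgroup G
  Z : Subgroup G
  j : G
  hp : p.Prime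
  hp2 : p ≠ 2
  hn : 1 ≤ n
  simple : IsSimpleGroup G
  faithful : FaithfulSMul G Ω
  two : IsMultiplyPretransitive G Ω 2
  ne : b ≠ a
  card_points : Nat.card Ω = (p ^ n) ^ 3 + 1
  U_le : ∀ x ∈ U, x • a = a
  U_reg : ∀ c : Ω, c ≠ a → ∃! x : U, (x : G) • b = c
  H_iff : ∀ h : G, h ∈ H ↔ h • a = a ∧ h • b = b
  H_norm : ∀ h ∈ H, ∀ x ∈ U, h * x * h⁻¹ ∈ U
  H_cyclic : IsCyclic H
  card_H : Nat.gcd 3 (p ^ n + 1) * Nat.card H = (p ^ n) ^ 2 - 1
  Z_le : Z ≤ U
  card_Z : Nat.card Z = p ^ n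
  Z_central : ∀ z ∈ Z, ∀ x ∈ U, Commute z x
  Z_norm : ∀ h ∈ H, ∀ z ∈ Z, h * z * h⁻¹ ∈ Z
  j_mem : j ∈ H
  j_order : orderOf j = 2
  /-- `j` centralises exactly `Z` in `U`. -/
  j_fix : ∀ x ∈ U, Commute j x ↔ x ∈ Z
  /-- `j` inverts `U` modulo `Z`. -/
  j_inv : ∀ x ∈ U, j * x * j⁻¹ * x ∈ Z
  /-- `U` is abelian modulo `Z`. -/
  comm_mod : ∀ x ∈ U, ∀ y ∈ U, x * y * x⁻¹ * y⁻¹ ∈ Z
  /-- A nontrivial element of `H` has its fixed points among those of `Z`. -/
  semi : ∀ h ∈ H, h ≠ 1 → ∀ x ∈ U, Commute h x → x ∈ Z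
  /-- An element of `H` centralising one nontrivial element of `Z` centralises `Z`. -/
  semi_Z : ∀ h ∈ H, ∀ z ∈ Z, z ≠ 1 → Commute h z → ∀ z' ∈ Z, Commute h z'
  /-- Such an element commutes with every element exchanging the two points. -/
  swap_comm : ∀ h ∈ H, (∃ z ∈ Z, z ≠ 1 ∧ Commute h z) → ∀ t : G, t • a = b → t • b = a → Commute t h

variable {k : Type} [Field k]

/-- The upper unitriangular matrices. -/
def zS (s : k) : SpecialLinearGroup (Fin 2) k := ⟨!![1, s; 0, 1], by simp [Matrix.det_fin_two]⟩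

/-- The element exchanging the two ends. -/
def wS : SpecialLinearGroup (Fin 2) k := ⟨!![0, 1; -1, 0], by simp [Matrix.det_fin_two]⟩

/-- Conjugation by `diag(c, 1)`. -/
def scaleS (c : kˣ) (m : SpecialLinearGroup (Fin 2) k) : SpecialLinearGroup (Fin 2) k :=
  ⟨!![m.1 0 0, (c : k) * m.1 0 1; (↑c⁻¹ : k) * m.1 1 0, m.1 1 1], by
    have h := m.2
    rw [Matrix.det_fin_two] at h
    rw [Matrix.det_fin_two_of]
    linear_combination h - m.1 0 1 * m.1 1 0 * c.mul_inv⟩

/-- The data from which the unitary group is recognised: `φ` is the group `SL₂(k)` on the fixed points of the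
central involution, regular on the other points. -/
structure Frame (G : Type u) (Ω : Type v) [Group G] [MulAction G Ω] (k : Type) [Field k] where
  a : Ω
  b : Ω
  p₀ : Ω
  U : Subgroup G
  H : Subgroup G
  φ : SpecialLinearGroup (Fin 2) k →* G
  χ : H → kˣ
  simple : IsSimpleGroup G
  faithful : FaithfulSMul G Ω
  two_ne : (2 : k) ≠ 0
  ne : b ≠ a
  U_le : ∀ x ∈ U, x • a = a
  U_reg : ∀ c : Ω, c ≠ a → ∃! x : U, (x : G) • b = c
  H_iff : ∀ h : G, h ∈ H ↔ h • a = a ∧ h • b = b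
  H_norm : ∀ h ∈ H, ∀ x ∈ U, h * x * h⁻¹ ∈ U
  H_cyclic : IsCyclic H
  card_H : Nat.gcd 3 (Nat.card k + 1) * Nat.card H = Nat.card k ^ 2 - 1
  w_a : φ wS • a = b
  w_b : φ wS • b = a
  z_mem : ∀ s, φ (zS s) ∈ U
  z_central : ∀ s, ∀ x ∈ U, Commute (φ (zS s)) x
  /-- The central involution inverts `U` modulo the centre. -/
  neg_inv : ∀ x ∈ U, ∃ s, φ (-1) * x * (φ (-1))⁻¹ * x = φ (zS s)
  /-- `U` is abelian modulo the centre. -/
  comm_mod : ∀ x ∈ U, ∀ y ∈ U, ∃ s, x * y * x⁻¹ * y⁻¹ = φ (zS s)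
  fix_iff : ∀ c : Ω, φ (-1) • c = c ↔ c = a ∨ ∃ s, φ (zS s) • b = c
  p₀_free : φ (-1) • p₀ ≠ p₀
  reg : ∀ c : Ω, φ (-1) • c ≠ c → ∃! m : SpecialLinearGroup (Fin 2) k, φ m • p₀ = c
  conj_phi : ∀ (h : H) (m : SpecialLinearGroup (Fin 2) k), (h : G) * φ m * (h : G)⁻¹ = φ (scaleS (χ h) m)
  /-- A nontrivial element of `H` fixes only points fixed by the central involution. -/
  free : ∀ h ∈ H, h ≠ 1 → ∀ c : Ω, h • c = c → φ (-1) • c = c

end Cfsg.Agent.ONanU3
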