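import Cfsg.Agent.Lib.ONanU3.Points

/-!
# The torus on the rows, and the product identities
-/

set_option autoImplicit false
set_option linter.style.haveILetI false
set_option linter.unusedSectionVars false

namespace Cfsg.Agent.ONanU3

open MulAction Matrix

universe u v

variable {G : Type u} {Ω : Type v} [Group G] [MulAction G Ω] {k : Type} [Field k]

local notation "SL" => SpecialLinearGroup (Fin 2) k

/-- A row times a matrix. -/
def rowMul (v : k × k) (m : SL) : k × k := (v.1 * m.1 0 0 + v.2 * m.1 1 0, v.1 * m.1 0 1 + v.2 * m.1 1 1)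

theorem mul_rows (m n : SL) : top (m * n) = rowMul (top m) n ∧ bot (m * n) = rowMul (bot m) n := by
  constructor <;> simp [top, bot, rowMul, SpecialLinearGroup.coe_mul, Matrix.mul_apply, Fin.sum_univ_two]

namespace Frame

variable (Fr : Frame G Ω k)

theorem H_pt_free (h : Fr.H) : Fr.J • (h : G) • Fr.p₀ ≠ (h : G) • Fr.p₀ := fun e => Fr.p₀_free (by
  rw [← mul_smul, J_H, mul_smul, smul_left_cancel_iff] at e
  exact e)

/-- The matrix of the image of the base point. -/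
noncomputable def mH (h : Fr.H) : SL := (Fr.reg _ (Fr.H_pt_free h)).exists.choose

theorem mH_spec (h : Fr.H) : Fr.pt (Fr.mH h) = (h : G) • Fr.p₀ := (Fr.reg _ (Fr.H_pt_free h)).exists.choose_spec

/-- The action of the torus on the matrices. -/
noncomputable def act (h : Fr.H) (m : SL) : SL := scaleS (Fr.χ h) m * Fr.mH h

theorem act_pt (h : Fr.H) (m : SL) : Fr.pt (Fr.act h m) = (h : G) • Fr.pt m := by
  rw [act, ← phi_pt, mH_spec, ← mul_smul, ← Fr.conj_phi, inv_mul_cancel_right, mul_smul, pt]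

theorem elem_act (h : Fr.H) (m : SL) : Fr.elem (Fr.act h m) = (h : G) * Fr.elem m * (h : G)⁻¹ :=
  Fr.elem_eq (Fr.H_norm _ h.2 _ (Fr.elem_mem m)) (by
    rw [mul_smul, mul_smul, inv_smul_eq_iff.2 (Fr.H_b h).symm, elem_b, act_pt])

/-- The torus on the rows. -/
noncomputable def R (h : Fr.H) (v : k × k) : k × k := rowMul ((↑(Fr.χ h)⁻¹ : k) * v.1, v.2) (Fr.mH h)

theorem act_rows (h : Fr.H) (m : SL) :
    top (Fr.act h m) = (Fr.χ h : k) • Fr.R h (top m) ∧ bot (Fr.act h m) = Fr.R h (bot m) := by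
  obtain ⟨e1, e2⟩ := mul_rows (scaleS (Fr.χ h) m) (Fr.mH h)
  rw [act, e1, e2]
  refine ⟨?_, rfl⟩
  simp only [R, rowMul, top, scaleS, Prod.smul_mk, smul_eq_mul, Prod.mk.injEq, of_apply, cons_val', cons_val_zero,
    cons_val_one, cons_val_fin_one, Units.val_inv_eq_inv_val]
  constructor <;> field_simp

theorem R_add (h : Fr.H) (v w : k × k) : Fr.R h (v + w) = Fr.R h v + Fr.R h w := by
  simp only [R, rowMul, Prod.ext_iff, Prod.fst_add, Prod.snd_add]
  constructor <;> ring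

theorem R_smul (h : Fr.H) (c : k) (v : k × k) : Fr.R h (c • v) = c • Fr.R h v := by
  simp only [R, rowMul, Prod.ext_iff, Prod.smul_fst, Prod.smul_snd, smul_eq_mul]
  constructor <;> ring

theorem dt_R (h : Fr.H) (v w : k × k) : dt2 (Fr.R h v) (Fr.R h w) = (↑(Fr.χ h)⁻¹ : k) * dt2 v w := by
  have hd := (Fr.mH h).2
  rw [Matrix.det_fin_two] at hd
  simp only [R, rowMul, dt2]
  linear_combination ((↑(Fr.χ h)⁻¹ : k) * (v.1 * w.2 - v.2 * w.1)) * hd

theorem R_ne (h : Fr.H) {v : k × k} (hv : v ≠ 0) : Fr.R h v ≠ 0 := by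
  obtain ⟨m, -, hb, -⟩ := Fr.X_spec hv
  rw [← hb, ← (Fr.act_rows h m).2]
  exact bot_ne _

theorem X_R (h : Fr.H) {v : k × k} (hv : v ≠ 0) :
    Fr.X (Fr.R h v) = (h : G) * Fr.X v * (h : G)⁻¹ ∧ Fr.u (Fr.R h v) = (Fr.χ h : k) • Fr.R h (Fr.u v) := by
  obtain ⟨m, ht, hb, he, hi⟩ := Fr.X_spec hv
  have hi' : Fr.Inv (Fr.elem (Fr.act h m)) := by
    rw [Inv, elem_act, he]
    calc Fr.J * ((h : G) * Fr.X v * (h : G)⁻¹) * Fr.J⁻¹ = (Fr.J * h) * Fr.X v * (Fr.J * h)⁻¹ := by group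
      _ = (h : G) * (Fr.J * Fr.X v * Fr.J⁻¹) * (h : G)⁻¹ := by rw [J_H]; group
      _ = _ := by rw [hi]; group
  obtain ⟨e1, e2⟩ := Fr.X_unique hi'
  rw [(Fr.act_rows h m).2, hb] at e1 e2
  rw [(Fr.act_rows h m).1, ht] at e2
  exact ⟨by rw [e1, elem_act, he], e2⟩

theorem R_comp (g h : Fr.H) {v : k × k} (hv : v ≠ 0) : Fr.R (g * h) v = Fr.R g (Fr.R h v) := by
  obtain ⟨m, -, hb, -⟩ := Fr.X_spec hv
  have e : Fr.act (g * h) m = Fr.act g (Fr.act h m) := Fr.elem_inj (by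
    rw [elem_act, elem_act, elem_act, Subgroup.coe_mul]; group)
  have := congrArg bot e
  rwa [(Fr.act_rows _ _).2, (Fr.act_rows _ _).2, (Fr.act_rows _ _).2, hb] at this

theorem R_fixed (h : Fr.H) {v : k × k} (hv : v ≠ 0) (hR : Fr.R h v = v) : h = 1 := by
  obtain ⟨m, -, hb, he, -⟩ := Fr.X_spec hv
  have e := (Fr.X_R h hv).1
  rw [hR, ← he] at e
  by_contra h1
  refine Fr.pt_free m (Fr.free _ h.2 (fun e' => h1 (Subtype.ext e')) _ ?_)
  rw [← elem_b]
  conv_rhs => rw [e]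
  rw [mul_smul, mul_smul, inv_smul_eq_iff.2 (Fr.H_b h).symm]

/-- The coordinates of an inverse. -/
theorem elem_inv (m : SL) : (Fr.elem m)⁻¹ =
    Fr.z (-dt2 (Fr.u (bot m)) (top m)) * Fr.X (-bot m) := by
  conv_lhs => rw [elem_decomp]
  rw [_root_.mul_inv_rev, (Fr.X_neg (bot_ne m)).1, z_neg, ← z_neg,
    Fr.z_comm _ (inv_mem (Fr.X_mem (bot_ne m)))]

theorem t_z_b {s : k} (hs : s ≠ 0) : Fr.t • Fr.z s • Fr.b = Fr.z (-s⁻¹) • Fr.b := by
  obtain ⟨l, e, hl⟩ := wS_zS hs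
  rw [t, z, ← mul_smul, ← map_mul, e, map_mul, mul_smul]
  congr 1
  -- lower triangular matrices fix `b`
  have hup : ∀ m : SL, m.1 1 0 = 0 → Fr.φ m • Fr.a = Fr.a := by
    intro m hm
    have hfix : Fr.J • Fr.φ m • Fr.a = Fr.φ m • Fr.a := by rw [← mul_smul, J_phi, mul_smul, J_a]
    rcases (Fr.fix_iff _).1 hfix with h | ⟨r, hr⟩
    · exact h
    exfalso
    have h1 : zS 1 * m = m * zS (m.1 1 1 * m.1 1 1) := by
      have hd := m.2
      rw [Matrix.det_fin_two, hm] at hd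
      refine rows_ext ?_ ?_ <;>
        simp [top, bot, zS_val, SpecialLinearGroup.coe_mul, Matrix.mul_apply, Fin.sum_univ_two, hm]
      linear_combination -(m.1 1 1) * hd
    have h2 : Fr.z 1 • Fr.φ m • Fr.a = Fr.φ m • Fr.a := by
      rw [z, ← mul_smul, ← map_mul, h1, map_mul, mul_smul, Fr.U_le _ (Fr.z_mem _)]
    rw [← hr, z, ← mul_smul, ← map_mul, ← zS_add] at h2
    exact one_ne_zero (α := k) (by linear_combination Fr.z_inj (Fr.U_eq (Fr.z_mem _) (Fr.z_mem _) h2))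
  have hc : (wS⁻¹ * l * wS : SL).1 1 0 = 0 := by
    simp [wS_val, SpecialLinearGroup.coe_mul, SpecialLinearGroup.coe_inv, Matrix.adjugate_fin_two_of,
      Matrix.mul_apply, Fin.sum_univ_two, Matrix.vecMul, dotProduct, hl]
  have := hup _ hc
  rw [map_mul, map_mul, map_inv, mul_smul, mul_smul, inv_smul_eq_iff, show Fr.φ wS • Fr.a = Fr.b from Fr.w_a] at this
  exact this

/-- The row after reflection. -/
noncomputable def refl (f v : k × k) : k × k := (2 : k) • Fr.u v - f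

/-- The row after three steps. -/
noncomputable def third (f v : k × k) : k × k := v + (2 : k) • Fr.u (Fr.refl f v)

theorem dt_refl {f v : k × k} (h : dt2 f v = 1) : dt2 (Fr.refl f v) v = 1 := by
  have hv : v ≠ 0 := fun e => by simp [dt2, e] at h
  have hu := Fr.dt_u hv
  simp only [refl, dt2, Prod.fst_sub, Prod.snd_sub, Prod.smul_fst, Prod.smul_snd, smul_eq_mul] at *
  linear_combination 2 * hu - h

theorem refl_ne {f v : k × k} (h : dt2 f v = 1) : Fr.refl f v ≠ 0 := fun e => by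
  have := Fr.dt_refl h
  simp [dt2, e] at this

/-- The two identities for an element off the centre: `d` is the torus part of `t x t⁻¹`. -/
theorem exists_step {f v : k × k} (h : dt2 f v = 1) : ∃ d : Fr.H,
    Fr.R d (Fr.third f v) = f ∧
    (Fr.χ d : k) * dt2 (Fr.refl f v) (Fr.u (Fr.third f v)) = -dt2 v (Fr.u f) ∧
    ∀ s : k, s ≠ 0 → ∀ g : k × k, g = f + s • v →
      Fr.R d (Fr.third f v - s⁻¹ • Fr.refl f v) ≠ -g ∧
      Fr.z (dt2 v (Fr.u g)) * Fr.X (-g) = Fr.z (dt2 v (Fr.u f)) * Fr.X (-f) *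
        (Fr.z ((Fr.χ d : k) * dt2 (Fr.refl f v) (Fr.u (Fr.third f v - s⁻¹ • Fr.refl f v))) *
          Fr.X (Fr.R d (Fr.third f v - s⁻¹ • Fr.refl f v))) := by
  have hv : v ≠ 0 := fun e => by simp [dt2, e] at h
  have hf : f ≠ 0 := fun e => by simp [dt2, e] at h
  set m := ofRows f v h
  have hu := Fr.dt_u hv
  -- the inverse element
  set x := Fr.elem m
  set m' := ofRows (-Fr.refl f v) (-v) (by
    have := Fr.dt_refl h; simp only [dt2, Prod.fst_neg, Prod.snd_neg] at *; linear_combination this)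
  have hm' : Fr.elem m' = x⁻¹ := by
    rw [elem_inv, elem_decomp]
    simp only [m', top_ofRows, bot_ofRows, m, (Fr.X_neg hv).2]
    congr 2
    simp only [refl, dt2, Prod.fst_neg, Prod.snd_neg, Prod.fst_sub, Prod.snd_sub, Prod.smul_fst, Prod.smul_snd,
      smul_eq_mul]
    ring
  -- the last factor
  set e := Fr.elem (wS * m')
  have hr := Fr.refl_ne h
  obtain ⟨mf, hmt, hmb, hmf⟩ : ∃ mf : SL, top mf = -Fr.third f v ∧ bot mf = -Fr.refl f v ∧ Fr.elem mf = e⁻¹ := by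
    have h3 : dt2 (-Fr.third f v) (-Fr.refl f v) = 1 := by
      have h1 := Fr.dt_refl h
      have h2 := Fr.dt_u hr
      simp only [third, dt2, Prod.fst_neg, Prod.snd_neg, Prod.fst_add, Prod.snd_add, Prod.smul_fst, Prod.smul_snd,
        smul_eq_mul] at *
      linear_combination 2 * h2 - h1
    refine ⟨ofRows _ _ h3, rfl, rfl, ?_⟩
    rw [elem_inv, elem_decomp, bot_ofRows, top_ofRows, (wS_mul_rows m').1, (wS_mul_rows m').2]
    simp only [m', top_ofRows, bot_ofRows, neg_neg, (Fr.X_neg hr).2]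
    congr 2
    have h1 := Fr.dt_refl h
    have h2 := Fr.dt_u hr
    simp only [third, dt2, Prod.fst_neg, Prod.snd_neg, Prod.fst_add, Prod.snd_add, Prod.smul_fst, Prod.smul_snd,
      smul_eq_mul] at *
    ring
  -- the decomposition
  set P := Fr.elem (wS * m)
  have hP : P • Fr.b = Fr.t • x • Fr.b := by rw [elem_b, elem_b, t, phi_pt]
  have hx : x • Fr.a = Fr.a := Fr.U_le x (Fr.elem_mem m)
  set d₀ := Fr.t⁻¹ * (P⁻¹ * Fr.t * x * Fr.t⁻¹) * e
  have hd0 : d₀ ∈ Fr.H := by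
    refine (Fr.H_iff _).2 ⟨?_, ?_⟩
    · simp only [d₀, mul_smul]
      rw [Fr.U_le e (Fr.elem_mem _), t_inv_a, ← hP, inv_smul_smul, t_inv_b]
    · simp only [d₀, mul_smul]
      rw [show e • Fr.b = Fr.t • x⁻¹ • Fr.b by rw [← hm', elem_b, elem_b, t, phi_pt]]
      rw [inv_smul_smul, smul_inv_smul, show Fr.t • Fr.b = Fr.a from Fr.w_b,
        inv_smul_eq_iff.2 (Fr.U_le P (Fr.elem_mem _)).symm, t_inv_a]
  obtain ⟨hd0a, hd0b⟩ := (Fr.H_iff _).1 hd0
  obtain ⟨d, hd⟩ : ∃ d : Fr.H, (d : G) = Fr.t * d₀ * Fr.t⁻¹ := ⟨⟨_, (Fr.H_iff _).2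
    ⟨by rw [mul_smul, mul_smul, t_inv_a, hd0b, show Fr.t • Fr.b = Fr.a from Fr.w_b],
     by rw [mul_smul, mul_smul, t_inv_b, hd0a, show Fr.t • Fr.a = Fr.b from Fr.w_a]⟩⟩, rfl⟩
  have hdec : Fr.t * x * Fr.t⁻¹ = P * (d : G) * Fr.t * e⁻¹ := by rw [hd]; simp only [d₀]; group
  have hA : Fr.elem (Fr.act d (wS * mf)) = P⁻¹ := by
    refine Fr.elem_eq (inv_mem (Fr.elem_mem _)) ?_
    rw [act_pt, ← phi_pt, ← elem_b, hmf, show Fr.φ wS = Fr.t from rfl, ← mul_smul, ← mul_smul,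
      show (d : G) * Fr.t * e⁻¹ = P⁻¹ * (Fr.t * x * Fr.t⁻¹) by rw [hdec]; group,
      mul_smul, mul_smul, mul_smul, t_inv_b, hx, show Fr.t • Fr.a = Fr.b from Fr.w_a]
  rw [elem_decomp, elem_inv, (Fr.act_rows d _).1, (Fr.act_rows d _).2] at hA
  have hb2 : bot (wS * mf) = Fr.third f v := by rw [(wS_mul_rows mf).2, hmt, neg_neg]
  have ht2 : top (wS * mf) = -Fr.refl f v := by rw [(wS_mul_rows mf).1, hmb]
  have h3n : Fr.third f v ≠ 0 := hb2 ▸ bot_ne _
  rw [hb2, ht2, (wS_mul_rows m).1, (wS_mul_rows m).2, neg_neg, show top m = f from rfl, show bot m = v from rfl] at hA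
  obtain ⟨eI, eR⟩ := Fr.zX_inj (Fr.R_ne d h3n) hf hA
  refine ⟨d, eR, ?_, fun s hs g hg => ?_⟩
  · rw [(Fr.X_R d h3n).2] at eI
    have hχ : ∀ x y : k × k, dt2 ((Fr.χ d : k) • Fr.R d x) ((Fr.χ d : k) • Fr.R d y) = (Fr.χ d : k) * dt2 x y := by
      intro x y
      have := Fr.dt_R d x y
      simp only [dt2, Prod.smul_fst, Prod.smul_snd, smul_eq_mul] at *
      rw [Units.val_inv_eq_inv_val] at this
      linear_combination ((Fr.χ d : k) ^ 2) * this + ((v.1 - v.1) + (Fr.χ d : k) * (x.1 * y.2 - x.2 * y.1)) *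
        mul_inv_cancel₀ (Units.ne_zero (Fr.χ d))
    rw [hχ, (Fr.X_neg hf).2] at eI
    simp only [dt2, Prod.fst_neg, Prod.snd_neg] at eI ⊢
    linear_combination eI
  -- the product with a central element
  have hgn : g ≠ 0 := fun e0 => by
    rw [hg] at e0
    have : dt2 (f + s • v) v = 1 := by
      rw [show dt2 (f + s • v) v = dt2 f v by
        simp only [dt2, Prod.fst_add, Prod.snd_add, Prod.smul_fst, Prod.smul_snd, smul_eq_mul]; ring, h]
    simp [e0, dt2] at this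
  set M := wS * (zS (-s⁻¹) * mf)
  have hM : Fr.elem (wS * (zS s * m)) = P * Fr.elem (Fr.act d M) := by
    refine Fr.elem_eq (mul_mem (Fr.elem_mem _) (Fr.elem_mem _)) ?_
    rw [mul_smul, elem_b, act_pt, ← phi_pt, ← phi_pt, ← phi_pt, ← phi_pt, ← elem_b, ← elem_b (m := m), hmf]
    show P • (d : G) • Fr.t • Fr.z (-s⁻¹) • e⁻¹ • Fr.b = Fr.t • Fr.z s • x • Fr.b
    rw [← mul_smul (Fr.z (-s⁻¹)), Fr.z_comm _ (inv_mem (Fr.elem_mem _)), mul_smul e⁻¹, ← t_z_b Fr hs]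
    simp only [← mul_smul, ← mul_assoc]
    rw [← hdec, show Fr.t * x * Fr.t⁻¹ * Fr.t * Fr.z s = Fr.t * (x * Fr.z s) by group,
      ← Fr.z_comm s (Fr.elem_mem m), ← mul_assoc]
  have hMt : top M = -Fr.refl f v := by rw [(wS_mul_rows _).1, (zS_mul_rows _ _).2, hmb]
  have hMb : bot M = Fr.third f v - s⁻¹ • Fr.refl f v := by
    rw [(wS_mul_rows _).2, (zS_mul_rows _ _).1, hmt, hmb]
    simp [neg_add, sub_eq_add_neg, add_comm]
  have hM0 : Fr.third f v - s⁻¹ • Fr.refl f v ≠ 0 := hMb ▸ bot_ne _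
  have hLt : top (wS * (zS s * m)) = v := by rw [(wS_mul_rows _).1, (zS_mul_rows _ _).2]; rfl
  have hLb : bot (wS * (zS s * m)) = -g := by rw [(wS_mul_rows _).2, (zS_mul_rows _ _).1, hg]; rfl
  have hPd : P = Fr.z (dt2 v (Fr.u f)) * Fr.X (-f) := by
    show Fr.elem (wS * m) = _
    rw [elem_decomp, (wS_mul_rows m).1, (wS_mul_rows m).2, show top m = f from rfl, show bot m = v from rfl,
      (Fr.X_neg hf).2]
    congr 2
    simp only [dt2, Prod.fst_neg, Prod.snd_neg]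
    ring
  have hE : Fr.elem (Fr.act d M) = Fr.z ((Fr.χ d : k) * dt2 (Fr.refl f v) (Fr.u (Fr.third f v - s⁻¹ • Fr.refl f v))) *
      Fr.X (Fr.R d (Fr.third f v - s⁻¹ • Fr.refl f v)) := by
    rw [elem_decomp, (Fr.act_rows d M).1, (Fr.act_rows d M).2, hMb, hMt, (Fr.X_R d hM0).2]
    congr 2
    have := Fr.dt_R d (Fr.u (Fr.third f v - s⁻¹ • Fr.refl f v)) (-Fr.refl f v)
    simp only [dt2, Prod.smul_fst, Prod.smul_snd, smul_eq_mul, Prod.fst_neg, Prod.snd_neg] at *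
    rw [Units.val_inv_eq_inv_val] at this
    generalize Fr.u (Fr.third f v - s⁻¹ • Fr.refl f v) = w at *
    linear_combination ((Fr.χ d : k) ^ 2) * this +
      ((Fr.χ d : k) * (w.2 * (Fr.refl f v).1 - w.1 * (Fr.refl f v).2)) * mul_inv_cancel₀ (Units.ne_zero (Fr.χ d))
  have hfin : Fr.z (dt2 v (Fr.u g)) * Fr.X (-g) = P * Fr.elem (Fr.act d M) := by
    rw [← hM, elem_decomp, hLt, hLb, (Fr.X_neg hgn).2]
    congr 2
    simp only [dt2, Prod.fst_neg, Prod.snd_neg]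
    ring
  rw [hPd, hE] at hfin
  refine ⟨fun e0 => ?_, hfin⟩
  rw [e0] at hfin
  refine Fr.X_not_z (neg_ne_zero.2 hf) (-(dt2 v (Fr.u f)) + (dt2 v (Fr.u g) -
    (Fr.χ d : k) * dt2 (Fr.refl f v) (Fr.u (Fr.third f v - s⁻¹ • Fr.refl f v)))) ?_
  refine mul_left_cancel (a := Fr.z (dt2 v (Fr.u f))) ?_
  rw [← z_add, add_neg_cancel_left]
  refine mul_right_cancel (b := Fr.z ((Fr.χ d : k) * dt2 (Fr.refl f v) (Fr.u (Fr.third f v - s⁻¹ • Fr.refl f v))) *
    Fr.X (-g)) ?_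
  rw [← hfin, ← mul_assoc, ← z_add, sub_add_cancel]

end Frame

end Cfsg.Agent.ONanU3
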