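import Cfsg.Agent.Lib.ONanU3.Algebra
import Cfsg.Agent.Lib.ONanU3.Steps
import Cfsg.Agent.Lib.PSU3Index.Cases
import Mathlib.FieldTheory.Finite.GaloisField

/-!
# The plane of the rows as a field with `q²` elements
-/

set_option autoImplicit false
set_option linter.style.haveILetI false
set_option linter.unusedSectionVars false

namespace Cfsg.Agent.ONanU3

open MulAction Matrix PSU3Index

universe u v w

variable {G : Type u} {Ω : Type v} [Group G] [MulAction G Ω] {k : Type} [Field k]
variable {F : Type w} [Field F] [Fintype F] {q : ℕ}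

/-- Coordinates in `F` of the rows, in which the torus acts by multiplication. -/
structure Coords (Fr : Frame G Ω k) (C : Ctx F q) where
  em : k →+* F
  io : k × k ≃ F
  ω : F
  γ : Fr.H →* Fˣ
  em_fixed : ∀ x, C.σ (em x) = em x
  em_surj : ∀ y, C.σ y = y → ∃ x, em x = y
  io_add : ∀ v w, io (v + w) = io v + io w
  io_smul : ∀ (c : k) (v : k × k), io (c • v) = em c * io v
  hω : C.σ ω = -ω
  ω_ne : ω ≠ 0
  two : (2 : F) ≠ 0
  dt_io : ∀ v w, dt C.σ ω (io v) (io w) = em (dt2 v w)
  γ_R : ∀ h v, v ≠ 0 → io (Fr.R h v) = (γ h : F) * io v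
  γ_norm : ∀ h, nm C.σ (γ h : F) * em (Fr.χ h : k) = 1
  real_mem : ∀ s : Fˣ, C.σ (s : F) = s → s ∈ γ.range
  exists_nonreal : ∃ h, C.σ (γ h : F) ≠ γ h
  index : γ.range.index ∣ 3
  char_three : (3 : F) = 0 → γ.range.index = 1

namespace Frame

variable (Fr : Frame G Ω k)

theorem R_one {v : k × k} (hv : v ≠ 0) : Fr.R 1 v = v := by
  have h1 := (Fr.X_R 1 hv).1
  rw [Subgroup.coe_one, inv_one, mul_one, one_mul] at h1
  exact (Fr.zX_inj (s := 0) (r := 0) (Fr.R_ne 1 hv) hv (by rw [h1])).2

theorem R_eigen (g : Fr.H) {v : k × k} (hv : v ≠ 0) {c : k} (h : Fr.R g v = c • v) (i : ℕ) :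
    Fr.R (g ^ i) v = c ^ i • v := by
  induction i with
  | zero => rw [pow_zero, pow_zero, one_smul, Fr.R_one hv]
  | succ i ih => rw [pow_succ', Fr.R_comp _ _ hv, ih, R_smul, h, smul_smul, ← pow_succ]

variable [Fintype k]

include Fr in
theorem card_odd : 3 ≤ Nat.card k ∧ Odd (Nat.card k) := by
  have h2 : ringChar k ≠ 2 := fun h => Fr.two_ne (by
    have := (ringChar.spec k 2).2 (by rw [h])
    exact_mod_cast this)
  have ho := FiniteField.odd_card_of_char_ne_two h2
  have h1 := Fintype.one_lt_card (α := k)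
  rw [Nat.card_eq_fintype_card]
  obtain ⟨r, hr⟩ := Nat.odd_iff.2 ho
  exact ⟨by omega, r, hr⟩

theorem card_H_gt : Nat.card k - 1 < Nat.card Fr.H := by
  obtain ⟨h3, -⟩ := Fr.card_odd
  have h := Fr.card_H
  have hg : Nat.gcd 3 (Nat.card k + 1) ≤ 3 := Nat.le_of_dvd (by norm_num) (Nat.gcd_dvd_left _ _)
  by_contra hle
  rw [not_lt] at hle
  have hm := Nat.mul_le_mul hg hle
  rw [h] at hm
  have h9 : 3 * Nat.card k ≤ Nat.card k ^ 2 := by rw [sq]; exact Nat.mul_le_mul_right _ h3
  omega

/-- A generator of the torus has no eigenvector over `k`. -/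
theorem no_eigen {g : Fr.H} (hg : ∀ x, x ∈ Subgroup.zpowers g) {v : k × k} (hv : v ≠ 0) (c : k) :
    Fr.R g v ≠ c • v := fun h => by
  have hc : c ≠ 0 := fun h0 => Fr.R_ne g hv (by rw [h, h0, zero_smul])
  have h1 : g ^ (Nat.card k - 1) = 1 := Fr.R_fixed _ hv (by
    rw [Fr.R_eigen g hv h, Nat.card_eq_fintype_card, FiniteField.pow_card_sub_one_eq_one c hc, one_smul])
  have h2 := orderOf_dvd_of_pow_eq_one h1
  rw [orderOf_eq_card_of_forall_mem_zpowers hg] at h2
  have h3 := Fr.card_odd.1
  have := Nat.le_of_dvd (by omega) h2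
  have := Fr.card_H_gt
  omega

/-- The plane of the rows is a field on which the torus acts by multiplication. -/
theorem exists_coords (C : Ctx F q) (hk : Nat.card k = q) : Nonempty (Coords Fr C) := by
  classical
  obtain ⟨hq3, hodd⟩ := Fr.card_odd
  rw [hk] at hq3 hodd
  -- the embedding
  letI : Fintype (Hermitian.fixed C.σ) := Fintype.ofFinite _
  let e0 : k ≃+* Hermitian.fixed C.σ := FiniteField.ringEquivOfCardEq (by
    rw [← Nat.card_eq_fintype_card, ← Nat.card_eq_fintype_card, hk, C.hq])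
  let em : k →+* F := (Hermitian.fixed C.σ).subtype.comp e0.toRingHom
  have hem : ∀ x, C.σ (em x) = em x := fun x => Hermitian.mem_fixed.1 (e0 x).2
  have hsurj : ∀ y, C.σ y = y → ∃ x, em x = y := fun y hy =>
    ⟨e0.symm ⟨y, Hermitian.mem_fixed.2 hy⟩, by simp [em]⟩
  have hinj : Function.Injective em := em.injective
  have h2F : (2 : F) ≠ 0 := fun h => Fr.two_ne (hinj (by rw [map_ofNat, map_zero, h]))
  have hF : ringChar F ≠ 2 := fun h => h2F (by
    have := (ringChar.spec F 2).2 (by rw [h])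
    exact_mod_cast this)
  -- a generator and its matrix
  haveI := Fr.H_cyclic
  haveI : Finite Fr.H := Nat.finite_of_card_ne_zero (by have := Fr.card_H_gt; omega)
  obtain ⟨g, hg⟩ := IsCyclic.exists_generator (α := Fr.H)
  set A := (Fr.R g (1, 0)).1
  set B := (Fr.R g (1, 0)).2
  set C' := (Fr.R g (0, 1)).1
  set D := (Fr.R g (0, 1)).2
  have hRg : ∀ x y : k, Fr.R g (x, y) = (x * A + y * C', x * B + y * D) := by
    intro x y
    rw [show ((x, y) : k × k) = x • (1, 0) + y • (0, 1) by simp, R_add, R_smul, R_smul]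
    simp [Prod.ext_iff, A, B, C', D]
  have hB : B ≠ 0 := fun h => Fr.no_eigen hg (v := (1, 0)) (by simp) A (by rw [hRg]; simp [h])
  -- the characteristic root
  set Δ := (A + D) ^ 2 - 4 * (A * D - B * C') with hΔ
  obtain ⟨r, hr⟩ : ∃ r : F, r * r = em Δ := by
    by_cases h0 : em Δ = 0
    · exact ⟨0, by rw [h0, mul_zero]⟩
    obtain ⟨r, hr⟩ := (FiniteField.isSquare_iff hF h0).2 (by
      have h1 : em Δ ^ (q - 1) = 1 := by
        refine mul_right_cancel₀ h0 ?_
        rw [← pow_succ, show q - 1 + 1 = q by omega, ← C.hσ, hem, one_mul]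
      obtain ⟨m, hm⟩ := hodd
      rw [← Nat.card_eq_fintype_card, card_F C, show q ^ 2 / 2 = (q - 1) * (m + 1) by
        rw [hm, show (2 * m + 1) ^ 2 = 2 * (2 * m * (m + 1)) + 1 by ring, show 2 * m + 1 - 1 = 2 * m by omega]
        omega, pow_mul, h1, one_pow])
    exact ⟨r, hr.symm⟩
  set ρ := (em (A + D) + r) / 2 with hρ
  have hchar : ρ * ρ - em (A + D) * ρ + em (A * D - B * C') = 0 := by
    have e4 : r * r = em (A + D) ^ 2 - 4 * em (A * D - B * C') := by
      rw [hr, hΔ, map_sub, map_pow, map_mul, map_ofNat]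
    rw [hρ]
    field_simp
    linear_combination e4
  have hρreal : ∀ c, ρ ≠ em c := by
    intro c hc
    have e : c * c - (A + D) * c + (A * D - B * C') = 0 := hinj (by
      rw [map_zero, map_add, map_sub, map_mul, map_mul, ← hc, hchar])
    by_cases hv : ((C', c - A) : k × k) = 0
    · simp only [Prod.mk_eq_zero] at hv
      exact Fr.no_eigen hg (v := (0, 1)) (by simp) D (by rw [hRg]; simp [hv.1])
    · refine Fr.no_eigen hg hv c ?_
      rw [hRg, Prod.smul_mk, Prod.mk.injEq, smul_eq_mul, smul_eq_mul]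
      exact ⟨by ring, by linear_combination -e⟩
  have hσρ : C.σ ρ = em (A + D) - ρ := by
    have e := congrArg C.σ hchar
    simp only [map_add, map_sub, map_mul, map_zero, hem] at e
    have hne : C.σ ρ ≠ ρ := fun h => by obtain ⟨c, hc⟩ := hsurj ρ h; exact hρreal c hc.symm
    refine sub_eq_zero.1 ((mul_eq_zero.1 (show (C.σ ρ - ρ) * (C.σ ρ - (em (A + D) - ρ)) = 0 from ?_)).resolve_left
      (sub_ne_zero.2 hne))
    simp only [map_add, map_sub, map_mul] at hchar ⊢
    linear_combination e - hchar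
  -- the coordinates
  let f : k × k → F := fun v => em v.1 * em B + em v.2 * (ρ - em A)
  have hfinj : Function.Injective f := by
    intro v w h
    have e : em (v.1 - w.1) * em B + em (v.2 - w.2) * (ρ - em A) = 0 := by
      simp only [f, map_sub] at h ⊢
      linear_combination h
    by_cases h2 : v.2 - w.2 = 0
    · rw [h2, map_zero, zero_mul, add_zero, ← map_mul, map_eq_zero, mul_eq_zero] at e
      exact Prod.ext (sub_eq_zero.1 (e.resolve_right hB)) (sub_eq_zero.1 h2)
    · refine absurd ?_ (hρreal (A - (v.1 - w.1) * B / (v.2 - w.2)))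
      rw [map_sub em A, map_div₀, map_mul]
      have := (map_ne_zero em).2 h2
      field_simp
      linear_combination e
  let io : k × k ≃ F := Equiv.ofBijective f ((Fintype.bijective_iff_injective_and_card f).2 ⟨hfinj, by
    rw [Fintype.card_prod, ← Nat.card_eq_fintype_card, ← Nat.card_eq_fintype_card, hk, card_F C, sq]⟩)
  have hio : ∀ v, io v = em v.1 * em B + em v.2 * (ρ - em A) := fun v => rfl
  have io_g : ∀ v, io (Fr.R g v) = ρ * io v := by
    rintro ⟨x, y⟩
    rw [hRg, hio, hio]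
    simp only [map_add, map_mul, map_sub] at hchar ⊢
    linear_combination (-em y) * hchar
  set ω := em B * (C.σ ρ - ρ) / 2 with hω
  have hω0 : ω ≠ 0 := by
    refine div_ne_zero (mul_ne_zero ((map_ne_zero em).2 hB) (sub_ne_zero.2 fun h => ?_)) h2F
    obtain ⟨c, hc⟩ := hsurj ρ h
    exact hρreal c hc.symm
  have hdt : ∀ v w, dt C.σ ω (io v) (io w) = em (dt2 v w) := by
    intro v w
    have : (2 : F) * ω = em B * (C.σ ρ - ρ) := by rw [hω]; field_simp
    simp only [dt, hio, dt2, map_add, map_mul, map_sub, hem]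
    rw [div_eq_iff (mul_ne_zero h2F hω0), this]
    ring
  -- the multipliers
  have hmul : ∀ h : Fr.H, ∃ c : F, ∀ v, v ≠ 0 → io (Fr.R h v) = c * io v := by
    intro h
    obtain ⟨i, rfl⟩ := mem_powers_iff_mem_zpowers.2 (hg h)
    induction i with
    | zero => exact ⟨1, fun v hv => by simp only [pow_zero]; rw [Fr.R_one hv, one_mul]⟩
    | succ i ih =>
      obtain ⟨c, hc⟩ := ih
      exact ⟨ρ * c, fun v hv => by
        simp only [pow_succ'] at *
        rw [Fr.R_comp _ _ hv, io_g, hc v hv, mul_assoc]⟩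
  choose c hc using hmul
  have hio0 : ∀ v, v ≠ 0 → io v ≠ 0 := fun v hv h => hv (io.injective (h.trans (by simp [hio])))
  have e1 : ((1, 0) : k × k) ≠ 0 := by simp
  have hc0 : ∀ h, c h ≠ 0 := fun h h0 => hio0 _ (Fr.R_ne h e1) (by rw [hc h _ e1, h0, zero_mul])
  let γ : Fr.H →* Fˣ :=
    { toFun := fun h => Units.mk0 (c h) (hc0 h)
      map_one' := Units.ext (mul_right_cancel₀ (hio0 _ e1) (by
        rw [Units.val_mk0, ← hc 1 _ e1, Fr.R_one e1, Units.val_one, one_mul]))
      map_mul' := fun a b => Units.ext (mul_right_cancel₀ (hio0 _ e1) (by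
        rw [Units.val_mk0, ← hc _ _ e1, Fr.R_comp _ _ e1, hc a _ (Fr.R_ne b e1), hc b _ e1, Units.val_mul,
          Units.val_mk0, Units.val_mk0, mul_assoc])) }
  have hγinj : Function.Injective γ := (injective_iff_map_eq_one γ).2 fun h h1 =>
    Fr.R_fixed h e1 (io.injective (by
      rw [hc h _ e1, show c h = 1 from congrArg Units.val h1, one_mul]))
  -- the range
  have hcard : Nat.card γ.range = Nat.card Fr.H := (Nat.card_congr (MonoidHom.ofInjective hγinj).toEquiv).symm
  have hH := Fr.card_H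
  rw [hk] at hH
  have hidx : γ.range.index = Nat.gcd 3 (q + 1) := by
    have h := Subgroup.card_mul_index γ.range
    rw [hcard, Nat.card_units, card_F C, ← hH, mul_comm] at h
    exact Nat.eq_of_mul_eq_mul_right Nat.card_pos h
  have hgcd : Nat.gcd 3 (q + 1) ∣ q + 1 := Nat.gcd_dvd_right _ _
  refine ⟨{
    em := em, io := io, ω := ω, γ := γ, em_fixed := hem, em_surj := hsurj, two := h2F
    io_add := fun v w => by simp only [hio, Prod.fst_add, Prod.snd_add, map_add]; ring
    io_smul := fun a v => by simp only [hio, Prod.smul_fst, Prod.smul_snd, smul_eq_mul, map_mul]; ring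
    hω := by
      rw [hω, map_div₀, map_mul, map_sub, map_ofNat, C.hinv, hem]
      ring
    ω_ne := hω0
    dt_io := hdt
    γ_R := fun h v hv => hc h v hv
    γ_norm := fun h => ?_
    real_mem := ?_
    exists_nonreal := ?_
    index := hidx ▸ Nat.gcd_dvd_left _ _
    char_three := fun h3 => ?_ }⟩
  · have hh := hdt (Fr.R h (1, 0)) (Fr.R h (0, 1))
    rw [hc h _ e1, hc h _ (by simp), dt_R, map_mul, show dt2 ((1, 0) : k × k) (0, 1) = 1 by simp [dt2],
      map_one, mul_one, show dt C.σ ω (c h * io (1, 0)) (c h * io (0, 1)) =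
        nm C.σ (c h) * dt C.σ ω (io (1, 0)) (io (0, 1)) by simp only [dt, nm, map_mul]; ring,
      hdt, show dt2 ((1, 0) : k × k) (0, 1) = 1 by simp [dt2], map_one, mul_one] at hh
    show nm C.σ (c h) * em (Fr.χ h : k) = 1
    rw [hh, ← map_mul, Units.inv_mul, map_one]
  · intro s hs
    have h1 : s ^ (q - 1) = 1 := by
      refine mul_right_cancel (b := s) ?_
      rw [← pow_succ, show q - 1 + 1 = q by omega, one_mul]
      exact Units.ext (by rw [Units.val_pow_eq_pow_val, ← C.hσ, hs])
    obtain ⟨m, hm⟩ := hgcd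
    have hdvd : q - 1 ∣ Nat.card Fr.H := ⟨m, by
      refine Nat.eq_of_mul_eq_mul_left (Nat.gcd_pos_of_pos_left (q + 1) (by norm_num : 0 < 3)) ?_
      rw [hH, show q ^ 2 - 1 = (q + 1) * (q - 1) by rw [← one_pow 2, Nat.sq_sub_sq, one_pow]]
      generalize Nat.gcd 3 (q + 1) = d at hm ⊢
      rw [hm]
      ring⟩
    have hker : γ.range = (powMonoidHom (Nat.card Fr.H) : Fˣ →* Fˣ).ker := by
      refine Subgroup.eq_of_le_of_card_ge (fun x hx => ?_) ?_
      · rw [MonoidHom.mem_ker, powMonoidHom_apply, ← hcard]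
        exact congrArg Subtype.val (pow_card_eq_one' (x := (⟨x, hx⟩ : γ.range)))
      · rw [IsCyclic.card_powMonoidHom_ker, hcard]
        exact Nat.le_of_dvd Nat.card_pos (Nat.gcd_dvd_right _ _)
    rw [hker, MonoidHom.mem_ker, powMonoidHom_apply]
    obtain ⟨j, hj⟩ := hdvd
    rw [hj, pow_mul, h1, one_pow]
  · by_contra hall
    simp only [not_exists, not_not] at hall
    have h := PSU3Index.card_units_fixed_le C (A := γ.range) (by rintro x ⟨h, rfl⟩; exact hall h)
    rw [hcard] at h
    have := Nat.le_of_dvd (by omega) h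
    have := Fr.card_H_gt
    omega
  · rw [hidx]
    rcases (Nat.dvd_prime Nat.prime_three).1 (Nat.gcd_dvd_left 3 (q + 1)) with h | h
    · exact h
    exfalso
    obtain ⟨m, hm⟩ := h ▸ hgcd
    have h3k : (3 : k) = 0 := hinj (by rw [map_ofNat, map_zero, h3])
    have := congrArg (Nat.cast : ℕ → k) hm
    rw [Nat.cast_add, Nat.cast_one, Nat.cast_mul, ← hk, Nat.card_eq_fintype_card, FiniteField.cast_card_eq_zero,
      zero_add, Nat.cast_ofNat, h3k, zero_mul] at this
    exact one_ne_zero this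

end Frame

end Cfsg.Agent.ONanU3
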