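import Cfsg.Agent.Lib.ONanU3.Map
import Cfsg.Agent.Lib.U3Rec.Coord

/-!
# The regular subgroup is the unipotent radical of `SU₃(q)`
-/

set_option autoImplicit false
set_option linter.style.haveILetI false
set_option linter.unusedSectionVars false

namespace Cfsg.Agent.ONanU3

open MulAction Matrix PSU3Index
open U3Rec (cA cB uMk cA_mk cB_mk)

universe u v w

variable {G : Type u} {Ω : Type v} [Group G] [MulAction G Ω] {k : Type} [Field k] [Fintype k]
variable {F : Type w} [Field F] [Fintype F] {q : ℕ}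

namespace Coords

variable {Fr : Frame G Ω k} {C : Ctx F q} (K : Coords Fr C)

/-- The row of a first coordinate. -/
noncomputable def row (a : F) : k × k := K.io.symm (a / nm C.σ a)

/-- The inverted element with a first coordinate. -/
noncomputable def Y (a : F) : G := Fr.X (K.row a)

/-- The commutator pairing of two first coordinates. -/
noncomputable def comY (a d : F) : k := Fr.com (K.row a) (K.row d)

theorem io_row (a : F) : K.io (K.row a) = a / nm C.σ a := K.io.apply_symm_apply _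

theorem row_ne {a : F} (ha : a ≠ 0) : K.row a ≠ 0 :=
  K.symm_ne (div_ne_zero ha (UnitaryEqs.nm_ne (σ := C.σ) ha))

theorem Y_zero : K.Y 0 = 1 := by
  rw [Y, row, zero_div, show K.io.symm 0 = 0 from K.io.symm_apply_eq.2 K.io_zero.symm, Frame.X_zero]

theorem Y_mem (a : F) : K.Y a ∈ Fr.U := Fr.X_mem' _

theorem z_Y (s : k) (a : F) : Fr.z s * K.Y a = K.Y a * Fr.z s := Fr.z_comm s (K.Y_mem a)

theorem nm_fixed (a : F) : C.σ (nm C.σ a) = nm C.σ a := by rw [nm, map_mul, C.hinv, mul_comm]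

theorem nm_div (a : F) (ha : a ≠ 0) : nm C.σ (a / nm C.σ a) = (nm C.σ a)⁻¹ := by
  have := UnitaryEqs.nm_ne (σ := C.σ) ha
  rw [nm, map_div₀, nm_fixed]
  field_simp
  simp only [nm]

theorem inv_row {v : k × k} (hv : v ≠ 0) : ∃ a, a ≠ 0 ∧ K.row a = v ∧ a = K.io v / nm C.σ (K.io v) := by
  have h := K.io_ne hv
  have hN := UnitaryEqs.nm_ne (σ := C.σ) h
  refine ⟨_, div_ne_zero h hN, ?_, rfl⟩
  rw [row, nm_div _ h, div_inv_eq_mul, div_mul_cancel₀ _ hN, Equiv.symm_apply_apply]

theorem exists_zY {x : G} (hx : x ∈ Fr.U) : ∃ s a, x = Fr.z s * K.Y a := by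
  rcases Fr.exists_elem hx with ⟨s, rfl⟩ | ⟨m, rfl⟩
  · exact ⟨s, 0, by rw [Y_zero, mul_one]⟩
  · obtain ⟨a, -, e, -⟩ := K.inv_row (bot_ne m)
    exact ⟨_, a, by rw [Y, e]; exact Fr.elem_decomp m⟩

theorem zY_inj {s r : k} {a d : F} (h : Fr.z s * K.Y a = Fr.z r * K.Y d) : s = r ∧ a = d := by
  by_cases ha : a = 0
  · subst ha
    by_cases hd : d = 0
    · subst hd
      rw [Y_zero, mul_one, mul_one] at h
      exact ⟨Fr.z_inj h, rfl⟩
    · exfalso
      rw [Y_zero, mul_one] at h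
      exact Fr.X_not_z (K.row_ne hd) (-r + s) (by rw [Frame.z_add, h, Frame.z_neg, inv_mul_cancel_left]; rfl)
  · by_cases hd : d = 0
    · exfalso
      subst hd
      rw [Y_zero, mul_one] at h
      exact Fr.X_not_z (K.row_ne ha) (-s + r) (by rw [Frame.z_add, ← h, Frame.z_neg, inv_mul_cancel_left]; rfl)
    · obtain ⟨hs, hr⟩ := Fr.zX_inj (K.row_ne ha) (K.row_ne hd) h
      refine ⟨hs, ?_⟩
      have e := congrArg K.io hr
      rw [io_row, io_row] at e
      have e2 := congrArg (fun x => x / nm C.σ x) e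
      simp only [nm_div _ ha, nm_div _ hd, div_inv_eq_mul] at e2
      rwa [div_mul_cancel₀ _ (UnitaryEqs.nm_ne (σ := C.σ) ha),
        div_mul_cancel₀ _ (UnitaryEqs.nm_ne (σ := C.σ) hd)] at e2

theorem z_comY (a d : F) : K.Y a * K.Y d * (K.Y a)⁻¹ * (K.Y d)⁻¹ = Fr.z (K.comY a d) := Fr.com_spec _ _

theorem comY_zero (x : F) : K.comY 0 x = 0 := Fr.z_inj (by
  rw [← z_comY, Y_zero, Frame.z_zero]; group)

theorem comY_self (a : F) : K.comY a a = 0 := Fr.z_inj (by rw [← z_comY, Frame.z_zero]; group)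

theorem comY_neg (a : F) : K.comY a (-a) = 0 := by
  by_cases ha : a = 0
  · rw [ha, comY_zero]
  have e : K.row (-a) = -K.row a := K.io.injective (by
    rw [io_neg, io_row, io_row, show nm C.σ (-a) = nm C.σ a by simp [nm], neg_div])
  refine Fr.z_inj ?_
  rw [← z_comY, Y, Y, e, (Fr.X_neg (K.row_ne ha)).1, Frame.z_zero]
  group

/-- The pairing is additive along a product. -/
theorem comY_prod {a d e : F} {c : k} (h : K.Y a * K.Y d = Fr.z c * K.Y e) (x : F) :
    K.comY e x = K.comY a x + K.comY d x := by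
  refine Fr.z_inj ?_
  have h1 : K.Y e = Fr.z (-c) * (K.Y a * K.Y d) := by rw [h, Frame.z_neg, inv_mul_cancel_left]
  rw [Frame.z_add, ← z_comY, h1]
  have hY := K.z_Y (-c) x
  calc Fr.z (-c) * (K.Y a * K.Y d) * K.Y x * (Fr.z (-c) * (K.Y a * K.Y d))⁻¹ * (K.Y x)⁻¹
      = Fr.z (-c) * ((K.Y a * K.Y d) * K.Y x * (K.Y a * K.Y d)⁻¹) * ((Fr.z (-c))⁻¹ * (K.Y x)⁻¹) := by group
    _ = Fr.z (-c) * ((K.Y a * K.Y d) * K.Y x * (K.Y a * K.Y d)⁻¹ * (K.Y x)⁻¹) * (Fr.z (-c))⁻¹ := by
      rw [show (Fr.z (-c))⁻¹ * (K.Y x)⁻¹ = (K.Y x)⁻¹ * (Fr.z (-c))⁻¹ by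
        rw [← _root_.mul_inv_rev, ← hY, _root_.mul_inv_rev]]
      group
    _ = Fr.z (-c) * (K.Y a * (K.Y d * K.Y x * (K.Y d)⁻¹ * (K.Y x)⁻¹) * (K.Y a)⁻¹ *
        (K.Y a * K.Y x * (K.Y a)⁻¹ * (K.Y x)⁻¹)) * (Fr.z (-c))⁻¹ := by group
    _ = Fr.z (-c) * (Fr.z (K.comY d x) * Fr.z (K.comY a x)) * (Fr.z (-c))⁻¹ := by
      rw [z_comY, z_comY, ← K.z_Y, mul_inv_cancel_right]
    _ = _ := by
      rw [← Frame.z_add, ← Frame.z_add, ← Frame.z_neg, ← Frame.z_add, ← Frame.z_add]
      congr 1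
      ring

theorem dt_fixed (a d : F) : C.σ (dt C.σ K.ω a d) = dt C.σ K.ω a d := by
  simp only [dt, map_div₀, map_sub, map_mul, map_ofNat, C.hinv, K.hω]
  have := K.two; have := K.ω_ne
  field_simp
  ring

theorem comY_indep {a d : F} (h : dt C.σ K.ω a d ≠ 0) :
    K.em (K.comY a d) = 4 * K.ω ^ 2 * dt C.σ K.ω a d := by
  have ha : a ≠ 0 := fun e => h (by simp [e, dt])
  have hd : d ≠ 0 := fun e => h (by simp [e, dt])
  have hNa := UnitaryEqs.nm_ne (σ := C.σ) ha
  have hNd := UnitaryEqs.nm_ne (σ := C.σ) hd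
  have e : K.em (dt2 (K.row a) (K.row d)) = dt C.σ K.ω a d / (nm C.σ a * nm C.σ d) := by
    rw [← K.dt_io, io_row, io_row]
    simp only [dt, map_div₀, nm_fixed]
    ring
  have h0 : dt2 (K.row a) (K.row d) ≠ 0 := fun h0 => by
    rw [h0, map_zero, eq_comm, div_eq_zero_iff] at e
    exact e.elim h (mul_ne_zero hNa hNd)
  rw [comY, K.com_eq h0, e, io_row, io_row, nm_div _ ha, nm_div _ hd]
  field_simp

theorem exists_span : ∃ x y : F, dt C.σ K.ω x y = 1 := ⟨K.io (1, 0), K.io (0, 1), by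
  rw [K.dt_io, show dt2 ((1, 0) : k × k) (0, 1) = 1 by simp [dt2], map_one]⟩

theorem span_eq {x y : F} (h : dt C.σ K.ω x y = 1) (a : F) :
    a = dt C.σ K.ω a y * x - dt C.σ K.ω a x * y := by
  have h2 := K.two; have hω := K.ω_ne
  simp only [dt] at h ⊢
  rw [div_eq_one_iff_eq (mul_ne_zero h2 hω)] at h
  field_simp
  linear_combination (-a) * h

theorem eq_zero_of_dt {x y a : F} (h : dt C.σ K.ω x y = 1) (hx : dt C.σ K.ω a x = 0)
    (hy : dt C.σ K.ω a y = 0) : a = 0 := by
  rw [K.span_eq h a, hx, hy, zero_mul, zero_mul, sub_zero]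

/-- Two independent rows on which the pairing with three given ones is known. -/
theorem exists_test (a d e : F) : ∃ x y, dt C.σ K.ω x y = 1 ∧ ∀ w ∈ [a, d, e], ∀ z ∈ [x, y],
    K.em (K.comY w z) = 4 * K.ω ^ 2 * dt C.σ K.ω w z := by
  classical
  obtain ⟨x₀, y₀, hxy⟩ := K.exists_span
  obtain ⟨h3, hodd⟩ := Fr.card_odd
  by_cases hk : Nat.card k = 3
  · refine ⟨x₀, y₀, hxy, fun w _ z _ => ?_⟩
    by_cases hd : dt C.σ K.ω w z = 0
    · rw [hd, mul_zero, map_eq_zero]
      by_cases hw : w = 0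
      · rw [hw, comY_zero]
      obtain ⟨x, rfl⟩ := K.io.surjective w
      obtain ⟨y, rfl⟩ := K.io.surjective z
      rw [K.dt_io, map_eq_zero] at hd
      obtain ⟨c, rfl⟩ : ∃ c : k, y = c • x := by
        by_cases h1 : x.1 = 0
        · have h2 : x.2 ≠ 0 := fun h2 => hw (by rw [show x = 0 from Prod.ext h1 h2, io_zero])
          refine ⟨y.2 / x.2, Prod.ext ?_ ?_⟩ <;> simp only [Prod.smul_fst, Prod.smul_snd, smul_eq_mul]
          · simp only [dt2, h1, zero_mul, zero_sub, neg_eq_zero, mul_eq_zero] at hd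
            rw [hd.resolve_left h2, h1, mul_zero]
          · field_simp
        · refine ⟨y.1 / x.1, Prod.ext ?_ ?_⟩ <;> simp only [Prod.smul_fst, Prod.smul_snd, smul_eq_mul]
          · field_simp
          · field_simp
            simp only [dt2] at hd
            linear_combination hd
      have hc : c = 0 ∨ c = 1 ∨ c = -1 := by
        have hp := FiniteField.pow_card c
        rw [← Nat.card_eq_fintype_card, hk] at hp
        rcases mul_eq_zero.1 (show c * ((c - 1) * (c + 1)) = 0 by linear_combination hp) with h | h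
        · exact Or.inl h
        rcases mul_eq_zero.1 h with h | h
        · exact Or.inr (Or.inl (sub_eq_zero.1 h))
        · exact Or.inr (Or.inr (eq_neg_of_add_eq_zero_left h))
      rcases hc with rfl | rfl | rfl
      · rw [zero_smul, io_zero, show K.comY (K.io x) 0 = -K.comY 0 (K.io x) from Fr.com_anti _ _, comY_zero,
          neg_zero]
      · rw [one_smul, comY_self]
      · rw [neg_one_smul, io_neg, comY_neg]
    · exact K.comY_indep hd
  · have h5 : 5 ≤ Nat.card k := by obtain ⟨m, hm⟩ := hodd; omega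
    -- a direction is bad for at most one member of the pencil
    let bad : F → Finset k := fun w => Finset.univ.filter fun t =>
      w ≠ 0 ∧ dt C.σ K.ω w (x₀ + K.em t * y₀) = 0
    have hdt : ∀ w t, dt C.σ K.ω w (x₀ + K.em t * y₀) = dt C.σ K.ω w x₀ + K.em t * dt C.σ K.ω w y₀ := by
      intro w t
      simp only [dt, map_add, map_mul, K.em_fixed]
      ring
    have hbad : ∀ w, (bad w).card ≤ 1 := by
      intro w
      refine Finset.card_le_one.2 fun t ht r hr => ?_
      simp only [bad, Finset.mem_filter, Finset.mem_univ, true_and] at ht hr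
      rw [hdt] at ht hr
      by_contra hne
      have : (K.em t - K.em r) * dt C.σ K.ω w y₀ = 0 := by linear_combination ht.2 - hr.2
      have hy := (mul_eq_zero.1 this).resolve_left (sub_ne_zero.2 fun h => hne (K.em.injective h))
      exact ht.1 (K.eq_zero_of_dt hxy (by linear_combination ht.2 - K.em t * hy) hy)
    have hcard : 1 < (Finset.univ \ (bad a ∪ bad d ∪ bad e)).card := by
      have h1 := Finset.card_union_le (bad a ∪ bad d) (bad e)
      have h2 := Finset.card_union_le (bad a) (bad d)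
      have h4 := Finset.le_card_sdiff (bad a ∪ bad d ∪ bad e) Finset.univ
      have := hbad a; have := hbad d; have := hbad e
      rw [Finset.card_univ, ← Nat.card_eq_fintype_card] at h4
      omega
    obtain ⟨t, ht, r, hr, hne⟩ := Finset.one_lt_card.1 hcard
    have hs : K.em r - K.em t ≠ 0 := sub_ne_zero.2 fun h => hne (K.em.injective h).symm
    refine ⟨x₀ + K.em t * y₀, (K.em r - K.em t)⁻¹ * (x₀ + K.em r * y₀), ?_, fun w hw z hz => ?_⟩
    · have hsf : C.σ (K.em r - K.em t)⁻¹ = (K.em r - K.em t)⁻¹ := by rw [map_inv₀, map_sub, K.em_fixed, K.em_fixed]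
      rw [show dt C.σ K.ω (x₀ + K.em t * y₀) ((K.em r - K.em t)⁻¹ * (x₀ + K.em r * y₀)) =
        (K.em r - K.em t)⁻¹ * ((K.em r - K.em t) * dt C.σ K.ω x₀ y₀) by
        simp only [dt, map_add, map_mul, hsf, K.em_fixed]; ring, hxy, mul_one, inv_mul_cancel₀ hs]
    by_cases hw0 : w = 0
    · subst hw0
      rw [comY_zero, map_zero, show dt C.σ K.ω 0 z = 0 by simp [dt], mul_zero]
    refine K.comY_indep ?_
    have good : ∀ s ∈ Finset.univ \ (bad a ∪ bad d ∪ bad e), dt C.σ K.ω w (x₀ + K.em s * y₀) ≠ 0 := by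
      intro s hs h0
      simp only [bad, Finset.mem_sdiff, Finset.mem_union, Finset.mem_filter, Finset.mem_univ, true_and, not_or] at hs
      simp only [List.mem_cons, List.not_mem_nil, or_false] at hw
      rcases hw with rfl | rfl | rfl
      · exact hs.1.1 ⟨hw0, h0⟩
      · exact hs.1.2 ⟨hw0, h0⟩
      · exact hs.2 ⟨hw0, h0⟩
    simp only [List.mem_cons, List.not_mem_nil, or_false] at hz
    rcases hz with rfl | rfl
    · exact good t ht
    · rw [show dt C.σ K.ω w ((K.em r - K.em t)⁻¹ * (x₀ + K.em r * y₀)) =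
        (K.em r - K.em t)⁻¹ * dt C.σ K.ω w (x₀ + K.em r * y₀) by
        simp only [dt, map_add, map_mul, map_inv₀, map_sub, K.em_fixed]; ring]
      exact mul_ne_zero (inv_ne_zero hs) (good r hr)

/-- The inverted elements multiply additively. -/
theorem exists_Y_mul (a d : F) : ∃ c, K.Y a * K.Y d = Fr.z c * K.Y (a + d) := by
  obtain ⟨c, e, h⟩ := K.exists_zY (mul_mem (K.Y_mem a) (K.Y_mem d))
  refine ⟨c, ?_⟩
  obtain ⟨x, y, hxy, hB⟩ := K.exists_test a d e
  have h4 : 4 * K.ω ^ 2 ≠ 0 := mul_ne_zero (by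
    rw [show (4 : F) = 2 * 2 by norm_num]; exact mul_ne_zero K.two K.two) (pow_ne_zero 2 K.ω_ne)
  have key : ∀ z ∈ [x, y], dt C.σ K.ω (e - (a + d)) z = 0 := by
    intro z hz
    have e1 := congrArg K.em (K.comY_prod h z)
    rw [map_add, hB e (by simp) z hz, hB a (by simp) z hz, hB d (by simp) z hz] at e1
    refine mul_left_cancel₀ h4 ?_
    rw [mul_zero]
    simp only [dt, map_sub, map_add] at e1 ⊢
    linear_combination e1
  rw [h, show e = a + d from sub_eq_zero.1 (K.eq_zero_of_dt hxy (key x (by simp)) (key y (by simp)))]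

/-- The pairing is the unitary one on all first coordinates. -/
theorem comY_eq (a d : F) : K.em (K.comY a d) = 4 * K.ω ^ 2 * dt C.σ K.ω a d := by
  by_cases h : dt C.σ K.ω a d = 0
  swap
  · exact K.comY_indep h
  by_cases ha : a = 0
  · subst ha
    rw [comY_zero, map_zero, h, mul_zero]
  obtain ⟨x, y, hxy⟩ := K.exists_span
  -- an element independent of `a`
  obtain ⟨w, hw⟩ : ∃ w, dt C.σ K.ω a w ≠ 0 := by
    by_contra hall
    simp only [not_exists, not_not] at hall
    exact ha (K.eq_zero_of_dt hxy (hall x) (hall y))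
  obtain ⟨c, hc⟩ := K.exists_Y_mul (d - w) w
  rw [sub_add_cancel] at hc
  have hw' : dt C.σ K.ω a (d - w) = -dt C.σ K.ω a w := by
    simp only [dt, map_sub] at h ⊢
    linear_combination h
  rw [show K.comY a d = -K.comY d a from Fr.com_anti _ _, K.comY_prod hc, neg_add,
    show -K.comY (d - w) a = K.comY a (d - w) from (Fr.com_anti _ _).symm,
    show -K.comY w a = K.comY a w from (Fr.com_anti _ _).symm, map_add,
    K.comY_indep hw, K.comY_indep (by rw [hw']; exact neg_ne_zero.2 hw), hw', h]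
  ring

/-- The law of the regular subgroup. -/
theorem Y_mul (a d : F) {c : k} (hc : K.em c = 2 * K.ω ^ 2 * dt C.σ K.ω a d) :
    K.Y a * K.Y d = Fr.z c * K.Y (a + d) := by
  obtain ⟨e, he⟩ := K.exists_Y_mul a d
  obtain ⟨e', he'⟩ := K.exists_Y_mul d a
  rw [add_comm d a] at he'
  suffices e = c by rw [he, this]
  -- conjugating by the central involution gives the other order
  have hJ : Fr.J * (K.Y a * K.Y d) * Fr.J⁻¹ = Fr.J * (Fr.z e * K.Y (a + d)) * Fr.J⁻¹ := by rw [he]
  rw [show Fr.J * (K.Y a * K.Y d) * Fr.J⁻¹ = (Fr.J * K.Y a * Fr.J⁻¹) * (Fr.J * K.Y d * Fr.J⁻¹) by group,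
    show Fr.J * (Fr.z e * K.Y (a + d)) * Fr.J⁻¹ = (Fr.J * Fr.z e * Fr.J⁻¹) * (Fr.J * K.Y (a + d) * Fr.J⁻¹) by group,
    show Fr.J * K.Y a * Fr.J⁻¹ = (K.Y a)⁻¹ from Fr.Inv_X _, show Fr.J * K.Y d * Fr.J⁻¹ = (K.Y d)⁻¹ from Fr.Inv_X _,
    show Fr.J * K.Y (a + d) * Fr.J⁻¹ = (K.Y (a + d))⁻¹ from Fr.Inv_X _, Frame.J_z, ← _root_.mul_inv_rev] at hJ
  have h2 : K.Y d * K.Y a = Fr.z (-e) * K.Y (a + d) := by
    have := congrArg (·⁻¹) hJ
    simp only [inv_inv, _root_.mul_inv_rev] at this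
    rw [← Frame.z_neg] at this
    exact this.trans (K.z_Y _ _).symm
  rw [he'] at h2
  have e3 := (K.zY_inj h2).1
  have h3 : Fr.z (K.comY a d) = Fr.z (e - e') := by
    rw [← z_comY, he, mul_assoc _ (K.Y a)⁻¹, ← _root_.mul_inv_rev, he', sub_eq_add_neg, Frame.z_add, Frame.z_neg]
    group
  have h4 := congrArg K.em (Fr.z_inj h3)
  rw [K.comY_eq, e3, map_sub, map_neg] at h4
  refine K.em.injective (mul_left_cancel₀ K.two ?_)
  rw [hc]
  linear_combination -h4

theorem exists_val (u : rad C) :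
    ∃ s, K.em s = 2 * K.ω * cB C u + K.ω * nm C.σ (cA C u) := by
  refine K.em_surj _ ?_
  obtain ⟨h, -⟩ := U3Rec.exists_mk C u
  simp only [nm, map_add, map_mul, map_ofNat, C.hinv, K.hω]
  linear_combination (-(2 * K.ω)) * h

/-- The central part of an element. -/
noncomputable def val (u : rad C) : k := (K.exists_val u).choose

theorem val_spec (u : rad C) : K.em (K.val u) = 2 * K.ω * cB C u + K.ω * nm C.σ (cA C u) :=
  (K.exists_val u).choose_spec

/-- The map from the radical. -/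
noncomputable def toU : rad C →* Fr.U where
  toFun u := ⟨Fr.z (K.val u) * K.Y (cA C u), mul_mem (Fr.z_mem _) (K.Y_mem _)⟩
  map_one' := by
    refine Subtype.ext ?_
    obtain ⟨hA, hB⟩ := U3Rec.coord_one C
    have h0 : K.val 1 = 0 := K.em.injective (by
      rw [K.val_spec, hA, hB]; simp [nm])
    show Fr.z _ * K.Y _ = 1
    rw [hA, h0, Y_zero, Frame.z_zero, one_mul]
  map_mul' u w := by
    refine Subtype.ext ?_
    obtain ⟨hA, hB⟩ := U3Rec.coord_mul C u w
    have hc : K.em (K.val (u * w) - K.val u - K.val w) = 2 * K.ω ^ 2 * dt C.σ K.ω (cA C u) (cA C w) := by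
      rw [map_sub, map_sub, K.val_spec, K.val_spec, K.val_spec, hA, hB]
      have := K.two; have := K.ω_ne
      simp only [nm, dt, map_add]
      field_simp
      ring
    show Fr.z _ * K.Y _ = (Fr.z _ * K.Y _) * (Fr.z _ * K.Y _)
    rw [mul_assoc (Fr.z (K.val u)), ← mul_assoc (K.Y (cA C u)), ← z_Y, mul_assoc (Fr.z (K.val w)),
      K.Y_mul _ _ hc, ← hA, ← mul_assoc, ← mul_assoc, ← Frame.z_add, ← Frame.z_add]
    congr 2
    ring

theorem toU_bijective : Function.Bijective K.toU := by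
  refine ⟨fun u w h => ?_, fun x => ?_⟩
  · obtain ⟨hs, ha⟩ := K.zY_inj (congrArg Subtype.val h)
    refine U3Rec.coord_ext C ha ?_
    have e := K.val_spec u
    rw [hs, K.val_spec w, ha] at e
    exact mul_left_cancel₀ (mul_ne_zero K.two K.ω_ne) (by linear_combination -e)
  · obtain ⟨s, a, e⟩ := K.exists_zY x.2
    have h2 := K.two; have hω := K.ω_ne
    set b := (K.em s - K.ω * nm C.σ a) / (2 * K.ω) with hb
    have h : b + C.σ b + a * C.σ a = 0 := by
      rw [hb, map_div₀, map_sub, map_mul, map_mul, map_ofNat, K.em_fixed, K.hω, nm_fixed]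
      simp only [nm]
      field_simp
      ring
    refine ⟨uMk C h, Subtype.ext ?_⟩
    have hs : K.val (uMk C h) = s := K.em.injective (by
      rw [K.val_spec, cA_mk, cB_mk, hb]
      field_simp
      ring)
    show Fr.z _ * K.Y _ = _
    rw [hs, cA_mk, e]

/-- The regular subgroup as the radical. -/
noncomputable def equiv : rad C ≃* Fr.U := MulEquiv.ofBijective K.toU K.toU_bijective

theorem equiv_val (u : rad C) : (K.equiv u : G) = Fr.z (K.val u) * K.Y (cA C u) := rfl

/-- The exchanging element on the points. -/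
theorem t_equiv {a b a' b' : F} (h : b + C.σ b + a * C.σ a = 0) (hb : b ≠ 0)
    (h' : b' + C.σ b' + a' * C.σ a' = 0) (ea : a' = -a / (2 * K.ω * b))
    (eb : b' = -(1 / (4 * K.ω ^ 2 * b))) :
    Fr.t • (K.equiv (uMk C h) : G) • Fr.b = (K.equiv (uMk C h') : G) • Fr.b := by
  have h2 := K.two
  have hω := K.ω_ne
  have h4 : (4 : F) ≠ 0 := by rw [show (4 : F) = 2 * 2 by norm_num]; exact mul_ne_zero h2 h2
  rw [equiv_val, equiv_val, cA_mk, cA_mk]
  set s := K.val (uMk C h)
  have hs : K.em s = 2 * K.ω * b + K.ω * nm C.σ a := by rw [K.val_spec, cA_mk, cB_mk]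
  set s' := K.val (uMk C h')
  have hs' : K.em s' = 2 * K.ω * b' + K.ω * nm C.σ a' := by rw [K.val_spec, cA_mk, cB_mk]
  by_cases ha : a = 0
  · subst ha
    have ha' : a' = 0 := by rw [ea, neg_zero, zero_div]
    subst ha'
    have hn : nm C.σ (0 : F) = 0 := by simp [nm]
    rw [hn, mul_zero, add_zero] at hs hs'
    have hs0 : s ≠ 0 := fun e => mul_ne_zero (mul_ne_zero h2 hω) hb (by rw [← hs, e, map_zero])
    have e : s' = -s⁻¹ := K.em.injective (by
      rw [hs', map_neg, map_inv₀, hs, eb]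
      field_simp
      ring)
    rw [Y_zero, mul_one, mul_one, e]
    exact Fr.t_z_b hs0
  have ha' : a' ≠ 0 := by
    rw [ea]; exact div_ne_zero (neg_ne_zero.2 ha) (mul_ne_zero (mul_ne_zero h2 hω) hb)
  obtain ⟨m₀, ht₀, hb₀, he₀, -⟩ := Fr.X_spec (K.row_ne ha)
  have hx : Fr.z s * K.Y a = Fr.elem (zS s * m₀) := by rw [Fr.elem_zS, he₀]; rfl
  set m := zS s * m₀
  have hbot : bot m = K.row a := by rw [(zS_mul_rows _ _).2, hb₀]
  have htop : K.io (top m) = (K.em s + K.ω * nm C.σ a) * (a / nm C.σ a) := by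
    rw [(zS_mul_rows _ _).1, ht₀, hb₀, K.io_add, K.io_smul, K.u_eq (K.row_ne ha), io_row, nm_div _ ha]
    have := UnitaryEqs.nm_ne (σ := C.σ) ha
    field_simp
    ring
  rw [hx, Fr.elem_b, Frame.t, Fr.phi_pt, ← Fr.elem_b]
  congr 1
  rw [Fr.elem_decomp, (wS_mul_rows m).1, (wS_mul_rows m).2, hbot]
  have hσb : C.σ b ≠ 0 := (map_ne_zero C.σ).2 hb
  have hσa : C.σ a ≠ 0 := (map_ne_zero C.σ).2 ha
  have hN : nm C.σ a = -(b + C.σ b) := by simp only [nm]; linear_combination h
  have e1 : K.em s + K.ω * nm C.σ a = -(2 * K.ω * C.σ b) := by rw [hs, hN]; ring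
  have erow : K.row a' = -top m := K.io.injective (by
    rw [io_neg, io_row, htop, e1, ea]
    simp only [nm, map_div₀, map_neg, map_mul, map_ofNat, K.hω]
    field_simp)
  rw [← erow]
  congr 1
  refine congrArg Fr.z (K.em.injective ?_)
  rw [← K.dt_io, K.u_eq (K.row_ne ha'), io_row, io_row, nm_div _ ha', hs', ea, eb]
  simp only [dt, nm, map_div₀, map_neg, map_mul, map_ofNat, map_inv₀, C.hinv, K.hω]
  field_simp
  have hh : b + C.σ b + a * C.σ a = 0 := h
  linear_combination (4 : F) * hh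

end Coords

end Cfsg.Agent.ONanU3
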