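import Cfsg.Agent.Lib.Lie.BNPair
import Cfsg.Agent.S0322
import Mathlib.GroupTheory.PGroup
import Mathlib.GroupTheory.Transfer
import Mathlib.GroupTheory.GroupAction.Quotient
import Mathlib.GroupTheory.Nilpotent
import Mathlib.GroupTheory.SpecificGroups.Cyclic
import Mathlib.GroupTheory.Subgroup.Simple

/-!
# Split rank-one groups of odd unitary type: the action on the cosets of `B`

`Act` is the split doubly transitive action read off the (B,N)-pair. For an element `x` of the two-point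
stabiliser `H` the fixed points of `x` are `a` and the images of `b` under `C_U(x)`; their number divides
`q³ + 1`, and `C(x)` contains an element exchanging `a` and `b` as soon as `C_U(x) ≠ 1`.
-/

set_option autoImplicit false
set_option linter.style.haveILetI false

namespace Cfsg.Agent.ONanU3

universe u v

open MulAction

theorem eq_of_card_cyclic {A : Type*} [Group A] [Finite A] [IsCyclic A] {H K : Subgroup A}
    (h : Nat.card H = Nat.card K) : H = K := by
  classical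
  haveI := Fintype.ofFinite A
  have key : ∀ X : Subgroup A,
      (X : Set A).toFinset = Finset.univ.filter fun a : A => a ^ Nat.card X = 1 := by
    intro X
    refine Finset.eq_of_subset_of_card_le (fun a ha => ?_) ?_
    · rw [Set.mem_toFinset] at ha
      simp only [Finset.mem_filter, Finset.mem_univ, true_and]
      exact orderOf_dvd_iff_pow_eq_one.1 (Subgroup.orderOf_dvd_natCard _ ha)
    · refine (IsCyclic.card_pow_eq_one_le Nat.card_pos).trans ?_
      rw [Set.toFinset_card, ← Nat.card_eq_fintype_card]; rfl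
  exact SetLike.coe_injective (Set.toFinset_inj.1 (by rw [key H, key K, h]))

/-- The split action. -/
structure Act (G : Type u) (Ω : Type v) [Group G] [MulAction G Ω] (p n : ℕ) where
  a : Ω
  b : Ω
  U : Subgroup G
  H : Subgroup G
  hp : p.Prime
  hp2 : p ≠ 2
  hn : 1 ≤ n
  simple : IsSimpleGroup G
  faithful : FaithfulSMul G Ω
  two : IsMultiplyPretransitive G Ω 2
  ne : b ≠ a
  card_points : Nat.card Ω = (p ^ n) ^ 3 + 1
  U_le : ∀ x ∈ U, x • a = a
  U_reg : ∀ c : Ω, c ≠ a → ∃! x : U, (x : G) • b = c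
  H_iff : ∀ h : G, h ∈ H ↔ h • a = a ∧ h • b = b
  H_norm : ∀ h ∈ H, ∀ x ∈ U, h * x * h⁻¹ ∈ U
  H_cyclic : IsCyclic H
  card_H : Nat.gcd 3 (p ^ n + 1) * Nat.card H = (p ^ n) ^ 2 - 1
  card_U : Nat.card U = (p ^ n) ^ 3

variable {G : Type u} [Group G]

/-- The action on the cosets of `B`. -/
theorem exists_act [Finite G] [IsSimpleGroup G] (P : Cfsg.BNPair G) (h1 : P.rank = 1) {p n : ℕ}
    (hp : p.Prime) (hp2 : p ≠ 2) (hn : 1 ≤ n) (U : Subgroup G) (hUB : U ≤ P.B)
    (hUn : ∀ b ∈ P.B, ∀ u ∈ U, b * u * b⁻¹ ∈ U) (hsplit : U ⊔ (P.B ⊓ P.N) = P.B)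
    (hind : P.B.index = p ^ (3 * n) + 1) (hU : Nat.card U = p ^ (3 * n))
    (hHc : IsCyclic ↥(P.B ⊓ P.N))
    (hH : Nat.gcd 3 (p ^ n + 1) * Nat.card ↥(P.B ⊓ P.N) = p ^ (2 * n) - 1) :
    ∃ A : Act G (G ⧸ P.B) p n, A.U = U ∧ A.a = ((1 : G) : G ⧸ P.B) := by
  classical
  obtain ⟨⟨s, hsS⟩, hs1⟩ : ∃ s : P.S, ∀ t : P.S, t = s := by
    obtain ⟨hsub, ⟨s⟩⟩ := Nat.card_eq_one_iff_unique.1 h1
    exact ⟨s, fun t => Subsingleton.elim _ _⟩
  have hall : ∀ g : G, g ∈ P.B ∨ g ∈ BN.dc P s := by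
    intro g
    obtain ⟨w, hw⟩ := BN.bruhat P g
    obtain ⟨l, hlen, hl⟩ := BN.exists_reduced P w
    have : w = 1 ∨ w = BN.σ P ⟨s, hsS⟩ := by
      rw [← hl]
      clear hlen hl
      induction l with
      | nil => exact Or.inl rfl
      | cons t l ih =>
        rw [BN.wp_cons, hs1 t]
        rcases ih with e | e <;> rw [e] <;> simp [BN.σ_mul_self]
    rcases this with rfl | rfl
    · exact Or.inl (by rwa [BN.cell_one] at hw)
    · exact Or.inr (by rwa [BN.cell_σ] at hw)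
  have hsB : s ∉ P.B := BN.not_mem_B P hsS
  have hsN : s ∈ P.N := P.subset hsS
  set H := P.B ⊓ P.N with hHdef
  have hHn : H ≤ Subgroup.normalizer (U : Set G) := fun h hh => Subgroup.mem_normalizer_iff.2 fun u =>
    ⟨hUn h hh.1 u, fun hu => by simpa [mul_assoc] using hUn h⁻¹ (inv_mem hh.1) _ hu⟩
  have hdec : ∀ g ∈ P.B, ∃ u ∈ U, ∃ h ∈ H, g = u * h := by
    intro g hg
    rw [← hsplit, ← SetLike.mem_coe, Subgroup.coe_mul_of_right_le_normalizer_left U H hHn] at hg
    obtain ⟨u, hu, h, hh, rfl⟩ := hg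
    exact ⟨u, hu, h, hh, rfl⟩
  set a : G ⧸ P.B := ((1 : G) : G ⧸ P.B) with ha
  set b : G ⧸ P.B := ((s : G) : G ⧸ P.B) with hb'
  have hstab : stabilizer G a = P.B := MulAction.stabilizer_quotient P.B
  have hb : b ≠ a := fun e => hsB (by simpa using QuotientGroup.eq.1 e.symm)
  have hHb : ∀ h ∈ H, h • a = a ∧ h • b = b := by
    intro h hh
    refine ⟨MulAction.mem_stabilizer_iff.1 (hstab.symm ▸ hh.1), ?_⟩
    rw [hb', MulAction.Quotient.smul_mk, QuotientGroup.eq]
    have := P.conj_mem s⁻¹ (inv_mem hsN) h⁻¹ (inv_mem hh)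
    rwa [inv_inv, show s⁻¹ * h⁻¹ * s = (h • s)⁻¹ * s by rw [smul_eq_mul]; group] at this
  have hUa : ∀ x ∈ U, x • a = a := fun x hx =>
    MulAction.mem_stabilizer_iff.1 (hstab.symm ▸ hUB hx)
  have hkey : ∀ c : G ⧸ P.B, c ≠ a → ∃ x : U, (x : G) • b = c := by
    intro c hc
    obtain ⟨g, rfl⟩ := QuotientGroup.mk_surjective c
    rcases hall g with hg | hg
    · exact absurd (QuotientGroup.eq.2 (by simpa using inv_mem hg)) hc
    · obtain ⟨x, hx, y, hy, rfl⟩ := DoubleCoset.mem_doubleCoset.1 hg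
      obtain ⟨u, hu, h, hh, rfl⟩ := hdec x hx
      refine ⟨⟨u, hu⟩, ?_⟩
      calc u • b = (u * h) • b := by rw [mul_smul, (hHb h hh).2]
        _ = _ := by
          rw [hb', MulAction.Quotient.smul_mk, QuotientGroup.eq, smul_eq_mul]
          simpa [mul_assoc] using hy
  let f : U → {c : G ⧸ P.B // c ≠ a} := fun x => ⟨(x : G) • b, fun e => hb (by
    rw [← inv_smul_smul (x : G) b, e, hUa _ (inv_mem x.2)])⟩
  have hf : Function.Surjective f := fun c => by
    obtain ⟨x, hx⟩ := hkey c c.2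
    exact ⟨x, Subtype.ext hx⟩
  have hcard : Nat.card U = Nat.card {c : G ⧸ P.B // c ≠ a} := by
    haveI := Fintype.ofFinite (G ⧸ P.B)
    rw [hU, Nat.card_eq_fintype_card, Fintype.card_subtype_compl, Fintype.card_subtype_eq,
      ← Nat.card_eq_fintype_card, ← Subgroup.index_eq_card, hind, Nat.add_sub_cancel]
  have hbij : Function.Bijective f := (Nat.bijective_iff_surjective_and_card f).2 ⟨hf, hcard⟩
  have hreg : ∀ c : G ⧸ P.B, c ≠ a → ∃! x : U, (x : G) • b = c := fun c hc => by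
    obtain ⟨x, hx⟩ := hkey c hc
    exact ⟨x, hx, fun y hy => hbij.1 (Subtype.ext (hy.trans hx.symm))⟩
  refine ⟨⟨a, b, U, H, hp, hp2, hn, inferInstance, ?_, S0322.result P h1, hb, ?_, hUa, hreg,
    fun h => ⟨hHb h, ?_⟩, fun h hh x hx => hUn h hh.1 x hx, hHc, ?_, ?_⟩, rfl, rfl⟩
  · refine ⟨fun {x y} hxy => ?_⟩
    have hcore : P.B.normalCore = ⊥ :=
      (Subgroup.Normal.eq_bot_or_eq_top P.B.normalCore_normal).resolve_right fun h =>
        hsB (P.B.normalCore_le (h ▸ Subgroup.mem_top s))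
    have hmem : x⁻¹ * y ∈ P.B.normalCore := by
      rw [Subgroup.normalCore_eq_ker, MonoidHom.mem_ker]
      refine Equiv.ext fun c => ?_
      show (x⁻¹ * y) • c = c
      rw [mul_smul, ← hxy c, inv_smul_smul]
    rw [hcore, Subgroup.mem_bot, inv_mul_eq_one] at hmem
    exact hmem
  · rw [← Subgroup.index_eq_card, hind, ← pow_mul, mul_comm]
  · rintro ⟨hga, hgb⟩
    obtain ⟨u, hu, y, hy, rfl⟩ := hdec h (hstab ▸ MulAction.mem_stabilizer_iff.2 hga)
    rw [mul_smul, (hHb y hy).2] at hgb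
    have : (⟨u, hu⟩ : U) = 1 := hbij.1 (Subtype.ext (by
      show u • b = ((1 : U) : G) • b
      rw [hgb, OneMemClass.coe_one, one_smul]))
    rw [show u = 1 from congrArg Subtype.val this, one_mul]
    exact hy
  · rw [hH, ← pow_mul, mul_comm]
  · rw [hU, ← pow_mul, mul_comm]

namespace Act

variable {Ω : Type v} [MulAction G Ω] {p n : ℕ} (A : Act G Ω p n)

/-- The centraliser of `x` in `U`. -/
def cU (x : G) : Subgroup G := A.U ⊓ Subgroup.centralizer {x}

theorem mem_cU {x u : G} : u ∈ A.cU x ↔ u ∈ A.U ∧ Commute u x := by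
  simp [cU, Subgroup.mem_centralizer_singleton_iff, Commute, SemiconjBy]

theorem b_inj {u v : G} (hu : u ∈ A.U) (hv : v ∈ A.U) (h : u • A.b = v • A.b) : u = v := by
  have hne : u • A.b ≠ A.a := fun e => A.ne (by rw [← inv_smul_smul u A.b, e, A.U_le _ (inv_mem hu)])
  obtain ⟨z, -, hz⟩ := A.U_reg _ hne
  exact congrArg Subtype.val ((hz ⟨u, hu⟩ rfl).trans (hz ⟨v, hv⟩ h.symm).symm)

theorem smul_b_ne {u : G} (hu : u ∈ A.U) : u • A.b ≠ A.a := fun e =>
  A.ne (by rw [← inv_smul_smul u A.b, e, A.U_le _ (inv_mem hu)])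

/-- The fixed points of an element of `H` off `a`. -/
theorem fix_iff {x u : G} (hx : x ∈ A.H) (hu : u ∈ A.U) :
    x • u • A.b = u • A.b ↔ Commute u x := by
  have h : x • u • A.b = (x * u * x⁻¹) • A.b := by
    conv_rhs => rw [mul_smul, mul_smul, ((A.H_iff _).1 (inv_mem hx)).2]
  rw [h]
  refine ⟨fun e => ?_, fun e => ?_⟩
  · have := A.b_inj (A.H_norm x hx u hu) hu e
    exact (mul_inv_eq_iff_eq_mul.1 this).symm
  · rw [← e.eq, mul_inv_cancel_right]

theorem fix_cases {x : G} (hx : x ∈ A.H) {c : Ω} (hc : x • c = c) :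
    c = A.a ∨ ∃ u ∈ A.cU x, u • A.b = c := by
  refine (eq_or_ne c A.a).imp id fun hca => ?_
  obtain ⟨⟨u, hu⟩, rfl, -⟩ := A.U_reg c hca
  exact ⟨u, A.mem_cU.2 ⟨hu, (A.fix_iff hx hu).1 hc⟩, rfl⟩

theorem fix_b {x u : G} (hx : x ∈ A.H) (hu : u ∈ A.cU x) : x • u • A.b = u • A.b :=
  (A.fix_iff hx (A.mem_cU.1 hu).1).2 (A.mem_cU.1 hu).2

theorem exists_move {c d : Ω} (h : c ≠ d) : ∃ g : G, g • c = A.a ∧ g • d = A.b :=
  (MulAction.is_two_pretransitive_iff.1 A.two) h A.ne.symm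

theorem exists_swap : ∃ t : G, t • A.a = A.b ∧ t • A.b = A.a :=
  (MulAction.is_two_pretransitive_iff.1 A.two) A.ne.symm A.ne

/-- Subgroups of `H` of the same order are equal. -/
theorem zpowers_eq [Finite G] {x y : G} (hx : x ∈ A.H) (hy : y ∈ A.H) (h : orderOf y = orderOf x) :
    Subgroup.zpowers y = Subgroup.zpowers x := by
  haveI := A.H_cyclic
  have key := eq_of_card_cyclic (A := A.H)
    (H := (Subgroup.zpowers (⟨y, hy⟩ : A.H))) (K := Subgroup.zpowers (⟨x, hx⟩ : A.H))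
    (by rw [Nat.card_zpowers, Nat.card_zpowers, Subgroup.orderOf_mk, Subgroup.orderOf_mk, h])
  have := congrArg (Subgroup.map A.H.subtype) key
  simpa [MonoidHom.map_zpowers] using this

theorem conj_mem_H {x : G} {g : G} {c d : Ω} (hxc : x • c = c) (hxd : x • d = d)
    (hc : g • c = A.a) (hd : g • d = A.b) : g * x * g⁻¹ ∈ A.H := by
  have hc' : g⁻¹ • A.a = c := by rw [← hc, inv_smul_smul]
  have hd' : g⁻¹ • A.b = d := by rw [← hd, inv_smul_smul]
  exact (A.H_iff _).2 ⟨by rw [mul_smul, mul_smul, hc', hxc, hc],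
    by rw [mul_smul, mul_smul, hd', hxd, hd]⟩

/-- An element moving two fixed points of `x` to `a` and `b` normalises `⟨x⟩`. -/
theorem mem_normalizer [Finite G] {x : G} (hx : x ∈ A.H) {g : G} {c d : Ω} (hxc : x • c = c)
    (hxd : x • d = d) (hc : g • c = A.a) (hd : g • d = A.b) :
    g ∈ Subgroup.normalizer (Subgroup.zpowers x : Set G) := by
  rw [Subgroup.mem_normalizer_iff_map_conj_eq, MonoidHom.map_zpowers]
  exact A.zpowers_eq hx (A.conj_mem_H hxc hxd hc hd) ((MulAut.conj g).orderOf_eq x)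

theorem smul_zpowers {x : G} {c : Ω} (hc : x • c = c) {y : G} (hy : y ∈ Subgroup.zpowers x) :
    y • c = c := by
  have : Subgroup.zpowers x ≤ stabilizer G c := Subgroup.zpowers_le.2 hc
  exact this hy

/-- The normaliser of `⟨x⟩` permutes the fixed points of `x`. -/
theorem fix_of_normalizer {x g : G} (hg : g ∈ Subgroup.normalizer (Subgroup.zpowers x : Set G)) {c : Ω}
    (hc : x • c = c) : x • g • c = g • c := by
  have h := (Subgroup.mem_normalizer_iff.1 (inv_mem hg) x).1 (Subgroup.mem_zpowers x)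
  rw [inv_inv] at h
  have h2 := smul_zpowers hc h
  rwa [mul_smul, mul_smul, inv_smul_eq_iff] at h2

theorem card_group [Finite G] : Nat.card G = ((p ^ n) ^ 3 + 1) * ((p ^ n) ^ 3 * Nat.card A.H) := by
  haveI := A.two
  haveI : IsPretransitive G Ω := MulAction.isPretransitive_of_is_two_pretransitive
  have h1 := (stabilizer G A.a).card_mul_index
  rw [MulAction.index_stabilizer_of_transitive, A.card_points] at h1
  have h2 : Nat.card (stabilizer G A.a) = (p ^ n) ^ 3 * Nat.card A.H := by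
    rw [← A.card_U, ← Nat.card_prod]
    refine (Nat.card_eq_of_bijective (fun y : A.U × A.H => (⟨(y.1 : G) * y.2, ?_⟩ : stabilizer G A.a))
      ⟨?_, ?_⟩).symm
    · show ((y.1 : G) * y.2) • A.a = A.a
      rw [mul_smul, ((A.H_iff _).1 y.2.2).1, A.U_le _ y.1.2]
    · rintro ⟨u, h⟩ ⟨u', h'⟩ e
      have e' : (u : G) * h = u' * h' := congrArg Subtype.val e
      have hu : u = u' := Subtype.ext (A.b_inj u.2 u'.2 (by
        have := congrArg (· • A.b) e'
        simpa [mul_smul, ((A.H_iff _).1 h.2).2, ((A.H_iff _).1 h'.2).2] using this))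
      subst hu
      exact Prod.ext rfl (Subtype.ext (mul_left_cancel e'))
    · rintro ⟨g, hg⟩
      have hgb : g • A.b ≠ A.a := fun e => A.ne (by
        rw [← inv_smul_smul g A.b, e, inv_smul_eq_iff]; exact (mem_stabilizer_iff.1 hg).symm)
      obtain ⟨⟨u, hu⟩, hub, -⟩ := A.U_reg _ hgb
      have hub' : u • A.b = g • A.b := hub
      refine ⟨(⟨u, hu⟩, ⟨u⁻¹ * g, (A.H_iff _).2 ⟨?_, ?_⟩⟩), Subtype.ext ?_⟩
      · rw [mul_smul, mem_stabilizer_iff.1 hg, A.U_le _ (inv_mem hu)]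
      · rw [mul_smul, ← hub', inv_smul_smul]
      · exact mul_inv_cancel_left u g
  rw [← h1, h2, mul_comm]

/-- The number of fixed points of an element of `H` divides `q³ + 1`. -/
theorem succ_dvd [Finite G] {x : G} (hx : x ∈ A.H) :
    Nat.card (A.cU x) + 1 ∣ (p ^ n) ^ 3 + 1 := by
  haveI : Fact p.Prime := ⟨A.hp⟩
  set N := Subgroup.normalizer (Subgroup.zpowers x : Set G) with hN
  have horb : orbit N A.a = insert A.a ((fun u : A.cU x => (u : G) • A.b) '' Set.univ) := by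
    ext c
    constructor
    · rintro ⟨⟨g, hg⟩, rfl⟩
      rcases A.fix_cases hx (fix_of_normalizer hg ((A.H_iff _).1 hx).1) with h | ⟨u, hu, h⟩
      · exact Or.inl h
      · exact Or.inr ⟨⟨u, hu⟩, trivial, h⟩
    · rintro (rfl | ⟨⟨u, hu⟩, -, rfl⟩)
      · exact MulAction.mem_orbit_self _
      · obtain ⟨g, hc, hd⟩ := A.exists_move (A.smul_b_ne (A.mem_cU.1 hu).1)
        refine ⟨⟨g⁻¹, inv_mem (A.mem_normalizer hx (A.fix_b hx hu) ((A.H_iff _).1 hx).1 hc hd)⟩, ?_⟩
        show g⁻¹ • A.a = u • A.b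
        rw [← hc, inv_smul_smul]
  have hcard : (orbit N A.a).ncard = Nat.card (A.cU x) + 1 := by
    rw [horb, Set.ncard_insert_of_notMem ?_ (Set.toFinite _), Set.ncard_image_of_injective _ ?_,
      Set.ncard_univ]
    · exact fun u v h => Subtype.ext (A.b_inj (A.mem_cU.1 u.2).1 (A.mem_cU.1 v.2).1 h)
    · rintro ⟨u, -, h⟩
      exact A.smul_b_ne (A.mem_cU.1 u.2).1 h
  have hHN : A.H ≤ N := fun h hh =>
    A.mem_normalizer hx ((A.H_iff _).1 hx).1 ((A.H_iff _).1 hx).2 ((A.H_iff _).1 hh).1 ((A.H_iff _).1 hh).2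
  have hdvd : Nat.card A.H ∣ Nat.card (stabilizer N A.a) := by
    rw [← Nat.card_congr (Subgroup.subgroupOfEquivOfLe hHN).toEquiv]
    exact Subgroup.card_dvd_of_le fun h hh =>
      mem_stabilizer_iff.2 ((A.H_iff _).1 (Subgroup.mem_subgroupOf.1 hh)).1
  have h2 : (Nat.card (A.cU x) + 1) * Nat.card A.H ∣ Nat.card G := by
    refine dvd_trans ?_ N.card_subgroup_dvd_card
    rw [← (stabilizer N A.a).index_mul_card, MulAction.index_stabilizer, hcard]
    exact mul_dvd_mul_left _ hdvd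
  rw [A.card_group, ← mul_assoc] at h2
  have h3 := Nat.dvd_of_mul_dvd_mul_right Nat.card_pos h2
  obtain ⟨k, hk⟩ := (IsPGroup.of_card (n := n * 3) (by rw [A.card_U, ← pow_mul]) |>.to_le
    (inf_le_left : A.cU x ≤ A.U)).exists_card_eq
  refine (Nat.Coprime.dvd_of_dvd_mul_right ?_ h3)
  rw [cU, hk]
  rcases k with _ | k
  · exact Nat.Coprime.pow_right _ (Nat.Coprime.pow_right _ ((Nat.coprime_primes Nat.prime_two A.hp).2 A.hp2.symm))
  · refine Nat.Coprime.pow_right _ (Nat.Coprime.pow_right _ (Nat.Coprime.symm ?_))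
    rw [pow_succ', Nat.coprime_mul_left_add_right]
    exact Nat.coprime_one_right p

/-- If `C_U(x) ≠ 1` some element of `C(x)` exchanges `a` and `b`. -/
theorem exists_swap_comm [Finite G] {x : G} (hx : x ∈ A.H) (hne : A.cU x ≠ ⊥) :
    ∃ c : G, Commute c x ∧ c • A.a = A.b ∧ c • A.b = A.a := by
  obtain ⟨u, hu, hu1⟩ := (A.cU x).bot_or_exists_ne_one.resolve_left hne
  obtain ⟨s, hsa, hsb⟩ := A.exists_swap
  have hxa := ((A.H_iff _).1 hx).1
  have hxb := ((A.H_iff _).1 hx).2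
  have hsN := A.mem_normalizer hx hxb hxa hsb hsa
  obtain ⟨huU, huc⟩ := A.mem_cU.1 hu
  -- a conjugate of `u` fixing `b`
  set u' := s * u * s⁻¹ with hu'
  have hu'c : Commute u' x := by
    have h := (Subgroup.mem_normalizer_iff.1 (inv_mem hsN) x).1 (Subgroup.mem_zpowers x)
    obtain ⟨i, hi⟩ := Subgroup.mem_zpowers_iff.1 h
    rw [inv_inv] at hi
    have h2 : Commute u (s⁻¹ * x * s) := hi ▸ huc.zpow_right i
    have h3 := h2.map (MulAut.conj s)
    simpa [hu', mul_assoc] using h3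
  have hsa' : s⁻¹ • A.a = A.b := by rw [← hsb, inv_smul_smul]
  have hsb' : s⁻¹ • A.b = A.a := by rw [← hsa, inv_smul_smul]
  have hu'b : u' • A.b = A.b := by rw [hu', mul_smul, mul_smul, hsb', A.U_le _ huU, hsa]
  have hu'a : u' • A.a ≠ A.a := by
    rw [hu', mul_smul, mul_smul, hsa']
    intro e
    have : u • A.b = A.b := smul_left_cancel s (e.trans hsb.symm)
    exact hu1 (A.b_inj huU (one_mem _) (by rw [this, one_smul]))
  obtain ⟨v, hv, hvb⟩ := (A.fix_cases hx (c := u' • A.a) (by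
    rw [← mul_smul, ← hu'c.eq, mul_smul, hxa])).resolve_left hu'a
  obtain ⟨hvU, hvc⟩ := A.mem_cU.1 hv
  set c₁ := v⁻¹ * u' with hc₁
  have hc₁x : Commute c₁ x := hvc.inv_left.mul_left hu'c
  have hc₁a : c₁ • A.a = A.b := by rw [hc₁, mul_smul, ← hvb, inv_smul_smul]
  have hc' : c₁⁻¹ • A.a ≠ A.a := fun e => A.ne (by
    conv_lhs => rw [← hc₁a, ← e, smul_inv_smul])
  obtain ⟨w, hw, hwb⟩ := (A.fix_cases hx (c := c₁⁻¹ • A.a) (by
    rw [← mul_smul, ← hc₁x.inv_left.eq, mul_smul, hxa])).resolve_left hc'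
  obtain ⟨hwU, hwc⟩ := A.mem_cU.1 hw
  refine ⟨c₁ * w, hc₁x.mul_left hwc, ?_, ?_⟩
  · rw [mul_smul, A.U_le _ hwU, hc₁a]
  · rw [mul_smul, hwb, smul_inv_smul]

/-- An element commuting with an element exchanging `a` and `b` commutes with every such element. -/
theorem swap_commute [Finite G] {x c t : G} (hx : x ∈ A.H) (hc : Commute c x) (hca : c • A.a = A.b)
    (hcb : c • A.b = A.a) (hta : t • A.a = A.b) (htb : t • A.b = A.a) : Commute t x := by
  have hh : c⁻¹ * t ∈ A.H := (A.H_iff _).2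
    ⟨by rw [mul_smul, hta, ← hca, inv_smul_smul], by rw [mul_smul, htb, ← hcb, inv_smul_smul]⟩
  have h1 : Commute (c⁻¹ * t) x := by
    haveI := A.H_cyclic
    letI := IsCyclic.commGroup (α := A.H)
    exact congrArg Subtype.val (mul_comm (⟨_, hh⟩ : A.H) ⟨x, hx⟩)
  have := hc.mul_left h1
  rwa [mul_inv_cancel_left] at this

/-- If `C(x)` exchanges `a` and `b` then `N(⟨x⟩) = C(x)`. -/
theorem normalizer_le [Finite G] {x c : G} (hx : x ∈ A.H) (hc : Commute c x)
    (hcb : c • A.b = A.a) {g : G} (hg : g ∈ Subgroup.normalizer (Subgroup.zpowers x : Set G)) :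
    Commute g x := by
  have key : ∀ d e : Ω, x • d = d → x • e = e → d ≠ e →
      ∃ y : G, Commute y x ∧ y • d = A.a ∧ y • e = A.b := by
    have h0 : ∀ e : Ω, x • e = e → A.a ≠ e → ∃ y : G, Commute y x ∧ y • A.a = A.a ∧ y • e = A.b := by
      intro e he hne
      obtain ⟨v, hv, hvb⟩ := (A.fix_cases hx he).resolve_left hne.symm
      exact ⟨v⁻¹, (A.mem_cU.1 hv).2.inv_left, A.U_le _ (inv_mem (A.mem_cU.1 hv).1),
        by rw [← hvb, inv_smul_smul]⟩
    intro d e hd he hne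
    rcases A.fix_cases hx hd with rfl | ⟨v, hv, rfl⟩
    · exact h0 e he hne
    obtain ⟨-, hvc⟩ := A.mem_cU.1 hv
    have hy : Commute (c * v⁻¹) x := hc.mul_left hvc.inv_left
    have hyd : (c * v⁻¹) • v • A.b = A.a := by rw [mul_smul, inv_smul_smul, hcb]
    obtain ⟨y, hyc, hya, hye⟩ := h0 ((c * v⁻¹) • e) (by rw [← mul_smul, ← hy.eq, mul_smul, he])
      fun h => hne (smul_left_cancel (c * v⁻¹) (hyd.trans h))
    exact ⟨y * (c * v⁻¹), hyc.mul_left hy, by rw [mul_smul, hyd, hya], by rw [mul_smul, hye]⟩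
  have hxa := ((A.H_iff _).1 hx).1
  have hxb := ((A.H_iff _).1 hx).2
  obtain ⟨y, hy, hya, hyb⟩ := key _ _ (fix_of_normalizer hg hxa) (fix_of_normalizer hg hxb)
    fun h => A.ne (smul_left_cancel g h).symm
  have hh : y * g ∈ A.H := (A.H_iff _).2 ⟨by rw [mul_smul, hya], by rw [mul_smul, hyb]⟩
  have h1 : Commute (y * g) x := by
    haveI := A.H_cyclic
    letI := IsCyclic.commGroup (α := A.H)
    exact congrArg Subtype.val (mul_comm (⟨_, hh⟩ : A.H) ⟨x, hx⟩)
  have := hy.inv_left.mul_left h1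
  rwa [inv_mul_cancel_left] at this

end Act

end Cfsg.Agent.ONanU3
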