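import Cfsg.Agent.Lib.ONanU3.Defs
import Cfsg.Agent.Lib.ONanU3.Setup
import Cfsg.Agent.Lib.LocalEven.Zsigmondy
import Cfsg.Agent.Lib.Solvable.Coprime
import Cfsg.Agent.Lib.Solvable.NilpotentFrattini

/-!
# Split rank-one groups of odd unitary type: the centre `Z` of `U`

Every non-trivial element of `H` centralises `1` or one and the same subgroup `Z` of order `q`, which is
central in `U` and contains the commutators; the involution of `H` centralises `Z`.
-/

set_option autoImplicit false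
set_option linter.style.haveILetI false
set_option linter.unusedSectionVars false

namespace Cfsg.Agent.ONanU3

universe u v

open MulAction
open scoped commutatorElement

/-- `p^k + 1` divides `p^m + 1` only for an odd multiple `m` of `k`, and `p^m - 1` for an even one. -/
theorem pow_dvd_cases {p k : ℕ} (hp : 3 ≤ p) (hk : 1 ≤ k) : ∀ m : ℕ,
    ((p : ℤ) ^ k + 1 ∣ (p : ℤ) ^ m + 1 → ∃ t, Odd t ∧ m = k * t) ∧
    ((p : ℤ) ^ k + 1 ∣ (p : ℤ) ^ m - 1 → ∃ t, Even t ∧ m = k * t) := by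
  intro m
  induction m using Nat.strong_induction_on with
  | _ m ih =>
  have hp' : (3 : ℤ) ≤ p := by exact_mod_cast hp
  rcases Nat.lt_or_ge m k with hmk | hmk
  · have hpos : (1 : ℤ) ≤ (p : ℤ) ^ m := one_le_pow₀ (by omega)
    have hlt : (p : ℤ) ^ m < (p : ℤ) ^ k := pow_lt_pow_right₀ (by omega) hmk
    refine ⟨fun h => ?_, fun h => ?_⟩
    · have := Int.le_of_dvd (by omega) h
      omega
    · rcases Nat.eq_zero_or_pos m with rfl | hm
      · exact ⟨0, Even.zero, (mul_zero k).symm⟩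
      · have h2 : (1 : ℤ) < (p : ℤ) ^ m := one_lt_pow₀ (by omega) hm.ne'
        have := Int.le_of_dvd (by omega) h
        omega
  · obtain ⟨ihp, ihm⟩ := ih (m - k) (by omega)
    have e : (p : ℤ) ^ m = (p : ℤ) ^ (m - k) * (p : ℤ) ^ k := by
      rw [← pow_add, Nat.sub_add_cancel hmk]
    have hdvd := dvd_mul_left ((p : ℤ) ^ k + 1) ((p : ℤ) ^ (m - k))
    refine ⟨fun h => ?_, fun h => ?_⟩
    · obtain ⟨t, ht, hm⟩ := ihm (by
        rw [show (p : ℤ) ^ (m - k) - 1 =
          (p : ℤ) ^ (m - k) * ((p : ℤ) ^ k + 1) - ((p : ℤ) ^ m + 1) by rw [e]; ring]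
        exact dvd_sub hdvd h)
      exact ⟨t + 1, ht.add_one, by rw [mul_add, mul_one, ← hm]; omega⟩
    · obtain ⟨t, ht, hm⟩ := ihp (by
        rw [show (p : ℤ) ^ (m - k) + 1 =
          (p : ℤ) ^ (m - k) * ((p : ℤ) ^ k + 1) - ((p : ℤ) ^ m - 1) by rw [e]; ring]
        exact dvd_sub hdvd h)
      exact ⟨t + 1, ht.add_one, by rw [mul_add, mul_one, ← hm]; omega⟩

/-- The exponents with the same power of `p` modulo a prime with primitive period `d`. -/
theorem period {p r d v w : ℕ} (hr : r.Prime) (hrp : ¬ r ∣ p) (hd : 0 < d) (hdvd : r ∣ p ^ d - 1)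
    (hprim : ∀ i : ℕ, 0 < i → i < d → ¬ r ∣ p ^ i - 1) (hwv : w ≤ v) (h : p ^ v ≡ p ^ w [MOD r]) :
    d ∣ v - w := by
  haveI : Fact r.Prime := ⟨hr⟩
  have hp0 : 0 < p := Nat.pos_of_ne_zero fun e => hrp (e ▸ dvd_zero r)
  have hpne : (p : ZMod r) ≠ 0 := fun e => hrp ((ZMod.natCast_eq_zero_iff p r).1 e)
  have h1 := (ZMod.natCast_eq_natCast_iff (p ^ v) (p ^ w) r).2 h
  push_cast at h1
  have h2 : (p : ZMod r) ^ (v - w) = 1 := by
    apply mul_left_cancel₀ (pow_ne_zero w hpne)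
    rw [← pow_add, Nat.add_sub_cancel' hwv, h1, mul_one]
  have h3 : (p : ZMod r) ^ d = 1 := (LEZsig.natCast_pow_eq_one_iff hp0).1 hdvd
  refine Nat.dvd_of_mod_eq_zero (Nat.eq_zero_of_not_pos fun hpos => ?_)
  refine hprim _ hpos (Nat.mod_lt _ hd) ((LEZsig.natCast_pow_eq_one_iff hp0).2 ?_)
  rw [← h2]
  conv_rhs => rw [← Nat.mod_add_div (v - w) d, pow_add, pow_mul, h3, one_pow, mul_one]

variable {G : Type u} [Group G] [Finite G]

theorem normalizer_centralizer (M : Subgroup G) :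
    Subgroup.normalizer (M : Set G) ≤ Subgroup.normalizer (Subgroup.centralizer (M : Set G) : Set G) := by
  have key : ∀ g ∈ Subgroup.normalizer (M : Set G), ∀ c ∈ Subgroup.centralizer (M : Set G),
      g * c * g⁻¹ ∈ Subgroup.centralizer (M : Set G) := fun g hg c hc =>
    Subgroup.mem_centralizer_iff.2 fun m hm => by
      have h := Subgroup.mem_centralizer_iff.1 hc _ ((Subgroup.mem_normalizer_iff.1 (inv_mem hg) m).1 hm)
      rw [inv_inv] at h
      calc m * (g * c * g⁻¹) = g * (g⁻¹ * m * g * c) * g⁻¹ := by group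
        _ = g * (c * (g⁻¹ * m * g)) * g⁻¹ := by rw [h]
        _ = g * c * g⁻¹ * m := by group
  exact fun g hg => Subgroup.mem_normalizer_iff.2 fun c => ⟨key g hg c, fun h => by
    simpa [mul_assoc] using key g⁻¹ (inv_mem hg) _ h⟩

/-- An element of prime order normalising `M` fixes the order of `M` modulo that prime. -/
theorem card_modEq {x : G} {r : ℕ} (hr : r.Prime) (hxr : orderOf x = r) {M : Subgroup G}
    (hM : x ∈ Subgroup.normalizer (M : Set G)) :
    Nat.card M ≡ Nat.card ↥(M ⊓ Subgroup.centralizer {x}) [MOD r] := by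
  haveI : Fact r.Prime := ⟨hr⟩
  let f := M.normalizerMonoidHom.comp (Subgroup.inclusion (Subgroup.zpowers_le.2 hM))
  letI : MulAction (Subgroup.zpowers x) M := MulAction.compHom M f
  have hp : IsPGroup r (Subgroup.zpowers x) :=
    IsPGroup.of_card (n := 1) (by rw [pow_one, Nat.card_zpowers, hxr])
  refine (hp.card_modEq_card_fixedPoints (α := M)).trans (Nat.ModEq.symm (Eq.subst ?_ (Nat.ModEq.refl _)))
  refine Nat.card_congr
    { toFun := fun m => ⟨⟨m, m.2.1⟩, fun y => Subtype.ext ?_⟩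
      invFun := fun m => ⟨(m.1 : G), m.1.2, Subgroup.mem_centralizer_singleton_iff.2 ?_⟩
      left_inv := fun _ => rfl
      right_inv := fun _ => rfl }
  · show (y : G) * m * (y : G)⁻¹ = m
    have hc : Commute (m : G) x := Subgroup.mem_centralizer_singleton_iff.1 m.2.2
    obtain ⟨i, hi⟩ := Subgroup.mem_zpowers_iff.1 y.2
    rw [← hi, ← (hc.zpow_right i).eq, mul_inv_cancel_right]
  · have h := congrArg Subtype.val (m.2 ⟨x, Subgroup.mem_zpowers x⟩)
    change x * (m.1 : G) * x⁻¹ = m.1 at h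
    exact (mul_inv_eq_iff_eq_mul.1 h).symm

/-- A coset left invariant by an element of coprime prime order contains a fixed element. -/
theorem exists_fix_coset {x u : G} {r : ℕ} (hr : r.Prime) (hxr : orderOf x = r) {U L : Subgroup G}
    (hLU : L ≤ U) (hUL : U ≤ Subgroup.normalizer (L : Set G))
    (hxU : x ∈ Subgroup.normalizer (U : Set G)) (hxL : x ∈ Subgroup.normalizer (L : Set G))
    (hcop : ¬ r ∣ Nat.card U) (hu : u ∈ U) (hfix : x * u * x⁻¹ * u⁻¹ ∈ L) :
    ∃ c ∈ U, Commute c x ∧ u⁻¹ * c ∈ L := by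
  obtain ⟨c, ⟨hcU, hcx⟩, hc⟩ := CoprimeAct.exists_mem_centralizer (A := Subgroup.zpowers x) (K := U)
    (Subgroup.zpowers_le.2 hxU) (by rw [Nat.card_zpowers, hxr]; exact (hr.coprime_iff_not_dvd).2 hcop)
    (Or.inl inferInstance) hLU hUL (Subgroup.zpowers_le.2 hxL) hu fun y hy => by
      obtain ⟨i, rfl⟩ := mem_powers_iff_mem_zpowers.2 hy
      induction i with
      | zero => simpa using one_mem L
      | succ i ih =>
        have h1 := (Subgroup.mem_normalizer_iff.1 hxL _).1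
          (ih (pow_mem (Subgroup.mem_zpowers x) i))
        rw [show x ^ (i + 1) * u * (x ^ (i + 1))⁻¹ * u⁻¹ =
          x * (x ^ i * u * (x ^ i)⁻¹ * u⁻¹) * x⁻¹ * (x * u * x⁻¹ * u⁻¹) by rw [pow_succ']; group]
        exact mul_mem h1 hfix
  exact ⟨c, hcU, (Subgroup.mem_centralizer_iff.1 hcx x (Subgroup.mem_zpowers x)).symm, hc⟩

/-- Orbits of a semiregular group of automorphisms. -/
theorem card_dvd_sub_one {W M : Subgroup G} (hW : W ≤ Subgroup.normalizer (M : Set G))
    (hfree : ∀ w ∈ W, w ≠ 1 → ∀ m ∈ M, Commute m w → m = 1) : Nat.card W ∣ Nat.card M - 1 := by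
  classical
  let f := M.normalizerMonoidHom.comp (Subgroup.inclusion hW)
  letI : MulAction W M := MulAction.compHom M f
  have hsmul : ∀ (w : W) (m : M), ((w • m : M) : G) = (w : G) * m * (w : G)⁻¹ := fun _ _ => rfl
  letI : MulAction W {m : M // m ≠ 1} :=
    { smul := fun w m => ⟨w • (m : M), fun e => m.2 (Subtype.ext (by
        have := congrArg Subtype.val e
        rwa [hsmul, Subgroup.coe_one, mul_inv_eq_one, mul_eq_left] at this))⟩
      one_smul := fun m => Subtype.ext (one_smul W (m : M))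
      mul_smul := fun a b m => Subtype.ext (mul_smul a b (m : M)) }
  have hst : ∀ m : {m : M // m ≠ 1}, stabilizer W m = ⊥ := fun m =>
    (Subgroup.eq_bot_iff_forall _).2 fun w hw => Subtype.ext (by
      by_contra hw1
      refine m.2 (Subtype.ext (hfree w w.2 hw1 _ (m : M).2 ?_))
      have h2 := congrArg Subtype.val (congrArg Subtype.val hw)
      change (w : G) * (m : M) * (w : G)⁻¹ = ((m : M) : G) at h2
      exact (mul_inv_eq_iff_eq_mul.1 h2).symm)
  have h := Nat.card_congr (MulAction.selfEquivOrbitsQuotientProd hst)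
  haveI := Fintype.ofFinite M
  rw [Nat.card_prod, Nat.card_eq_fintype_card, Fintype.card_subtype_compl, Fintype.card_subtype_eq,
    ← Nat.card_eq_fintype_card] at h
  exact ⟨_, h.trans (mul_comm _ _)⟩

namespace Act

variable {Ω : Type v} [MulAction G Ω] {p n : ℕ} (A : Act G Ω p n)
include A

theorem three_le : 3 ≤ p := by
  have := A.hp.two_le
  have := A.hp2
  omega

theorem isPGroup : IsPGroup p A.U := IsPGroup.of_card (n := n * 3) (by rw [A.card_U, ← pow_mul])

theorem exists_card {M : Subgroup G} (hM : M ≤ A.U) : ∃ v ≤ 3 * n, Nat.card M = p ^ v := by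
  haveI : Fact p.Prime := ⟨A.hp⟩
  obtain ⟨v, hv⟩ := (A.isPGroup.to_le hM).exists_card_eq
  refine ⟨v, ?_, hv⟩
  have h := Subgroup.card_dvd_of_le hM
  rw [hv, A.card_U, ← pow_mul, mul_comm n 3] at h
  exact (Nat.pow_dvd_pow_iff_le_right A.hp.one_lt).1 h

theorem not_dvd {r : ℕ} (hr : r.Prime) (hrp : r ≠ p) {M : Subgroup G} (hM : M ≤ A.U) :
    ¬ r ∣ Nat.card M := by
  obtain ⟨v, -, hv⟩ := A.exists_card hM
  rw [hv]
  exact fun h => hrp ((Nat.prime_dvd_prime_iff_eq hr A.hp).1 (hr.dvd_of_dvd_pow h))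

theorem H_comm {x y : G} (hx : x ∈ A.H) (hy : y ∈ A.H) : Commute x y := by
  haveI := A.H_cyclic
  letI := IsCyclic.commGroup (α := A.H)
  exact congrArg Subtype.val (mul_comm (⟨x, hx⟩ : A.H) ⟨y, hy⟩)

theorem H_le_normalizer_U : A.H ≤ Subgroup.normalizer (A.U : Set G) := fun h hh =>
  Subgroup.mem_normalizer_iff.2 fun u => ⟨A.H_norm h hh u, fun hu => by
    simpa [mul_assoc] using A.H_norm h⁻¹ (inv_mem hh) _ hu⟩

theorem H_le_normalizer_cU {x : G} (hx : x ∈ A.H) :
    A.H ≤ Subgroup.normalizer (A.cU x : Set G) := by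
  have key : ∀ h ∈ A.H, ∀ u ∈ A.cU x, h * u * h⁻¹ ∈ A.cU x := by
    intro h hh u hu
    rw [A.mem_cU] at hu ⊢
    exact ⟨A.H_norm h hh u hu.1,
      ((A.H_comm hh hx).mul_left hu.2).mul_left (A.H_comm hh hx).inv_left⟩
  exact fun h hh => Subgroup.mem_normalizer_iff.2 fun u => ⟨key h hh u, fun hu => by
    simpa [mul_assoc] using key h⁻¹ (inv_mem hh) _ hu⟩

theorem cU_ne_U {x : G} (hx : x ∈ A.H) (hx1 : x ≠ 1) : A.cU x ≠ A.U := fun h => hx1 (by
  haveI := A.faithful
  refine eq_of_smul_eq_smul (α := Ω) fun c => ?_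
  rw [one_smul]
  rcases eq_or_ne c A.a with rfl | hc
  · exact ((A.H_iff x).1 hx).1
  · obtain ⟨⟨u, hu⟩, rfl, -⟩ := A.U_reg c hc
    exact A.fix_b hx (h.ge hu))

/-- The number of fixed points gives the exponent of `|C_U(x)|`. -/
theorem cU_exponent {x : G} (hx : x ∈ A.H) (hx1 : x ≠ 1) {k : ℕ} (hk : Nat.card (A.cU x) = p ^ k) :
    k = 0 ∨ (k ≤ n ∧ ∃ t, Odd t ∧ 3 * n = k * t) := by
  rcases Nat.eq_zero_or_pos k with h | h
  · exact Or.inl h
  have h1 := A.succ_dvd hx
  rw [hk, ← pow_mul, mul_comm n 3, ← Int.natCast_dvd_natCast] at h1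
  push_cast at h1
  obtain ⟨t, ht, he⟩ := (pow_dvd_cases A.three_le h (3 * n)).1 h1
  refine Or.inr ⟨?_, t, ht, he⟩
  obtain ⟨i, rfl⟩ := ht
  rcases Nat.eq_zero_or_pos i with rfl | hi
  · refine absurd (Subgroup.eq_of_le_of_card_ge (inf_le_left : A.cU x ≤ A.U) ?_) (A.cU_ne_U hx hx1)
    show Nat.card A.U ≤ Nat.card (A.cU x)
    have hkn : k = n * 3 := by omega
    rw [hk, A.card_U, ← pow_mul, hkn]
  · nlinarith

theorem gcd_cases : Nat.gcd 3 (p ^ n + 1) = 1 ∨ Nat.gcd 3 (p ^ n + 1) = 3 :=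
  (Nat.dvd_prime Nat.prime_three).1 (Nat.gcd_dvd_left _ _)

/-- A prime dividing `q² - 1` but not `e` divides `|H|`. -/
theorem exists_orderOf {r : ℕ} (hr : r.Prime) (h3 : r ≠ 3) (hd : r ∣ (p ^ n) ^ 2 - 1) :
    ∃ x ∈ A.H, orderOf x = r := by
  haveI : Fact r.Prime := ⟨hr⟩
  have hcop : r.Coprime (Nat.gcd 3 (p ^ n + 1)) :=
    ((Nat.coprime_primes hr Nat.prime_three).2 h3).coprime_dvd_right (Nat.gcd_dvd_left _ _)
  rw [← A.card_H] at hd
  obtain ⟨x, hx⟩ := exists_prime_orderOf_dvd_card' r (hcop.dvd_of_dvd_mul_left hd)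
  exact ⟨x, x.2, by rw [Subgroup.orderOf_coe, hx]⟩

/-- An element of odd prime order dividing `q - 1` fixes only `a` and `b`. -/
theorem free_split {x : G} (hx : x ∈ A.H) {r : ℕ} (hr : r.Prime) (hr2 : r ≠ 2)
    (hrq : r ∣ p ^ n - 1) (hxr : orderOf x = r) : A.cU x = ⊥ := by
  by_contra hne
  haveI : Fact r.Prime := ⟨hr⟩
  haveI := A.simple
  obtain ⟨c, hc, hca, hcb⟩ := A.exists_swap_comm hx hne
  -- the Sylow subgroup
  have hrH : r ∣ Nat.card A.H := by rw [← hxr]; exact Subgroup.orderOf_dvd_natCard _ hx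
  set v := (Nat.card A.H).factorization r with hv
  have hvd : r ^ v ∣ Nat.card A.H := Nat.ordProj_dvd _ _
  have hv1 : 1 ≤ v := hr.factorization_pos_of_dvd Nat.card_pos.ne' hrH
  haveI := A.H_cyclic
  obtain ⟨g₀, hg₀⟩ := IsCyclic.exists_ofOrder_eq_natCard (α := A.H)
  have hrp : r ≠ p := by
    rintro rfl
    have h1 : r ∣ r ^ n := dvd_pow_self r (by have := A.hn; omega)
    have h2 := Nat.dvd_sub h1 hrq
    rw [Nat.sub_sub_self (Nat.one_le_pow _ _ hr.pos)] at h2
    exact absurd (Nat.le_of_dvd one_pos h2) (Nat.not_le.2 hr.one_lt)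
  set g : G := ((g₀ ^ (Nat.card A.H / r ^ v) : A.H) : G) with hg
  have hgH : g ∈ A.H := SetLike.coe_mem _
  have hgo : orderOf g = r ^ v := by
    rw [hg, Subgroup.orderOf_coe, orderOf_pow, hg₀, Nat.gcd_eq_right (Nat.div_dvd_of_dvd hvd),
      Nat.div_div_self hvd Nat.card_pos.ne']
  have hxg : x ∈ Subgroup.zpowers g := by
    have ho : orderOf (g ^ r ^ (v - 1)) = r := by
      rw [orderOf_pow' _ (pow_ne_zero _ hr.ne_zero), hgo,
        Nat.gcd_eq_right (pow_dvd_pow r (Nat.sub_le v 1)), Nat.pow_div (Nat.sub_le v 1) hr.pos,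
        Nat.sub_sub_self hv1, pow_one]
    have h := A.zpowers_eq (pow_mem hgH (r ^ (v - 1))) hx (hxr.trans ho.symm)
    exact Subgroup.zpowers_le.2 (pow_mem (Subgroup.mem_zpowers g) _) (h ▸ Subgroup.mem_zpowers x)
  -- the swapper fixes `g`
  have hga := ((A.H_iff g).1 hgH).1
  have hgb := ((A.H_iff g).1 hgH).2
  have hcn := A.mem_normalizer hgH hgb hga hcb hca
  obtain ⟨i, hi⟩ := Subgroup.mem_zpowers_iff.1
    ((Subgroup.mem_normalizer_iff.1 hcn g).1 (Subgroup.mem_zpowers g))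
  obtain ⟨m, hm⟩ := Subgroup.mem_zpowers_iff.1 hxg
  have hcg : Commute c g := by
    have hc2 : c * c ∈ A.H := (A.H_iff _).2
      ⟨by rw [mul_smul, hca, hcb], by rw [mul_smul, hcb, hca]⟩
    have h2 : g ^ (i * i) = g := by
      rw [zpow_mul, hi, conj_zpow, hi]
      calc c * (c * g * c⁻¹) * c⁻¹ = (c * c) * g * (c * c)⁻¹ := by group
        _ = g := by rw [(A.H_comm hc2 hgH).eq, mul_inv_cancel_right]
    have hx2 : g ^ (i * m) = g ^ m := by
      rw [zpow_mul, hi, conj_zpow, hm, hc.eq, mul_inv_cancel_right]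
    rw [zpow_eq_zpow_iff_modEq, hgo, Int.modEq_iff_dvd] at hx2
    have h2' : g ^ (i * i) = g ^ (1 : ℤ) := by rw [zpow_one]; exact h2
    rw [zpow_eq_zpow_iff_modEq, hgo, Int.modEq_iff_dvd] at h2'
    push_cast at hx2 h2'
    have hrZ : Prime (r : ℤ) := Nat.prime_iff_prime_int.1 hr
    have hri : (r : ℤ) ∣ 1 - i := by
      by_contra hcon
      have hdm : (r : ℤ) ^ v ∣ m := by
        refine hrZ.pow_dvd_of_dvd_mul_left v hcon ?_
        rwa [show (1 - i) * m = m - i * m by ring]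
      obtain ⟨j, rfl⟩ := hdm
      apply hr.ne_one
      rw [← hxr, ← hm, orderOf_eq_one_iff, zpow_mul,
        show ((r : ℤ) ^ v) = ((r ^ v : ℕ) : ℤ) by push_cast; rfl, zpow_natCast, ← hgo,
        pow_orderOf_eq_one, one_zpow]
    have hni : ¬ (r : ℤ) ∣ 1 + i := fun h => by
      have h4 : (r : ℤ) ∣ 2 := by
        have := dvd_add h hri
        rwa [show (1 + i) + (1 - i) = (2 : ℤ) by ring] at this
      exact hr2 ((Nat.prime_dvd_prime_iff_eq hr Nat.prime_two).1 (by exact_mod_cast h4))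
    have h1i : (r : ℤ) ^ v ∣ 1 - i := hrZ.pow_dvd_of_dvd_mul_left v hni
      (by rwa [show (1 + i) * (1 - i) = 1 - i * i by ring])
    have hgi : g ^ i = g ^ (1 : ℤ) := by
      rw [zpow_eq_zpow_iff_modEq, hgo, Int.modEq_iff_dvd]
      exact_mod_cast h1i
    rw [zpow_one, hi] at hgi
    exact mul_inv_eq_iff_eq_mul.1 hgi
  -- Burnside
  have hP : Nat.card (Subgroup.zpowers g) = r ^ (Nat.card G).factorization r := by
    rw [Nat.card_zpowers, hgo]
    congr 1
    have h1 : ¬ r ∣ (p ^ n) ^ 3 + 1 := fun h => by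
      have hq : ((p ^ n : ℕ) : ZMod r) = 1 := by
        have := (ZMod.natCast_eq_zero_iff (p ^ n - 1) r).2 hrq
        rwa [Nat.cast_sub (Nat.one_le_pow _ _ A.hp.pos), Nat.cast_one, sub_eq_zero] at this
      have h2 := (ZMod.natCast_eq_zero_iff _ r).2 h
      push_cast at h2 hq
      rw [hq, one_pow] at h2
      have h3 : ((2 : ℕ) : ZMod r) = 0 := by rw [← h2]; norm_num
      exact hr2 ((Nat.prime_dvd_prime_iff_eq hr Nat.prime_two).1 ((ZMod.natCast_eq_zero_iff 2 r).1 h3))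
    have h2 : ¬ r ∣ (p ^ n) ^ 3 := fun h =>
      hrp ((Nat.prime_dvd_prime_iff_eq hr A.hp).1 (hr.dvd_of_dvd_pow (hr.dvd_of_dvd_pow h)))
    have hp0 : (p ^ n) ^ 3 ≠ 0 := pow_ne_zero _ (pow_ne_zero _ A.hp.ne_zero)
    rw [A.card_group, Nat.factorization_mul (by omega) (mul_ne_zero hp0 Nat.card_pos.ne'),
      Nat.factorization_mul hp0 Nat.card_pos.ne', Finsupp.add_apply, Finsupp.add_apply,
      Nat.factorization_eq_zero_of_not_dvd h1, Nat.factorization_eq_zero_of_not_dvd h2, hv,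
      zero_add, zero_add]
  let P : Sylow r G := Sylow.ofCard (Subgroup.zpowers g) hP
  have hle : Subgroup.normalizer ((P : Subgroup G) : Set G) ≤
      Subgroup.centralizer ((P : Subgroup G) : Set G) := by
    intro y hy
    refine Subgroup.mem_centralizer_iff.2 fun z hz => ?_
    obtain ⟨k, rfl⟩ := Subgroup.mem_zpowers_iff.1 hz
    exact ((A.normalizer_le hgH hcg hcb hy).zpow_right k).eq.symm
  have hcompl := MonoidHom.ker_transferSylow_isComplement' P hle
  have hPc : Nat.card (P : Subgroup G) = r ^ v := by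
    show Nat.card (Subgroup.zpowers g) = r ^ v
    rw [Nat.card_zpowers, hgo]
  rcases (MonoidHom.transferSylow P hle).normal_ker.eq_bot_or_eq_top with h | h
  · rw [h, Subgroup.isComplement'_bot_left] at hcompl
    have hcG : r ^ v = Nat.card G := by rw [← hPc, hcompl, Subgroup.card_top]
    have hpG : p ∣ Nat.card G := by
      rw [A.card_group]
      exact Dvd.dvd.mul_left (Dvd.dvd.mul_right (dvd_pow (dvd_pow_self p (by have := A.hn; omega))
        three_ne_zero) _) _
    rw [← hcG] at hpG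
    exact hrp ((Nat.prime_dvd_prime_iff_eq A.hp hr).1 (A.hp.dvd_of_dvd_pow hpG)).symm
  · rw [h, Subgroup.isComplement'_top_left] at hcompl
    rw [hcompl, Subgroup.card_bot] at hPc
    exact (Nat.one_lt_pow (by omega) hr.one_lt).ne hPc

/-- The centre of `U`. -/
def IsCentre (Z : Subgroup G) : Prop :=
  Z ≤ A.U ∧ Nat.card Z = p ^ n ∧ (∀ z ∈ Z, ∀ u ∈ A.U, Commute z u) ∧
    A.H ≤ Subgroup.normalizer (Z : Set G) ∧ (∀ u ∈ A.U, ∀ v ∈ A.U, ⁅u, v⁆ ∈ Z) ∧
    ∀ h ∈ A.H, h ≠ 1 → A.cU h = ⊥ ∨ A.cU h = Z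

theorem exists_centre_large (h2 : 2 ≤ n) : ∃ Z, A.IsCentre Z := by
  haveI : Fact p.Prime := ⟨A.hp⟩
  haveI : Group.IsNilpotent A.U := A.isPGroup.isNilpotent
  obtain ⟨r, hr, hrd, hrprim⟩ := LEZsig.zsigmondy p (2 * n) A.hp.one_lt (by omega)
    (fun h => A.hp2 h.1) (fun h => by omega)
  have hrp : r ≠ p := by
    rintro rfl
    have h1 : r ∣ r ^ (2 * n) := dvd_pow_self r (by omega)
    have h2 := Nat.dvd_sub h1 hrd
    rw [Nat.sub_sub_self (Nat.one_le_pow _ _ hr.pos)] at h2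
    exact absurd (Nat.le_of_dvd one_pos h2) (Nat.not_le.2 hr.one_lt)
  have hr3 : r ≠ 3 := by
    rintro rfl
    refine hrprim 2 (by norm_num) (by omega) ?_
    have := A.hp.two_le
    rcases (show p % 3 = 1 ∨ p % 3 = 2 from by
      have : ¬ 3 ∣ p := fun h => hrp ((Nat.prime_dvd_prime_iff_eq Nat.prime_three A.hp).1 h)
      omega) with h | h <;>
    · have : (p ^ 2) % 3 = 1 := by rw [Nat.pow_mod, h]
      omega
  obtain ⟨x, hx, hxr⟩ := A.exists_orderOf hr hr3 (by rwa [← pow_mul, mul_comm])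
  have hx1 : x ≠ 1 := fun h => hr.ne_one (by rw [← hxr, h, orderOf_one])
  set Z := A.cU x with hZ
  have hrp' : ¬ r ∣ p := fun h => hrp ((Nat.prime_dvd_prime_iff_eq hr A.hp).1 h)
  have step : ∀ M : Subgroup G, M ≤ A.U → x ∈ Subgroup.normalizer (M : Set G) →
      ∃ v w, Nat.card M = p ^ v ∧ Nat.card ↥(M ⊓ Z) = p ^ w ∧ (v = w ∨ v = w + 2 * n) := by
    intro M hM hxM
    obtain ⟨v, hv, hMv⟩ := A.exists_card hM
    obtain ⟨w, -, hw⟩ := A.exists_card (inf_le_left.trans hM : M ⊓ Z ≤ A.U)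
    have hMZ : M ⊓ Z = M ⊓ Subgroup.centralizer {x} := by
      rw [hZ, cU, ← inf_assoc, inf_eq_left.2 hM]
    have hwv : w ≤ v := (Nat.pow_le_pow_iff_right A.hp.one_lt).1
      (hMv ▸ hw ▸ Nat.le_of_dvd Nat.card_pos (Subgroup.card_dvd_of_le inf_le_left))
    have h := card_modEq hr hxr hxM
    rw [← hMZ, hMv, hw] at h
    obtain ⟨j, hj⟩ := period hr hrp' (by omega : 0 < 2 * n) hrd hrprim hwv h
    refine ⟨v, w, hMv, hw, ?_⟩
    rcases j with _ | _ | j
    · left; omega
    · right; omega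
    · exfalso
      have : 2 * n * 2 ≤ 2 * n * (j + 1 + 1) := Nat.mul_le_mul_left _ (by omega)
      omega
  have hZU : Z ≤ A.U := inf_le_left
  have hxZ : ∀ z ∈ Z, x * z = z * x := fun z hz => (A.mem_cU.1 hz).2.eq.symm
  have hZn : Nat.card Z = p ^ n := by
    obtain ⟨v, w, hv, hw, hvw⟩ := step A.U le_rfl (A.H_le_normalizer_U hx)
    rw [inf_eq_right.2 hZU] at hw
    rw [A.card_U, ← pow_mul] at hv
    have hv' := Nat.pow_right_injective A.hp.two_le hv
    rcases hvw with h | h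
    · refine absurd (Subgroup.eq_of_le_of_card_ge hZU ?_) (A.cU_ne_U hx hx1)
      rw [hw, A.card_U, ← pow_mul, hv', h]
    · rw [hw, show w = n by omega]
  -- the Frattini subgroup lies in `Z`
  set F := (frattini A.U).map A.U.subtype with hF
  have hFU : F ≤ A.U := Subgroup.map_subtype_le _
  have hFn : Subgroup.normalizer (A.U : Set G) ≤ Subgroup.normalizer (F : Set G) := by
    intro y hy
    rw [Subgroup.mem_normalizer_iff_map_conj_eq]
    have hchar : (frattini A.U).map (A.U.normalizerMonoidHom ⟨y, hy⟩).toMonoidHom = frattini A.U :=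
      Subgroup.characteristic_iff_map_eq.1 frattini_characteristic _
    conv_rhs => rw [hF, ← hchar]
    rw [hF, Subgroup.map_map, Subgroup.map_map]
    rfl
  have hFZ : F ≤ Z := by
    obtain ⟨v, w, hv, hw, hvw⟩ := step F hFU (hFn (A.H_le_normalizer_U hx))
    rcases hvw with h | h
    · have := Subgroup.eq_of_le_of_card_ge (inf_le_left : F ⊓ Z ≤ F) (by rw [hv, hw, h])
      exact inf_eq_left.1 this
    exfalso
    haveI : (frattini A.U).Normal := inferInstance
    have hsup : Z.subgroupOf A.U ⊔ frattini A.U = ⊤ := by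
      refine Subgroup.eq_top_of_le_card _ ?_
      have e1 := Subgroup.relIndex_mul_relIndex ⊥ (frattini A.U) (Z.subgroupOf A.U ⊔ frattini A.U)
        bot_le le_sup_right
      rw [Subgroup.relIndex_sup_right, Subgroup.relIndex_bot_left, Subgroup.relIndex_bot_left] at e1
      have e2 := Subgroup.relIndex_mul_relIndex ⊥ (Z.subgroupOf A.U ⊓ frattini A.U) (Z.subgroupOf A.U)
        bot_le inf_le_left
      rw [Subgroup.inf_relIndex_left, Subgroup.relIndex_bot_left, Subgroup.relIndex_bot_left] at e2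
      have c1 : Nat.card (frattini A.U) = p ^ v := by
        rw [← hv, hF, Subgroup.card_map_of_injective A.U.subtype_injective]
      have c2 : Nat.card ↥(Z.subgroupOf A.U) = p ^ n := by
        rw [Nat.card_congr (Subgroup.subgroupOfEquivOfLe hZU).toEquiv, hZn]
      have c3 : Nat.card ↥(Z.subgroupOf A.U ⊓ frattini A.U) = p ^ w := by
        rw [← hw, ← Subgroup.card_map_of_injective A.U.subtype_injective,
          Subgroup.map_inf _ _ _ A.U.subtype_injective, Subgroup.map_subgroupOf_eq_of_le hZU, inf_comm]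
      rw [c1] at e1
      rw [c2, c3] at e2
      rw [← e1]
      apply le_of_eq
      apply Nat.eq_of_mul_eq_mul_left (pow_pos A.hp.pos w)
      rw [mul_left_comm, e2, A.card_U, ← pow_add, ← pow_mul, ← pow_add]
      congr 1
      omega
    refine A.cU_ne_U hx hx1 (le_antisymm hZU ?_)
    exact Subgroup.subgroupOf_eq_top.1 (frattini_nongenerating hsup)
  have hcomm : ∀ u ∈ A.U, ∀ w ∈ A.U, ⁅u, w⁆ ∈ Z := fun u hu w hw => hFZ
    ⟨⁅(⟨u, hu⟩ : A.U), ⟨w, hw⟩⁆, SolvStruct.commutator_le_frattini _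
      (Subgroup.commutator_mem_commutator (Subgroup.mem_top _) (Subgroup.mem_top _)), rfl⟩
  -- a prime acting without fixed points on `Z`
  have hdivn : 3 ≤ n → ∀ M : Subgroup G, M ≤ A.U → A.H ≤ Subgroup.normalizer (M : Set G) →
      ∀ v : ℕ, Nat.card M = p ^ v → n ∣ v := by
    intro h3 M hM hHM v hv
    obtain ⟨t, ht, htd, htprim⟩ := LEZsig.zsigmondy p n A.hp.one_lt (by omega)
      (fun h => A.hp2 h.1) (fun h => by omega)
    have hp1 : 2 ∣ p - 1 := by
      obtain ⟨k, hk⟩ := A.hp.odd_of_ne_two A.hp2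
      omega
    have htp : t ≠ p := by
      rintro rfl
      have h1 : t ∣ t ^ n := dvd_pow_self t (by omega)
      have h2 := Nat.dvd_sub h1 htd
      rw [Nat.sub_sub_self (Nat.one_le_pow _ _ ht.pos)] at h2
      exact absurd (Nat.le_of_dvd one_pos h2) (Nat.not_le.2 ht.one_lt)
    have ht2 : t ≠ 2 := by
      rintro rfl
      exact htprim 1 one_pos (by omega) (by simpa using hp1)
    have ht3 : t ≠ 3 := by
      rintro rfl
      refine htprim 2 (by norm_num) (by omega) ?_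
      have := A.hp.two_le
      rcases (show p % 3 = 1 ∨ p % 3 = 2 from by
        have : ¬ 3 ∣ p := fun h => htp ((Nat.prime_dvd_prime_iff_eq Nat.prime_three A.hp).1 h)
        omega) with h | h <;>
      · have : (p ^ 2) % 3 = 1 := by rw [Nat.pow_mod, h]
        omega
    obtain ⟨y, hy, hyt⟩ := A.exists_orderOf ht ht3
      (htd.trans (by simpa using Nat.sub_dvd_pow_sub_pow (p ^ n) 1 2))
    have hbot := A.free_split hy ht ht2 htd hyt
    have h := card_modEq ht hyt (hHM hy)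
    rw [show M ⊓ Subgroup.centralizer {y} = ⊥ from le_bot_iff.1 (hbot ▸ inf_le_inf_right _ hM),
      Subgroup.card_bot, hv, ← pow_zero p] at h
    exact period ht (fun h => htp ((Nat.prime_dvd_prime_iff_eq ht A.hp).1 h)) (by omega) htd htprim
      (Nat.zero_le v) h
  -- `Z` is abelian
  have hZab : ∀ z ∈ Z, ∀ z' ∈ Z, Commute z z' := by
    rcases Nat.lt_or_ge n 3 with hn3 | hn3
    · intro z hz z' hz'
      exact congrArg Subtype.val (IsPGroup.commutative_of_card_eq_prime_sq (p := p) (G := Z)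
        (by rw [hZn, show n = 2 by omega]) ⟨z, hz⟩ ⟨z', hz'⟩)
    set C := (Subgroup.center Z).map Z.subtype with hC
    have hCU : C ≤ A.U := (Subgroup.map_subtype_le _).trans hZU
    obtain ⟨v, -, hv⟩ := A.exists_card hCU
    have hCn : A.H ≤ Subgroup.normalizer (C : Set G) := by
      intro y hy
      rw [Subgroup.mem_normalizer_iff_map_conj_eq]
      have hchar : (Subgroup.center Z).map
          (Z.normalizerMonoidHom ⟨y, A.H_le_normalizer_cU hx hy⟩).toMonoidHom = Subgroup.center Z :=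
        Subgroup.characteristic_iff_map_eq.1 Subgroup.centerCharacteristic _
      conv_rhs => rw [hC, ← hchar]
      rw [hC, Subgroup.map_map, Subgroup.map_map]
      rfl
    obtain ⟨j, hj⟩ := hdivn hn3 C hCU hCn v hv
    haveI : Nontrivial Z := by
      rw [← Finite.one_lt_card_iff_nontrivial, hZn]
      exact Nat.one_lt_pow (by omega) A.hp.one_lt
    haveI := IsPGroup.center_nontrivial (A.isPGroup.to_le hZU)
    have hC1 : 1 < Nat.card C := by
      rw [hC, Subgroup.card_map_of_injective Z.subtype_injective, Finite.one_lt_card_iff_nontrivial]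
      infer_instance
    have hCZ : C = Z := by
      refine Subgroup.eq_of_le_of_card_ge (Subgroup.map_subtype_le _) ?_
      rw [hv, hZn]
      refine Nat.pow_le_pow_right A.hp.pos ?_
      rcases j with _ | j
      · rw [hv, hj, mul_zero, pow_zero] at hC1; omega
      · rw [hj, mul_add, mul_one]; omega
    intro z hz z' hz'
    obtain ⟨c, hc, rfl⟩ := hCZ.ge hz
    exact (congrArg Subtype.val (Subgroup.mem_center_iff.1 hc ⟨z', hz'⟩)).symm
  -- `Z` is central
  have hcentral : ∀ z ∈ Z, ∀ u ∈ A.U, Commute z u := by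
    set L := A.U ⊓ Subgroup.centralizer (Z : Set G) with hL
    have hZL : Z ≤ L := fun z hz => ⟨hZU hz,
      Subgroup.mem_centralizer_iff.2 fun z' hz' => (hZab z' hz' z hz).eq⟩
    have hUL : A.U ≤ Subgroup.normalizer (L : Set G) := by
      have key : ∀ u ∈ A.U, ∀ l ∈ L, u * l * u⁻¹ ∈ L := fun u hu l hl => by
        rw [show u * l * u⁻¹ = ⁅u, l⁆ * l by rw [commutatorElement_def]; group]
        exact mul_mem (hZL (hcomm u hu l hl.1)) hl
      exact fun u hu => Subgroup.mem_normalizer_iff.2 fun l => ⟨key u hu l, fun h => by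
        simpa [mul_assoc] using key u⁻¹ (inv_mem hu) _ h⟩
    have hxL : x ∈ Subgroup.normalizer (L : Set G) :=
      Subgroup.inf_normalizer_le_normalizer_inf ⟨A.H_le_normalizer_U hx,
        normalizer_centralizer Z (A.H_le_normalizer_cU hx hx)⟩
    intro z hz u hu
    have hdiff : x * u * x⁻¹ * u⁻¹ ∈ L := by
      have h1 : u⁻¹ * (x * u * x⁻¹) ∈ L := by
        refine ⟨A.U.mul_mem (A.U.inv_mem hu) (A.H_norm x hx u hu), Subgroup.mem_centralizer_iff.2 fun z hz => ?_⟩
        have hw := hcomm u hu z (hZU hz)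
        set w := ⁅u, z⁆ with hwdef
        have e1 : x * u * x⁻¹ * z * (x * u * x⁻¹)⁻¹ = u * z * u⁻¹ := by
          calc x * u * x⁻¹ * z * (x * u * x⁻¹)⁻¹ = x * u * (x⁻¹ * (z * x)) * u⁻¹ * x⁻¹ := by group
            _ = x * (u * z * u⁻¹ * z⁻¹) * (z * x⁻¹) := by rw [← hxZ z hz]; group
            _ = x * w * (z * x⁻¹) := by rw [hwdef, commutatorElement_def]
            _ = w * (x * z) * x⁻¹ := by rw [hxZ w hw]; group
            _ = w * z := by rw [hxZ z hz]; group
            _ = u * z * u⁻¹ := by rw [hwdef, commutatorElement_def]; group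
        calc z * (u⁻¹ * (x * u * x⁻¹)) = u⁻¹ * (u * z * u⁻¹) * (x * u * x⁻¹) := by group
          _ = u⁻¹ * (x * u * x⁻¹) * z := by rw [← e1]; group
      have := (Subgroup.mem_normalizer_iff.1 (hUL hu) _).1 h1
      rwa [show u * (u⁻¹ * (x * u * x⁻¹)) * u⁻¹ = x * u * x⁻¹ * u⁻¹ by group] at this
    obtain ⟨c, hcU, hcx, hc⟩ := exists_fix_coset hr hxr inf_le_left hUL (A.H_le_normalizer_U hx) hxL
      (A.not_dvd hr hrp le_rfl) hu hdiff
    have huL : u ∈ L := by
      have := mul_mem (hZL (A.mem_cU.2 ⟨hcU, hcx⟩)) (inv_mem hc)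
      rwa [mul_inv_rev, inv_inv, mul_inv_cancel_left] at this
    exact Subgroup.mem_centralizer_iff.1 huL.2 z hz
  refine ⟨Z, hZU, hZn, hcentral, A.H_le_normalizer_cU hx, hcomm, fun h hh hh1 => ?_⟩
  obtain ⟨v, w, hv, hw, hvw⟩ := step (A.cU h) inf_le_left (A.H_le_normalizer_cU hh hx)
  rcases A.cU_exponent hh hh1 hv with hv0 | ⟨hvn, s, hs, hvs⟩
  · exact Or.inl (Subgroup.card_eq_one.1 (by rw [hv, hv0, pow_zero]))
  have hvw' : v = w := hvw.resolve_right (by omega)
  have hle : A.cU h ≤ Z := inf_eq_left.1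
    (Subgroup.eq_of_le_of_card_ge (inf_le_left : A.cU h ⊓ Z ≤ _) (by rw [hv, hw, hvw']))
  refine Or.inr (Subgroup.eq_of_le_of_card_ge hle ?_)
  rw [hv, hZn]
  refine Nat.pow_le_pow_right A.hp.pos ?_
  rcases Nat.lt_or_ge n 3 with hn3 | hn3
  · -- `6` is not an odd multiple of `1`
    obtain ⟨i, rfl⟩ := hs
    have hn2 : n = 2 := by omega
    rw [hn2] at hvs hvn ⊢
    interval_cases v <;> omega
  · obtain ⟨j, hj⟩ := hdivn hn3 (A.cU h) inf_le_left (A.H_le_normalizer_cU hh) v hv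
    rcases j with _ | j
    · rw [hj, mul_zero, zero_mul] at hvs; omega
    · rw [hj, mul_add, mul_one]; omega

theorem exists_centre_one (h1 : n = 1) : ∃ Z, A.IsCentre Z := by
  subst h1
  haveI : Fact p.Prime := ⟨A.hp⟩
  haveI := A.H_cyclic
  obtain ⟨g, hg⟩ := IsCyclic.exists_ofOrder_eq_natCard (α := A.H)
  set w : G := ((g ^ (p - 1) : A.H) : G) with hw
  have hwH : w ∈ A.H := SetLike.coe_mem _
  have hp3 := A.three_le
  have hcH := A.card_H
  rw [pow_one] at hcH
  have hcard : (p - 1) * (p + 1) = p ^ 2 - 1 := by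
    rw [mul_comm, ← Nat.sq_sub_sq, one_pow]
  have hndvd : ¬ Nat.card A.H ∣ p - 1 := by
    intro h
    have := Nat.le_of_dvd (by omega) h
    have h3 : Nat.gcd 3 (p + 1) ≤ 3 := Nat.le_of_dvd three_pos (Nat.gcd_dvd_left _ _)
    have h4 : (p - 1) * (p + 1) ≤ (p - 1) * 3 := by
      rw [hcard, ← hcH, mul_comm (p - 1) 3]
      exact Nat.mul_le_mul h3 this
    have := Nat.le_of_mul_le_mul_left h4 (by omega)
    omega
  have hw1 : w ≠ 1 := fun h => hndvd (by
    rw [← hg, orderOf_dvd_iff_pow_eq_one]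
    exact Subtype.ext h)
  -- invariant subgroups of order `p`
  have key : ∀ M : Subgroup G, M ≤ A.U → A.H ≤ Subgroup.normalizer (M : Set G) → Nat.card M = p →
      M = A.cU w := by
    intro M hM hHM hMc
    haveI : IsCyclic M := isCyclic_of_prime_card hMc
    have hpow : (M.normalizerMonoidHom ⟨g, hHM g.2⟩) ^ (p - 1) = 1 := by
      have hc : Nat.card (MulAut M) = p - 1 := by
        rw [IsCyclic.card_mulAut, hMc, Nat.totient_prime A.hp]
      rw [← hc]
      exact pow_card_eq_one'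
    rw [← map_pow] at hpow
    have hle : M ≤ A.cU w := fun m hm => A.mem_cU.2 ⟨hM hm, by
      have h := congrArg Subtype.val (DFunLike.congr_fun hpow ⟨m, hm⟩)
      rw [MulAut.one_apply] at h
      change w * m * w⁻¹ = m at h
      exact (mul_inv_eq_iff_eq_mul.1 h).symm⟩
    obtain ⟨k, -, hk⟩ := A.exists_card (show A.cU w ≤ A.U from inf_le_left)
    refine Subgroup.eq_of_le_of_card_ge hle ?_
    show Nat.card (A.cU w) ≤ Nat.card M
    rw [hk, hMc]
    rcases A.cU_exponent hwH hw1 hk with h | ⟨h, -⟩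
    · rw [h, pow_zero]; omega
    · exact le_of_le_of_eq (Nat.pow_le_pow_right A.hp.pos h) (pow_one p)
  have horder : ∀ h ∈ A.H, h ≠ 1 → A.cU h ≠ ⊥ → Nat.card (A.cU h) = p := by
    intro h hh hh1 hne
    obtain ⟨k, -, hk⟩ := A.exists_card (show A.cU h ≤ A.U from inf_le_left)
    rcases A.cU_exponent hh hh1 hk with h0 | ⟨hk1, -, -, -⟩
    · exact absurd (Subgroup.card_eq_one.1 (by rw [hk, h0, pow_zero])) hne
    · rcases Nat.le_one_iff_eq_zero_or_eq_one.1 hk1 with h0 | h0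
      · exact absurd (Subgroup.card_eq_one.1 (by rw [hk, h0, pow_zero])) hne
      · rw [hk, h0, pow_one]
  -- some element has fixed points
  obtain ⟨x, hx, hx1, hxne⟩ : ∃ x ∈ A.H, x ≠ 1 ∧ A.cU x ≠ ⊥ := by
    by_contra hno
    push Not at hno
    have h1 := card_dvd_sub_one A.H_le_normalizer_U fun h hh hh1 m hm hc =>
      Subgroup.mem_bot.1 (hno h hh hh1 ▸ A.mem_cU.2 ⟨hm, hc⟩)
    rw [A.card_U, pow_one] at h1
    have h2 : Nat.card A.H ∣ p ^ 2 - 1 := ⟨_, (hcH.symm.trans (mul_comm _ _))⟩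
    refine hndvd ?_
    have h3 := Nat.dvd_gcd h1 h2
    rwa [Nat.pow_sub_one_gcd_pow_sub_one, show Nat.gcd 3 2 = 1 by norm_num, pow_one] at h3
  set Z := A.cU w with hZ
  have hxZ : A.cU x = Z := key _ inf_le_left (A.H_le_normalizer_cU hx) (horder x hx hx1 hxne)
  have hZc : Nat.card Z = p := hxZ ▸ horder x hx hx1 hxne
  -- the centre
  set C := (Subgroup.center A.U).map A.U.subtype with hC
  have hCn : A.H ≤ Subgroup.normalizer (C : Set G) := by
    intro y hy
    rw [Subgroup.mem_normalizer_iff_map_conj_eq]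
    have hchar : (Subgroup.center A.U).map
        (A.U.normalizerMonoidHom ⟨y, A.H_le_normalizer_U hy⟩).toMonoidHom = Subgroup.center A.U :=
      Subgroup.characteristic_iff_map_eq.1 Subgroup.centerCharacteristic _
    conv_rhs => rw [hC, ← hchar]
    rw [hC, Subgroup.map_map, Subgroup.map_map]
    rfl
  have hmem : ∀ z ∈ C, ∀ u ∈ A.U, Commute z u := by
    rintro _ ⟨c, hc, rfl⟩ u hu
    exact (congrArg Subtype.val (Subgroup.mem_center_iff.1 hc ⟨u, hu⟩)).symm
  have hfin : (∀ z ∈ Z, ∀ u ∈ A.U, Commute z u) ∧ ∀ u ∈ A.U, ∀ v ∈ A.U, ⁅u, v⁆ ∈ Z := by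
    have hCd : Nat.card C = Nat.card (Subgroup.center A.U) :=
      Subgroup.card_map_of_injective A.U.subtype_injective
    obtain ⟨k, hk3, hk⟩ := A.exists_card (Subgroup.map_subtype_le _ : C ≤ A.U)
    by_cases hall : ∀ u ∈ A.U, ∀ v ∈ A.U, Commute u v
    · exact ⟨fun z hz u hu => hall z (A.mem_cU.1 hz).1 u hu, fun u hu v hv => by
        rw [commutatorElement_eq_one_iff_commute.2 (hall u hu v hv)]; exact one_mem _⟩
    push Not at hall
    obtain ⟨u₀, hu₀, v₀, hv₀, huv⟩ := hall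
    haveI : Nontrivial A.U := ⟨⟨u₀, hu₀⟩, 1, fun e => huv (by
      rw [show u₀ = 1 from congrArg Subtype.val e]; exact Commute.one_left _)⟩
    haveI := IsPGroup.center_nontrivial A.isPGroup
    have hk1 : k = 1 := by
      have h1 : 1 < Nat.card C := hCd ▸ Finite.one_lt_card
      rw [hk] at h1 hCd
      have hk0 : k ≠ 0 := fun h => by rw [h] at h1; exact absurd h1 (by norm_num)
      by_contra hkne
      apply huv
      -- the quotient by the centre would be cyclic
      have hq : Nat.card (A.U ⧸ Subgroup.center A.U) ∣ p := by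
        have h := Subgroup.card_eq_card_quotient_mul_card_subgroup (Subgroup.center A.U)
        rw [A.card_U, pow_one, ← hCd] at h
        refine Nat.dvd_of_mul_dvd_mul_right (pow_pos A.hp.pos k) (m := Nat.card _) ?_
        rw [← h, ← pow_succ']
        exact pow_dvd_pow p (by omega)
      haveI : IsCyclic (A.U ⧸ Subgroup.center A.U) := by
        rcases (Nat.dvd_prime A.hp).1 hq with h | h
        · haveI : Subsingleton (A.U ⧸ Subgroup.center A.U) := (Nat.card_eq_one_iff_unique.1 h).1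
          infer_instance
        · exact isCyclic_of_prime_card h
      exact congrArg Subtype.val (commutative_of_cyclic_center_quotient
        (QuotientGroup.mk' (Subgroup.center A.U)) (by rw [QuotientGroup.ker_mk'])
        (⟨u₀, hu₀⟩ : A.U) ⟨v₀, hv₀⟩)
    have hCZ : C = Z := key C (Subgroup.map_subtype_le _) hCn (by rw [hk, hk1, pow_one])
    refine ⟨fun z hz => hmem z (hCZ.ge hz), fun u hu v hv => ?_⟩
    haveI : IsMulCommutative (A.U ⧸ Subgroup.center A.U) := by
      refine ⟨⟨IsPGroup.commutative_of_card_eq_prime_sq (p := p) ?_⟩⟩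
      have h := Subgroup.card_eq_card_quotient_mul_card_subgroup (Subgroup.center A.U)
      rw [A.card_U, pow_one, ← hCd, hk, hk1, pow_one] at h
      exact Nat.eq_of_mul_eq_mul_right A.hp.pos (h.symm.trans (pow_succ p 2))
    refine hCZ ▸ ⟨⁅(⟨u, hu⟩ : A.U), ⟨v, hv⟩⁆, (QuotientGroup.eq_one_iff _).1 ?_, rfl⟩
    rw [← QuotientGroup.mk'_apply, map_commutatorElement, commutatorElement_eq_one_iff_commute]
    exact mul_comm' _ _
  refine ⟨Z, inf_le_left, by rw [hZc, pow_one], hfin.1, A.H_le_normalizer_cU hwH, hfin.2, fun h hh hh1 => ?_⟩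
  by_cases hne : A.cU h = ⊥
  · exact Or.inl hne
  · exact Or.inr (key _ inf_le_left (A.H_le_normalizer_cU hh) (horder h hh hh1 hne))

theorem exists_centre : ∃ Z, A.IsCentre Z :=
  (eq_or_lt_of_le A.hn).elim (fun h => A.exists_centre_one h.symm) fun h => A.exists_centre_large h

/-- The involution of `H` centralises `Z`, and the group theory of part 1 is complete. -/
theorem exists_pre_of : Nonempty (Pre G Ω p n) := by
  haveI : Fact p.Prime := ⟨A.hp⟩
  obtain ⟨Z, hZU, hZn, hcentral, hHZ, hcomm, hdich⟩ := A.exists_centre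
  haveI := A.H_cyclic
  haveI : Fact (Nat.Prime 2) := ⟨Nat.prime_two⟩
  have hodd : Odd (p ^ n) := (A.hp.odd_of_ne_two A.hp2).pow
  have he : Odd (Nat.gcd 3 (p ^ n + 1)) := by
    rcases A.gcd_cases with h | h <;> rw [h] <;> decide
  have heven : 2 ∣ Nat.card A.H := by
    have h2 : 2 ∣ (p ^ n) ^ 2 - 1 := by
      obtain ⟨k, hk⟩ := hodd.pow (n := 2)
      omega
    rw [← A.card_H] at h2
    exact ((Nat.coprime_two_left.2 he).dvd_of_dvd_mul_left h2)
  set v := (Nat.card A.H).factorization 2 with hv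
  have hvd : 2 ^ v ∣ Nat.card A.H := Nat.ordProj_dvd _ _
  have hv1 : 1 ≤ v := Nat.prime_two.factorization_pos_of_dvd Nat.card_pos.ne' heven
  obtain ⟨g₀, hg₀⟩ := IsCyclic.exists_ofOrder_eq_natCard (α := A.H)
  set g : G := ((g₀ ^ (Nat.card A.H / 2 ^ v) : A.H) : G) with hg
  have hgH : g ∈ A.H := SetLike.coe_mem _
  have hgo : orderOf g = 2 ^ v := by
    rw [hg, Subgroup.orderOf_coe, orderOf_pow, hg₀, Nat.gcd_eq_right (Nat.div_dvd_of_dvd hvd),
      Nat.div_div_self hvd Nat.card_pos.ne']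
  set j := g ^ 2 ^ (v - 1) with hj
  have hjH : j ∈ A.H := pow_mem hgH _
  have hjo : orderOf j = 2 := by
    rw [hj, orderOf_pow' _ (pow_ne_zero _ two_ne_zero), hgo,
      Nat.gcd_eq_right (pow_dvd_pow 2 (Nat.sub_le v 1)), Nat.pow_div (Nat.sub_le v 1) two_pos,
      Nat.sub_sub_self hv1, pow_one]
  have hj1 : j ≠ 1 := fun h => by rw [h, orderOf_one] at hjo; omega
  have hjZ : A.cU j = Z := by
    refine (hdich j hjH hj1).resolve_left fun hbot => ?_
    have hle : Subgroup.zpowers g ≤ Subgroup.normalizer (Z : Set G) := (Subgroup.zpowers_le.2 hgH).trans hHZ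
    have hdiv := card_dvd_sub_one hle fun y hy hy1 m hm hc => by
      -- `j` is a power of `y`
      have hyH : y ∈ A.H := Subgroup.zpowers_le.2 hgH hy
      obtain ⟨i, -, hi⟩ := (Nat.dvd_prime_pow Nat.prime_two).1
        (show orderOf y ∣ 2 ^ v by
          have h := Subgroup.orderOf_dvd_natCard _ hy
          rwa [Nat.card_zpowers, hgo] at h)
      have hi1 : 1 ≤ i := by
        rcases Nat.eq_zero_or_pos i with h | h
        · exact absurd (orderOf_eq_one_iff.1 (by rw [hi, h, pow_zero])) hy1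
        · exact h
      have ho : orderOf (y ^ 2 ^ (i - 1)) = 2 := by
        rw [orderOf_pow' _ (pow_ne_zero _ two_ne_zero), hi,
          Nat.gcd_eq_right (pow_dvd_pow 2 (Nat.sub_le i 1)), Nat.pow_div (Nat.sub_le i 1) two_pos,
          Nat.sub_sub_self hi1, pow_one]
      have hjy : j ∈ Subgroup.zpowers (y ^ 2 ^ (i - 1)) :=
        (A.zpowers_eq hjH (pow_mem hyH _) (ho.trans hjo.symm)).ge (Subgroup.mem_zpowers j)
      obtain ⟨k, hk⟩ := Subgroup.mem_zpowers_iff.1 hjy
      exact Subgroup.mem_bot.1 (hbot ▸ A.mem_cU.2 ⟨hZU hm, hk ▸ (hc.pow_right _).zpow_right k⟩)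
    rw [Nat.card_zpowers, hgo, hZn] at hdiv
    have h1 : 2 ^ (v + 1) ∣ (p ^ n) ^ 2 - 1 := by
      rw [show (p ^ n) ^ 2 - 1 = (p ^ n - 1) * (p ^ n + 1) by
        rw [mul_comm, ← Nat.sq_sub_sq, one_pow], pow_succ]
      exact mul_dvd_mul hdiv (by obtain ⟨k, hk⟩ := hodd; omega)
    rw [← A.card_H] at h1
    have h2 := (Nat.Coprime.pow_left (v + 1) (Nat.coprime_two_left.2 he)).dvd_of_dvd_mul_left h1
    exact Nat.pow_succ_factorization_not_dvd Nat.card_pos.ne' Nat.prime_two h2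
  refine ⟨⟨A.a, A.b, A.U, A.H, Z, j, A.hp, A.hp2, A.hn, A.simple, A.faithful, A.two, A.ne,
    A.card_points, A.U_le, A.U_reg, A.H_iff, A.H_norm, A.H_cyclic, A.card_H, hZU, hZn, hcentral,
    fun h hh z hz => (Subgroup.mem_normalizer_iff.1 (hHZ hh) z).1 hz, hjH, hjo, ?_, ?_, ?_, ?_, ?_, ?_⟩⟩
  · intro x hx
    rw [← hjZ, A.mem_cU]
    exact ⟨fun h => ⟨hx, h.symm⟩, fun h => h.2.symm⟩
  · intro x hx
    have hx' := A.H_norm j hjH x hx
    have hj2 : j * j = 1 := by rw [← pow_two, ← hjo]; exact pow_orderOf_eq_one j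
    set y := j * x * j⁻¹ * x with hy
    have hjy : j * y * j⁻¹ = x * (j * x * j⁻¹) := by
      rw [hy]
      calc j * (j * x * j⁻¹ * x) * j⁻¹ = (j * j) * x * (j * j)⁻¹ * (j * x * j⁻¹) := by group
        _ = x * (j * x * j⁻¹) := by rw [hj2]; group
    have hdiff : j * y * j⁻¹ * y⁻¹ ∈ Z := by
      rw [hjy, show x * (j * x * j⁻¹) * y⁻¹ = ⁅x, j * x * j⁻¹⁆ by rw [hy, commutatorElement_def]; group]
      exact hcomm _ hx _ hx'
    have hUZ : A.U ≤ Subgroup.normalizer (Z : Set G) := fun u hu => Subgroup.mem_normalizer_iff.2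
      fun z => ⟨fun hz => by rw [← (hcentral z hz u hu).eq, mul_inv_cancel_right]; exact hz,
        fun hz => by
          have h := hcentral _ hz u hu
          have hzU : z = u * z * u⁻¹ := by
            calc z = u⁻¹ * ((u * z * u⁻¹) * u) := by group
              _ = _ := by rw [h.eq]; group
          rw [hzU]; exact hz⟩
    obtain ⟨c, hcU, hcj, hc⟩ := exists_fix_coset Nat.prime_two hjo hZU hUZ (A.H_le_normalizer_U hjH)
      (hHZ hjH) (A.not_dvd Nat.prime_two A.hp2.symm le_rfl) (mul_mem hx' hx) hdiff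
    have := mul_mem (hjZ.le (A.mem_cU.2 ⟨hcU, hcj⟩)) (inv_mem hc)
    rwa [mul_inv_rev, inv_inv, mul_inv_cancel_left] at this
  · exact fun x hx y hy => by simpa [commutatorElement_def] using hcomm x hx y hy
  · intro h hh hh1 x hx hc
    rcases hdich h hh hh1 with e | e
    · have := e ▸ A.mem_cU.2 ⟨hx, hc.symm⟩
      rw [Subgroup.mem_bot.1 this]; exact one_mem Z
    · exact e ▸ A.mem_cU.2 ⟨hx, hc.symm⟩
  · intro h hh z hz hz1 hc z' hz'
    rcases eq_or_ne h 1 with rfl | hh1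
    · exact Commute.one_left _
    have hmem := A.mem_cU.2 ⟨hZU hz, hc.symm⟩
    rcases hdich h hh hh1 with e | e
    · rw [e, Subgroup.mem_bot] at hmem; exact absurd hmem hz1
    · exact ((A.mem_cU.1 (e.ge hz')).2).symm
  · rintro h hh ⟨z, hz, hz1, hc⟩ t hta htb
    have hne : A.cU h ≠ ⊥ := fun e => hz1 (Subgroup.mem_bot.1 (e ▸ A.mem_cU.2 ⟨hZU hz, hc.symm⟩))
    obtain ⟨c, hch, hca, hcb⟩ := A.exists_swap_comm hh hne
    exact A.swap_commute hh hch hca hcb hta htb

end Act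

/-- Part 1: the interface `Pre`. -/
theorem exists_pre {G : Type u} [Group G] [Finite G] [IsSimpleGroup G]
    (P : Cfsg.BNPair G) (h1 : P.rank = 1) {p n : ℕ} (hp : p.Prime) (hp2 : p ≠ 2) (hn : 1 ≤ n)
    (U : Subgroup G) (hUB : U ≤ P.B) (hUn : ∀ b ∈ P.B, ∀ u ∈ U, b * u * b⁻¹ ∈ U)
    (_hUnil : Group.IsNilpotent U) (hsplit : U ⊔ (P.B ⊓ P.N) = P.B)
    (_hdisj : U ⊓ (P.B ⊓ P.N) = ⊥)
    (hind : P.B.index = p ^ (3 * n) + 1) (hU : Nat.card U = p ^ (3 * n))
    (hHc : IsCyclic ↥(P.B ⊓ P.N))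
    (hH : Nat.gcd 3 (p ^ n + 1) * Nat.card ↥(P.B ⊓ P.N) = p ^ (2 * n) - 1) :
    Nonempty (Pre G (G ⧸ P.B) p n) := by
  obtain ⟨A, -, -⟩ := exists_act P h1 hp hp2 hn U hUB hUn hsplit hind hU hHc hH
  exact A.exists_pre_of

end Cfsg.Agent.ONanU3
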