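import Cfsg.Agent.Lib.ONanU3.Recog
import Cfsg.Agent.Lib.ONanU3.Structure

/-!
# From a frame to `PSU₃(q)`
-/

set_option autoImplicit false
set_option linter.style.haveILetI false

namespace Cfsg.Agent.ONanU3

universe u v

variable {G : Type u} {Ω : Type v} [Group G] [MulAction G Ω]

/-- A group with a frame over a field with `p ^ n` elements is `PSU₃(p ^ n)`. -/
theorem psu_of_frame {p n : ℕ} (hp : p.Prime) (hn : 1 ≤ n) {k : Type} [Field k] [Fintype k]
    (hk : Fintype.card k = p ^ n) (Fr : Frame G Ω k) :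
    ∃ (F : Type) (_ : Field F) (_ : Fintype F), Fintype.card F = (p ^ n) ^ 2 ∧
      Nonempty (G ≃* Cfsg.PSU 3 F (p ^ n)) := by
  haveI : Fact p.Prime := ⟨hp⟩
  letI : Fintype (GaloisField p (n * 2)) := Fintype.ofFinite _
  have hc : Fintype.card (GaloisField p (n * 2)) = (p ^ n) ^ 2 := by
    rw [← Nat.card_eq_fintype_card, GaloisField.card p (n * 2) (by omega), pow_mul]
  obtain ⟨C⟩ := PSU3Index.exists_ctx hc
  obtain ⟨K⟩ := Fr.exists_coords C (by rw [Nat.card_eq_fintype_card, hk])
  exact ⟨_, inferInstance, inferInstance, hc, K.recog⟩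

end Cfsg.Agent.ONanU3
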