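import Cfsg.Agent.Lib.ONanU3.Field

/-!
# The structure map is the unitary one
-/

set_option autoImplicit false
set_option linter.style.haveILetI false
set_option linter.unusedSectionVars false

namespace Cfsg.Agent.ONanU3

open MulAction Matrix PSU3Index

universe u v w

variable {G : Type u} {Ω : Type v} [Group G] [MulAction G Ω] {k : Type} [Field k]
variable {F : Type w} [Field F] [Fintype F] {q : ℕ}

namespace Frame

variable (Fr : Frame G Ω k)

theorem X_zero : Fr.X 0 = 1 := by rw [X, dif_neg (by simp)]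

theorem X_mem' (v : k × k) : Fr.X v ∈ Fr.U := by
  by_cases hv : v = 0
  · rw [hv, X_zero]; exact one_mem _
  · exact Fr.X_mem hv

theorem Inv_X (v : k × k) : Fr.Inv (Fr.X v) := by
  by_cases hv : v = 0
  · rw [hv, X_zero, Inv, mul_one, mul_inv_cancel, inv_one]
  · obtain ⟨m, -, -, -, h⟩ := Fr.X_spec hv
    exact h

/-- The commutator pairing of two rows. -/
noncomputable def com (x y : k × k) : k := (Fr.comm_mod _ (Fr.X_mem' x) _ (Fr.X_mem' y)).choose

theorem com_spec (x y : k × k) : Fr.X x * Fr.X y * (Fr.X x)⁻¹ * (Fr.X y)⁻¹ = Fr.z (Fr.com x y) :=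
  (Fr.comm_mod _ (Fr.X_mem' x) _ (Fr.X_mem' y)).choose_spec

theorem com_anti (x y : k × k) : Fr.com y x = -Fr.com x y := Fr.z_inj (by
  rw [z_neg, ← com_spec, ← com_spec]; group)

/-- The pairing read off from a product of inverted elements. -/
theorem com_of_mul {f g W : k × k} {m : k} (h : (Fr.X f)⁻¹ * Fr.X W = Fr.z m * (Fr.X g)⁻¹) :
    Fr.com f g = 2 * m := by
  have hc := fun r (v : k × k) => Fr.z_comm r (Fr.X_mem' v)
  have hz := fun r (v : k × k) => Fr.z_comm r (inv_mem (Fr.X_mem' v))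
  have e1 : Fr.X W = Fr.X f * Fr.z m * (Fr.X g)⁻¹ := by rw [mul_assoc, ← h, mul_inv_cancel_left]
  have e2 := Fr.Inv_X W
  rw [Inv, e1] at e2
  have hJ : Fr.J * (Fr.X f * Fr.z m * (Fr.X g)⁻¹) * Fr.J⁻¹ =
      (Fr.J * Fr.X f * Fr.J⁻¹) * (Fr.J * Fr.z m * Fr.J⁻¹) * (Fr.J * Fr.X g * Fr.J⁻¹)⁻¹ := by group
  rw [hJ, Fr.Inv_X f, Fr.Inv_X g, J_z, inv_inv, _root_.mul_inv_rev, _root_.mul_inv_rev, inv_inv,
    ← z_neg, hz (-m) f] at e2
  have e3 : Fr.X f * Fr.X g * (Fr.X f)⁻¹ * (Fr.X g)⁻¹ = Fr.z (m + m) := by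
    have e4 : Fr.X g * (Fr.X f)⁻¹ = (Fr.X f)⁻¹ * Fr.X g * Fr.z (m + m) := by
      calc Fr.X g * (Fr.X f)⁻¹ = Fr.X g * ((Fr.X f)⁻¹ * Fr.z (-m)) * Fr.z m := by rw [z_neg]; group
        _ = (Fr.X f)⁻¹ * Fr.z m * Fr.X g * Fr.z m := by rw [← e2]
        _ = _ := by rw [z_add, mul_assoc (Fr.X f)⁻¹, hc]; simp only [mul_assoc]
    calc Fr.X f * Fr.X g * (Fr.X f)⁻¹ * (Fr.X g)⁻¹
        = Fr.X f * (Fr.X g * (Fr.X f)⁻¹) * (Fr.X g)⁻¹ := by simp only [mul_assoc]
      _ = Fr.X g * Fr.z (m + m) * (Fr.X g)⁻¹ := by rw [e4]; group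
      _ = _ := by rw [← hc (m + m) g, mul_inv_cancel_right]
  rw [com_spec] at e3
  rw [Fr.z_inj e3, two_mul]

end Frame

namespace Coords

variable {Fr : Frame G Ω k} {C : Ctx F q} (K : Coords Fr C)

theorem io_zero : K.io 0 = 0 := by
  have := K.io_smul 0 0
  simpa using this

theorem io_neg (v : k × k) : K.io (-v) = -K.io v := by
  rw [← neg_one_smul k v, K.io_smul, map_neg, map_one, neg_one_mul]

theorem io_sub (v w : k × k) : K.io (v - w) = K.io v - K.io w := by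
  rw [sub_eq_add_neg, K.io_add, io_neg, ← sub_eq_add_neg]

theorem io_ne {v : k × k} (hv : v ≠ 0) : K.io v ≠ 0 := fun h => hv (K.io.injective (h.trans K.io_zero.symm))

theorem symm_ne {f : F} (hf : f ≠ 0) : K.io.symm f ≠ 0 := fun h => hf (by
  rw [← K.io.apply_symm_apply f, h, io_zero])

/-- The real part of the section. -/
noncomputable def tau (f : F) : F := ip C.σ (K.io (Fr.u (K.io.symm f))) f

theorem tau_real (f : F) : C.σ (K.tau f) = K.tau f := by
  simp only [tau, ip, map_div₀, map_add, map_mul, map_ofNat, C.hinv]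
  ring

theorem io_u {v : k × k} (hv : v ≠ 0) : K.io (Fr.u v) = sec C.σ K.ω K.tau (K.io v) := by
  have h := K.dt_io (Fr.u v) v
  rw [Fr.dt_u hv, map_one] at h
  have h2 := K.two
  have hω := K.ω_ne
  have hv0 := K.io_ne hv
  have hs : C.σ (K.io v) ≠ 0 := (map_ne_zero C.σ).2 hv0
  rw [sec, tau, Equiv.symm_apply_apply]
  simp only [dt, ip, nm] at h ⊢
  rw [div_eq_one_iff_eq (mul_ne_zero h2 hω)] at h
  field_simp
  linear_combination h

theorem io_refl (x : k × k) {y : k × k} (hy : y ≠ 0) :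
    K.io (Fr.refl x y) = refl C.σ K.ω K.tau (K.io x) (K.io y) := by
  rw [Frame.refl, io_sub, K.io_smul, map_ofNat, K.io_u hy]
  rfl

theorem io_third {x y : k × k} (h : dt2 x y = 1) :
    K.io (Fr.third x y) = third C.σ K.ω K.tau (K.io x) (K.io y) := by
  have hy : y ≠ 0 := fun e => by simp [dt2, e] at h
  rw [Frame.third, K.io_add, K.io_smul, map_ofNat, K.io_u (Fr.refl_ne h), K.io_refl x hy]
  rfl

theorem exists_pre {f v : F} (h : dt C.σ K.ω f v = 1) :
    ∃ x y, f = K.io x ∧ v = K.io y ∧ dt2 x y = 1 := by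
  refine ⟨K.io.symm f, K.io.symm v, by simp, by simp, K.em.injective ?_⟩
  rw [← K.dt_io, map_one]
  simpa using h

theorem gamma_third {x y : k × k} (h : dt2 x y = 1) {d : Fr.H} (hd : Fr.R d (Fr.third x y) = x) :
    (K.γ d : F) * K.io (Fr.third x y) = K.io x ∧
      nm C.σ (K.io (Fr.third x y)) = K.em (Fr.χ d : k) * nm C.σ (K.io x) := by
  have hx : x ≠ 0 := fun e => by simp [dt2, e] at h
  have h3 : Fr.third x y ≠ 0 := fun e => hx (by
    rw [← hd, e]
    simp [Frame.R, rowMul])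
  have e := K.γ_R d _ h3
  rw [hd] at e
  refine ⟨e.symm, ?_⟩
  rw [e, show nm C.σ ((K.γ d : F) * K.io (Fr.third x y)) = nm C.σ (K.γ d : F) * nm C.σ (K.io (Fr.third x y)) by
    simp only [nm, map_mul]; ring, ← mul_assoc, mul_comm (K.em _), K.γ_norm, one_mul]

/-- The identities of the structure map. -/
noncomputable def eqs [Fintype k] : UnitaryEqs C.σ where
  ω := K.ω
  τ := K.tau
  β f g := K.em (Fr.com (K.io.symm f) (K.io.symm g))
  Γ := K.γ.range
  two := K.two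
  hinv := C.hinv
  hω := K.hω
  hω0 := K.ω_ne
  hτ v _ := K.tau_real v
  real_mem := K.real_mem
  exists_nonreal := by
    obtain ⟨h, hh⟩ := K.exists_nonreal
    exact ⟨_, ⟨h, rfl⟩, hh⟩
  τ_smul := by
    rintro γ ⟨h, rfl⟩ f hf
    have hv := K.symm_ne hf
    obtain ⟨v, rfl⟩ := K.io.surjective f
    rw [Equiv.symm_apply_apply] at hv
    rw [← K.γ_R h v hv]
    simp only [tau, Equiv.symm_apply_apply]
    rw [(Fr.X_R h hv).2, K.io_smul, K.γ_R h v hv]
    have hu : Fr.u v ≠ 0 := fun e => by simpa [e, dt2] using Fr.dt_u hv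
    rw [K.γ_R h _ hu]
    have e := K.γ_norm h
    simp only [ip, nm, map_mul, K.em_fixed] at e ⊢
    linear_combination ((K.io (Fr.u v) * C.σ (K.io v) + C.σ (K.io (Fr.u v)) * K.io v) / 2) * e
  index := K.index
  char_three := K.char_three
  β_anti f g _ := by rw [Fr.com_anti, map_neg]
  r1 := by
    intro f v h
    obtain ⟨x, y, rfl, rfl, hxy⟩ := K.exists_pre h
    obtain ⟨d, hd, -⟩ := Fr.exists_step hxy
    refine ⟨(K.γ d)⁻¹, inv_mem ⟨d, rfl⟩, ?_⟩
    rw [← K.io_third hxy, ← (K.gamma_third hxy hd).1, ← mul_assoc, Units.inv_mul, one_mul]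
  r2 := by
    intro f v h
    obtain ⟨x, y, rfl, rfl, hxy⟩ := K.exists_pre h
    obtain ⟨d, hd, hI, -⟩ := Fr.exists_step hxy
    have hx : x ≠ 0 := fun e => by simp [dt2, e] at hxy
    have hy : y ≠ 0 := fun e => by simp [dt2, e] at hxy
    obtain ⟨e1, e2⟩ := K.gamma_third hxy hd
    have h3 : Fr.third x y ≠ 0 := fun e => K.io_ne hx (by rw [← e1, e, io_zero, mul_zero])
    rw [← K.io_third hxy, ← K.io_refl x hy, ← K.io_u h3, ← K.io_u hx, K.dt_io, K.dt_io, e2]
    have := congrArg K.em hI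
    rw [map_mul, map_neg] at this
    linear_combination (nm C.σ (K.io x)) * this
  r3 := by
    intro f v s h hs hs0
    obtain ⟨x, y, rfl, rfl, hxy⟩ := K.exists_pre h
    obtain ⟨s, rfl⟩ := K.em_surj s hs
    have hs' : s ≠ 0 := fun e => hs0 (by rw [e, map_zero])
    have hx : x ≠ 0 := fun e => by simp [dt2, e] at hxy
    have hy : y ≠ 0 := fun e => by simp [dt2, e] at hxy
    obtain ⟨d, hd, -, hg⟩ := Fr.exists_step hxy
    obtain ⟨hne, hprod⟩ := hg s hs' _ rfl
    have hg0 : x + s • y ≠ 0 := fun e => by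
      have : dt2 (x + s • y) y = 1 := by
        rw [← hxy]
        simp only [dt2, Prod.fst_add, Prod.snd_add, Prod.smul_fst, Prod.smul_snd, smul_eq_mul]
        ring
      simp [dt2, e] at this
    have hW0 : Fr.third x y - s⁻¹ • Fr.refl x y ≠ 0 := fun e => by
      have e1 := congrArg (fun w => dt2 (Fr.refl x y) w) e
      have e2 := Fr.dt_refl hxy
      have e3 := Fr.dt_u (Fr.refl_ne hxy)
      simp only [Frame.third, dt2, Prod.fst_sub, Prod.snd_sub, Prod.fst_add, Prod.snd_add, Prod.smul_fst,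
        Prod.smul_snd, smul_eq_mul, Prod.fst_zero, Prod.snd_zero, mul_zero, sub_zero] at e1 e2 e3
      exact one_ne_zero (α := k) (by linear_combination -e1 + e2 - 2 * e3)
    rw [(Fr.X_neg hg0).1, (Fr.X_neg hx).1] at hprod
    have hm := Fr.com_of_mul (f := x) (g := x + s • y) (W := Fr.R d (Fr.third x y - s⁻¹ • Fr.refl x y))
      (m := dt2 y (Fr.u (x + s • y)) - dt2 y (Fr.u x) -
        (Fr.χ d : k) * dt2 (Fr.refl x y) (Fr.u (Fr.third x y - s⁻¹ • Fr.refl x y))) (by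
      refine mul_left_cancel (a := Fr.z (dt2 y (Fr.u x) +
        (Fr.χ d : k) * dt2 (Fr.refl x y) (Fr.u (Fr.third x y - s⁻¹ • Fr.refl x y)))) ?_
      rw [← mul_assoc _ (Fr.z _), ← Fr.z_add]
      rw [show dt2 y (Fr.u x) + (Fr.χ d : k) * dt2 (Fr.refl x y) (Fr.u (Fr.third x y - s⁻¹ • Fr.refl x y)) +
        (dt2 y (Fr.u (x + s • y)) - dt2 y (Fr.u x) -
          (Fr.χ d : k) * dt2 (Fr.refl x y) (Fr.u (Fr.third x y - s⁻¹ • Fr.refl x y))) = dt2 y (Fr.u (x + s • y))
        by ring, hprod, Fr.z_add]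
      simp only [mul_assoc]
      rw [← mul_assoc (Fr.z _) (Fr.X x)⁻¹, Fr.z_comm _ (inv_mem (Fr.X_mem hx)), mul_assoc])
    have e : K.io x + K.em s * K.io y = K.io (x + s • y) := by rw [K.io_add, K.io_smul]
    obtain ⟨-, e2⟩ := K.gamma_third hxy hd
    simp only [← K.io_third hxy, ← K.io_refl x hy, e, Equiv.symm_apply_apply, ← K.io_u hg0, ← K.io_u hx]
    rw [show K.io (Fr.third x y) - K.io (Fr.refl x y) / K.em s = K.io (Fr.third x y - s⁻¹ • Fr.refl x y) by
      rw [io_sub, K.io_smul, map_inv₀, div_eq_inv_mul], ← K.io_u hW0, K.dt_io, K.dt_io, K.dt_io, e2,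
      mul_div_assoc, div_self (UnitaryEqs.nm_ne (σ := C.σ) (K.io_ne hx)), mul_one, hm]
    simp only [map_sub, map_mul, map_ofNat]
  r4 := by
    intro f v s h hs hs0 he
    obtain ⟨x, y, rfl, rfl, hxy⟩ := K.exists_pre h
    obtain ⟨s, rfl⟩ := K.em_surj s hs
    have hs' : s ≠ 0 := fun e => hs0 (by rw [e, map_zero])
    have hx : x ≠ 0 := fun e => by simp [dt2, e] at hxy
    have hy : y ≠ 0 := fun e => by simp [dt2, e] at hxy
    obtain ⟨d, hd, -, hg⟩ := Fr.exists_step hxy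
    obtain ⟨hne, -⟩ := hg s hs' _ rfl
    obtain ⟨e1, -⟩ := K.gamma_third hxy hd
    have h3 : K.io (Fr.third x y) ≠ 0 := fun e => K.io_ne hx (by rw [← e1, e, mul_zero])
    rw [← K.io_third hxy, ← K.io_refl x hy, ← K.io_smul, ← K.io_add,
      show K.io (Fr.third x y) - K.io (Fr.refl x y) / K.em s = K.io (Fr.third x y - s⁻¹ • Fr.refl x y) by
        rw [io_sub, K.io_smul, map_inv₀, div_eq_inv_mul]] at he
    by_cases hW0 : Fr.third x y - s⁻¹ • Fr.refl x y = 0
    · rw [hW0, io_zero, mul_zero, neg_mul, eq_comm, neg_eq_zero, mul_eq_zero] at he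
      refine hne (K.io.injective ?_)
      rw [hW0, show Fr.R d (0 : k × k) = 0 by simp [Frame.R, rowMul], io_neg, io_zero, he.resolve_right h3, neg_zero]
    refine hne (K.io.injective ?_)
    rw [K.γ_R d _ hW0, io_neg]
    refine mul_right_cancel₀ h3 ?_
    rw [← he, ← e1]
    ring

variable [Fintype k]

/-- The section is the unitary one. -/
theorem u_eq {v : k × k} (hv : v ≠ 0) : K.io (Fr.u v) = K.ω * K.io v / nm C.σ (K.io v) := by
  obtain ⟨c, hc, h3, hτ⟩ := K.eqs.exists_const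
  obtain rfl := K.eqs.const_eq_zero hc hτ h3
  rw [K.io_u hv, sec, show K.tau (K.io v) = 0 from hτ _ (K.io_ne hv), add_zero]

/-- The pairing is the unitary one. -/
theorem com_eq {x y : k × k} (h : dt2 x y ≠ 0) : K.em (Fr.com x y) =
    4 * K.ω ^ 2 * K.em (dt2 x y) / (nm C.σ (K.io x) * nm C.σ (K.io y)) := by
  obtain ⟨c, hc, h3, hτ⟩ := K.eqs.exists_const
  have hd : dt C.σ K.eqs.ω (K.io x) (K.io y) ≠ 0 := by
    show dt C.σ K.ω _ _ ≠ 0
    rw [K.dt_io]
    exact (map_ne_zero K.em).2 h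
  have e := K.eqs.β_eq hc hτ (K.eqs.const_eq_zero hc hτ h3) hd
  simp only [eqs, Equiv.symm_apply_apply, K.dt_io] at e
  exact e

end Coords

end Cfsg.Agent.ONanU3
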