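import Cfsg.Agent.Lib.ONanU3.Sl2
import Mathlib.Algebra.Group.Commute.Basic
import Mathlib.Tactic.Group

/-!
# The points off the fixed points of the central involution as matrices
-/

set_option autoImplicit false
set_option linter.style.haveILetI false
set_option linter.unusedSectionVars false

namespace Cfsg.Agent.ONanU3

open MulAction Matrix

universe u v

variable {G : Type u} {Ω : Type v} [Group G] [MulAction G Ω] {k : Type} [Field k]

local notation "SL" => SpecialLinearGroup (Fin 2) k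

namespace Frame

variable (Fr : Frame G Ω k)

/-- The central involution. -/
def J : G := Fr.φ (-1)

/-- The exchanging element. -/
def t : G := Fr.φ wS

/-- The central elements. -/
def z (s : k) : G := Fr.φ (zS s)

theorem z_add (s r : k) : Fr.z (s + r) = Fr.z s * Fr.z r := by rw [z, zS_add, map_mul]; rfl

theorem z_zero : Fr.z 0 = 1 := by rw [z, zS_zero, map_one]

theorem z_neg (s : k) : Fr.z (-s) = (Fr.z s)⁻¹ :=
  eq_inv_of_mul_eq_one_left (by rw [← z_add, neg_add_cancel, z_zero])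

theorem z_b (s : k) (x : G) : Fr.z s • x • Fr.b = (Fr.z s * x) • Fr.b := (mul_smul _ _ _).symm

theorem J_sq : Fr.J * Fr.J = 1 := by rw [J, ← map_mul]; simp

theorem J_inv : Fr.J⁻¹ = Fr.J := inv_eq_of_mul_eq_one_right Fr.J_sq

theorem J_phi (m : SL) : Fr.J * Fr.φ m = Fr.φ m * Fr.J := by rw [J, ← map_mul, ← map_mul, neg_one_comm]

theorem J_a : Fr.J • Fr.a = Fr.a := (Fr.fix_iff _).2 (Or.inl rfl)

theorem J_b : Fr.J • Fr.b = Fr.b := (Fr.fix_iff _).2 (Or.inr ⟨0, by rw [zS_zero, map_one, one_smul]⟩)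

theorem J_mem : Fr.J ∈ Fr.H := (Fr.H_iff _).2 ⟨Fr.J_a, Fr.J_b⟩

theorem t_sq : Fr.t * Fr.t = Fr.J := by rw [t, ← map_mul, wS_sq]; rfl

theorem t_inv_b : Fr.t⁻¹ • Fr.b = Fr.a := inv_smul_eq_iff.2 Fr.w_a.symm

theorem t_inv_a : Fr.t⁻¹ • Fr.a = Fr.b := inv_smul_eq_iff.2 Fr.w_b.symm

theorem H_comm {g h : G} (hg : g ∈ Fr.H) (hh : h ∈ Fr.H) : Commute g h := by
  haveI := Fr.H_cyclic
  letI := IsCyclic.commGroup (α := Fr.H)
  exact congrArg Subtype.val (mul_comm (⟨g, hg⟩ : Fr.H) ⟨h, hh⟩)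

theorem J_H (h : Fr.H) : Fr.J * (h : G) = h * Fr.J := Fr.H_comm Fr.J_mem h.2

theorem H_a (h : Fr.H) : (h : G) • Fr.a = Fr.a := ((Fr.H_iff _).1 h.2).1

theorem H_b (h : Fr.H) : (h : G) • Fr.b = Fr.b := ((Fr.H_iff _).1 h.2).2

theorem U_eq {x y : G} (hx : x ∈ Fr.U) (hy : y ∈ Fr.U) (h : x • Fr.b = y • Fr.b) : x = y :=
  congrArg Subtype.val ((Fr.U_reg _ (fun e => Fr.ne (by
    rw [← inv_smul_smul x Fr.b, e, inv_smul_eq_iff.2 (Fr.U_le x hx).symm]))).unique (y₁ := ⟨x, hx⟩) (y₂ := ⟨y, hy⟩)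
      rfl h.symm)

theorem phi_inj : Function.Injective Fr.φ := by
  intro m m' h
  have hm : Fr.φ (-1) • Fr.φ m • Fr.p₀ ≠ Fr.φ m • Fr.p₀ := fun e => Fr.p₀_free (by
    rwa [← mul_smul, ← map_mul, neg_one_comm, map_mul, mul_smul, smul_left_cancel_iff] at e)
  exact (Fr.reg _ hm).unique rfl (by rw [h])

theorem z_inj {s r : k} (h : Fr.z s = Fr.z r) : s = r := by
  have e := congrArg top (Fr.phi_inj h)
  simpa [top, zS_val] using congrArg Prod.snd e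

/-- The point of a matrix. -/
def pt (m : SL) : Ω := Fr.φ m • Fr.p₀

theorem pt_free (m : SL) : Fr.J • Fr.pt m ≠ Fr.pt m := fun e => Fr.p₀_free (by
  rw [pt, J, ← mul_smul, ← map_mul, neg_one_comm, map_mul, mul_smul, smul_left_cancel_iff] at e
  exact e)

theorem pt_inj {m m' : SL} (h : Fr.pt m = Fr.pt m') : m = m' := (Fr.reg _ (Fr.pt_free m)).unique rfl h.symm

theorem pt_ne (m : SL) : Fr.pt m ≠ Fr.a := fun e => Fr.pt_free m (by rw [e]; exact Fr.J_a)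

theorem phi_pt (g m : SL) : Fr.φ g • Fr.pt m = Fr.pt (g * m) := by rw [pt, pt, ← mul_smul, ← map_mul]

/-- The element of `U` over a matrix. -/
noncomputable def elem (m : SL) : G := ((Fr.U_reg _ (Fr.pt_ne m)).exists.choose : G)

theorem elem_mem (m : SL) : Fr.elem m ∈ Fr.U := (Fr.U_reg _ (Fr.pt_ne m)).exists.choose.2

theorem elem_b (m : SL) : Fr.elem m • Fr.b = Fr.pt m := (Fr.U_reg _ (Fr.pt_ne m)).exists.choose_spec

theorem elem_eq {m : SL} {x : G} (hx : x ∈ Fr.U) (h : x • Fr.b = Fr.pt m) : Fr.elem m = x :=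
  Fr.U_eq (Fr.elem_mem m) hx ((Fr.elem_b m).trans h.symm)

theorem elem_inj {m m' : SL} (h : Fr.elem m = Fr.elem m') : m = m' :=
  Fr.pt_inj (by rw [← elem_b, h, elem_b])

theorem elem_not_z (m : SL) (s : k) : Fr.elem m ≠ Fr.z s := fun e => Fr.pt_free m (by
  rw [← elem_b, e]
  exact (Fr.fix_iff _).2 (Or.inr ⟨s, rfl⟩))

theorem elem_ne_one (m : SL) : Fr.elem m ≠ 1 := fun e => Fr.elem_not_z m 0 (by rw [z_zero, e])

theorem exists_elem {x : G} (hx : x ∈ Fr.U) : (∃ s, x = Fr.z s) ∨ ∃ m, x = Fr.elem m := by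
  by_cases h : Fr.J • x • Fr.b = x • Fr.b
  · rcases (Fr.fix_iff _).1 h with e | ⟨s, hs⟩
    · exfalso
      exact Fr.ne (by rw [← inv_smul_smul x Fr.b, e, inv_smul_eq_iff.2 (Fr.U_le x hx).symm])
    · exact Or.inl ⟨s, Fr.U_eq hx (Fr.z_mem s) hs.symm⟩
  · obtain ⟨m, hm, -⟩ := Fr.reg _ h
    exact Or.inr ⟨m, (Fr.elem_eq hx hm.symm).symm⟩

theorem elem_zS (s : k) (m : SL) : Fr.elem (zS s * m) = Fr.z s * Fr.elem m :=
  Fr.elem_eq (mul_mem (Fr.z_mem s) (Fr.elem_mem m)) (by rw [mul_smul, elem_b, z, phi_pt])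

theorem J_U {x : G} (hx : x ∈ Fr.U) : Fr.J * x * Fr.J⁻¹ ∈ Fr.U := Fr.H_norm _ Fr.J_mem x hx

theorem elem_neg (m : SL) : Fr.elem ((-1 : SL) * m) = Fr.J * Fr.elem m * Fr.J⁻¹ :=
  Fr.elem_eq (Fr.J_U (Fr.elem_mem m)) (by
    rw [mul_smul, mul_smul, inv_smul_eq_iff.2 Fr.J_b.symm, elem_b, J, phi_pt])

theorem J_z (s : k) : Fr.J * Fr.z s * Fr.J⁻¹ = Fr.z s := by rw [z, J_phi, mul_inv_cancel_right]

theorem z_comm (s : k) {x : G} (hx : x ∈ Fr.U) : Fr.z s * x = x * Fr.z s := Fr.z_central s x hx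

/-- Inverted by the central involution. -/
def Inv (x : G) : Prop := Fr.J * x * Fr.J⁻¹ = x⁻¹

theorem inv_elem_unique {m m' : SL} (h : bot m = bot m') (hi : Fr.Inv (Fr.elem m)) (hi' : Fr.Inv (Fr.elem m')) :
    Fr.elem m = Fr.elem m' := by
  set s := dt2 (top m) (top m')
  have e : zS s * m = m' := by
    have h1 := dt2_top_bot m
    have h2 := dt2_top_bot m'
    rw [← h] at h2
    refine rows_ext ?_ ((zS_mul_rows s m).2.trans h)
    rw [(zS_mul_rows s m).1]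
    simp only [s, dt2, Prod.ext_iff, Prod.fst_add, Prod.snd_add, Prod.smul_fst, Prod.smul_snd, smul_eq_mul] at *
    constructor
    · linear_combination (top m').1 * h1 - (top m).1 * h2
    · linear_combination (top m').2 * h1 - (top m).2 * h2
  rw [← e, elem_zS] at hi'
  have h0 : Fr.z s * Fr.z s = 1 := by
    have h3 : Fr.z s * (Fr.elem m)⁻¹ = (Fr.elem m)⁻¹ * (Fr.z s)⁻¹ := by
      rw [← show Fr.J * (Fr.z s * Fr.elem m) * Fr.J⁻¹ = Fr.z s * (Fr.elem m)⁻¹ by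
        rw [← hi]
        calc Fr.J * (Fr.z s * Fr.elem m) * Fr.J⁻¹ = (Fr.J * Fr.z s * Fr.J⁻¹) * (Fr.J * Fr.elem m * Fr.J⁻¹) := by group
          _ = _ := by rw [J_z], hi', _root_.mul_inv_rev]
    rw [Fr.z_comm s (inv_mem (Fr.elem_mem m)), mul_right_inj] at h3
    exact mul_eq_one_iff_eq_inv.2 h3
  rw [← z_add, ← z_zero Fr] at h0
  have hs : s = 0 := by
    have := Fr.z_inj h0
    exact (mul_eq_zero.1 (show (2 : k) * s = 0 by linear_combination this)).resolve_left Fr.two_ne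
  rw [← e, hs, zS_zero, one_mul]

theorem exists_X (v : k × k) (hv : v ≠ 0) : ∃ m : SL, bot m = v ∧ Fr.Inv (Fr.elem m) := by
  obtain ⟨m₀, hm₀⟩ : ∃ m : SL, bot m = v := by
    by_cases h1 : v.1 = 0
    · have h2 : v.2 ≠ 0 := fun h => hv (Prod.ext h1 h)
      exact ⟨ofRows (v.2⁻¹, 0) v (by simp [dt2, h1, h2]), bot_ofRows _⟩
    · exact ⟨ofRows (0, -v.1⁻¹) v (by simp [dt2, h1]), bot_ofRows _⟩
  obtain ⟨s, hs⟩ := Fr.neg_inv _ (Fr.elem_mem m₀)
  refine ⟨zS (-(s / 2)) * m₀, (zS_mul_rows _ _).2.trans hm₀, ?_⟩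
  have hs' : Fr.J * Fr.elem m₀ * Fr.J⁻¹ * Fr.elem m₀ = Fr.z s := hs
  rw [Inv, elem_zS, eq_inv_iff_mul_eq_one]
  calc Fr.J * (Fr.z (-(s / 2)) * Fr.elem m₀) * Fr.J⁻¹ * (Fr.z (-(s / 2)) * Fr.elem m₀)
      = (Fr.J * Fr.z (-(s / 2)) * Fr.J⁻¹) * (Fr.J * Fr.elem m₀ * Fr.J⁻¹) * (Fr.z (-(s / 2)) * Fr.elem m₀) := by group
    _ = Fr.z (-(s / 2)) * (Fr.J * Fr.elem m₀ * Fr.J⁻¹) * (Fr.z (-(s / 2)) * Fr.elem m₀) := by rw [J_z]
    _ = Fr.z (-(s / 2)) * Fr.z (-(s / 2)) * (Fr.J * Fr.elem m₀ * Fr.J⁻¹ * Fr.elem m₀) := by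
      rw [mul_assoc (Fr.z (-(s / 2))), ← mul_assoc (Fr.J * Fr.elem m₀ * Fr.J⁻¹),
        ← Fr.z_comm _ (Fr.J_U (Fr.elem_mem m₀))]
      simp only [mul_assoc]
    _ = 1 := by
      rw [hs', ← z_add, ← z_add, ← z_zero Fr]
      congr 1
      have := Fr.two_ne
      field_simp
      ring

open Classical in
/-- The first row of the inverted element over a second row. -/
noncomputable def u (v : k × k) : k × k := if hv : v ≠ 0 then top (Fr.exists_X v hv).choose else 0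

open Classical in
/-- The inverted element over a second row. -/
noncomputable def X (v : k × k) : G := if hv : v ≠ 0 then Fr.elem (Fr.exists_X v hv).choose else 1

theorem X_spec {v : k × k} (hv : v ≠ 0) :
    ∃ m : SL, top m = Fr.u v ∧ bot m = v ∧ Fr.elem m = Fr.X v ∧ Fr.Inv (Fr.X v) := by
  obtain ⟨h1, h2⟩ := (Fr.exists_X v hv).choose_spec
  exact ⟨_, by rw [u, dif_pos hv], h1, by rw [X, dif_pos hv], by rw [X, dif_pos hv]; exact h2⟩

theorem dt_u {v : k × k} (hv : v ≠ 0) : dt2 (Fr.u v) v = 1 := by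
  obtain ⟨m, ht, hb, -⟩ := Fr.X_spec hv
  rw [← ht, ← hb, dt2_top_bot]

theorem X_unique {m : SL} (hi : Fr.Inv (Fr.elem m)) : Fr.X (bot m) = Fr.elem m ∧ Fr.u (bot m) = top m := by
  obtain ⟨m', ht, hb, he, hi'⟩ := Fr.X_spec (bot_ne m)
  rw [← he] at hi'
  have := Fr.inv_elem_unique hb hi' hi
  exact ⟨he.symm.trans this, by rw [← ht, Fr.elem_inj this]⟩

/-- The coordinates of an element over a matrix. -/
theorem elem_decomp (m : SL) : Fr.elem m = Fr.z (dt2 (Fr.u (bot m)) (top m)) * Fr.X (bot m) := by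
  obtain ⟨m', ht, hb, he, -⟩ := Fr.X_spec (bot_ne m)
  rw [← he, ← elem_zS]
  congr 1
  refine rows_ext ?_ ((zS_mul_rows _ _).2.trans hb).symm
  rw [(zS_mul_rows _ _).1, hb, ← ht]
  have h1 := dt2_top_bot m
  have h2 : dt2 (top m') (bot m) = 1 := hb ▸ dt2_top_bot m'
  simp only [dt2, Prod.ext_iff, Prod.fst_add, Prod.snd_add, Prod.smul_fst, Prod.smul_snd, smul_eq_mul] at *
  constructor
  · linear_combination -(top m).1 * h2 + (top m').1 * h1
  · linear_combination -(top m).2 * h2 + (top m').2 * h1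

theorem X_mem {v : k × k} (hv : v ≠ 0) : Fr.X v ∈ Fr.U := by
  obtain ⟨m, -, -, he, -⟩ := Fr.X_spec hv
  exact he ▸ Fr.elem_mem m

theorem X_not_z {v : k × k} (hv : v ≠ 0) (s : k) : Fr.X v ≠ Fr.z s := by
  obtain ⟨m, -, -, he, -⟩ := Fr.X_spec hv
  exact he ▸ Fr.elem_not_z m s

theorem zX_inj {s r : k} {v w : k × k} (hv : v ≠ 0) (hw : w ≠ 0) (h : Fr.z s * Fr.X v = Fr.z r * Fr.X w) :
    s = r ∧ v = w := by
  obtain ⟨m, -, hb, he, hi⟩ := Fr.X_spec hv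
  obtain ⟨m', -, hb', he', hi'⟩ := Fr.X_spec hw
  rw [← he, ← he', ← elem_zS, ← elem_zS] at h
  have e := Fr.elem_inj h
  have hvw : v = w := by rw [← hb, ← hb', ← (zS_mul_rows s m).2, e, (zS_mul_rows r m').2]
  have hm : m = m' := Fr.elem_inj (Fr.inv_elem_unique ((hb.trans hvw).trans hb'.symm) (by rw [he]; exact hi) (by rw [he']; exact hi'))
  rw [hm, mul_left_inj] at e
  exact ⟨Fr.z_inj (congrArg Fr.φ e), hvw⟩

theorem X_neg {v : k × k} (hv : v ≠ 0) : Fr.X (-v) = (Fr.X v)⁻¹ ∧ Fr.u (-v) = -Fr.u v := by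
  obtain ⟨m, ht, hb, he, hi⟩ := Fr.X_spec hv
  have e : Fr.elem ((-1 : SL) * m) = (Fr.X v)⁻¹ := by rw [elem_neg, he]; exact hi
  have := Fr.X_unique (m := (-1 : SL) * m) (by
    rw [Inv, e, inv_inv, show Fr.J * (Fr.X v)⁻¹ * Fr.J⁻¹ = (Fr.J * Fr.X v * Fr.J⁻¹)⁻¹ by group, hi, inv_inv])
  rwa [(neg_mul_rows m).2, hb, (neg_mul_rows m).1, ht, e] at this

end Frame

end Cfsg.Agent.ONanU3
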