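import Cfsg.Agent.Lib.ONanU3.Law
import Cfsg.Agent.Lib.U3Rec.Recog

/-!
# The group is `PSU₃(q)`
-/

set_option autoImplicit false
set_option linter.style.haveILetI false
set_option linter.unusedSectionVars false

namespace Cfsg.Agent.ONanU3

open MulAction Matrix PSU3Index
open SU3Pres (dH)
open U3Rec (opp toPt rho uMk cA cB)

universe u v w

variable {F : Type w} [Field F] [Fintype F] {q : ℕ} (C : Ctx F q)

/-- The torus fixes the second base point. -/
theorem dH_opp (l : Fˣ) : dH C l • opp C = opp C := by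
  rw [opp, smul_smul, smul_base_eq_smul C,
    show (dH C l * wEl C)⁻¹ * wEl C = (wEl C)⁻¹ * (dH C l)⁻¹ * wEl C by group,
    inv_eq_of_mul_eq_one_right (wEl_sq C), ← map_inv, SU3Pres.w_dH_w]
  exact dEl_mem C _

/-- `SU₃(q)` is generated by a root group and a Weyl element. -/
theorem rad_sup_weyl (l : Fˣ) : rad C ⊔ Subgroup.zpowers (dH C l * wEl C) = ⊤ := by
  set S := rad C ⊔ Subgroup.zpowers (dH C l * wEl C)
  set T := dH C l * wEl C with hT
  have hu : ∀ {u}, u ∈ rad C → u ∈ S := fun hu => Subgroup.mem_sup_left hu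
  have hTS : T ∈ S := Subgroup.mem_sup_right (Subgroup.mem_zpowers _)
  have hwinv : (wEl C)⁻¹ = wEl C := inv_eq_of_mul_eq_one_right (wEl_sq C)
  -- conjugates of the root group by `wEl` lie in `S`
  have hwu : ∀ {a b : F} (h : b + C.σ b + a * C.σ a = 0), wEl C * uEl C a b h * wEl C ∈ S := by
    intro a b h
    set u := dH C l * uEl C a b h * (dH C l)⁻¹ with hu'
    have hrad : u ∈ rad C := by rw [hu', SU3Pres.dH_conj]; exact uEl_mem_rad C _
    have e : wEl C * uEl C a b h * wEl C = (T * T)⁻¹ * (T * u * T) := by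
      rw [show (T * T)⁻¹ * (T * u * T) = T⁻¹ * u * T by group, hT, hu', _root_.mul_inv_rev, hwinv]
      group
    rw [e]
    exact mul_mem (inv_mem (mul_mem hTS hTS)) (mul_mem (mul_mem hTS (hu hrad)) hTS)
  have hwd : ∀ x : Fˣ, wEl C * dH C x ∈ S := by
    intro x
    have hf : C.σ (-((x : F) + C.σ (x : F))) = -((x : F) + C.σ (x : F)) := by
      rw [map_neg, map_add, C.hinv, add_comm]
    obtain ⟨a, ha⟩ := Hermitian.exists_norm C.hne C.hinv hf
    have h : (x : F) + C.σ (x : F) + a * C.σ a = 0 := by rw [ha]; ring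
    have e := SU3Pres.w_uEl_w C h x.ne_zero
    rw [Units.mk0_val] at e
    have e' : wEl C * dH C x = (uEl C (-a / (x : F)) (x : F)⁻¹ (SU3Pres.left_eq C h x.ne_zero))⁻¹ *
        (wEl C * uEl C a (x : F) h * wEl C) *
          (uEl C (-a / C.σ (x : F)) (x : F)⁻¹ (SU3Pres.right_eq C h x.ne_zero))⁻¹ := by
      rw [e]; group
    rw [e']
    exact mul_mem (mul_mem (inv_mem (hu (uEl_mem_rad C _))) (hwu h)) (inv_mem (hu (uEl_mem_rad C _)))
  have hw : wEl C ∈ S := by have := hwd 1; rwa [map_one, mul_one] at this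
  refine eq_top_iff.2 ?_
  rw [← U3Rec.rad_sup_w C]
  exact sup_le le_sup_left (Subgroup.zpowers_le.2 hw)

variable {G : Type u} {Ω : Type v} [Group G] [MulAction G Ω] {k : Type} [Field k]

namespace Frame

variable (Fr : Frame G Ω k)

/-- A simple group of this kind is generated by the regular subgroup and the exchanging element. -/
theorem sup_t_eq_top : Fr.U ⊔ Subgroup.zpowers Fr.t = ⊤ := by
  set S := Fr.U ⊔ Subgroup.zpowers Fr.t with hS
  have ht : Fr.t ∈ S := Subgroup.mem_sup_right (Subgroup.mem_zpowers _)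
  have hU : ∀ {x}, x ∈ Fr.U → x ∈ S := fun hx => Subgroup.mem_sup_left hx
  have hphi : ∀ m, Fr.φ m ∈ S := fun m =>
    mem_of_gens (S.comap Fr.φ) (fun s => hU (Fr.z_mem s)) ht m
  -- every element fixing `a` is a product
  have hstab : ∀ g : G, g • Fr.a = Fr.a → ∃ x ∈ Fr.U, x⁻¹ * g ∈ Fr.H := by
    intro g hg
    obtain ⟨x, hx, -⟩ := Fr.U_reg (g • Fr.b) (fun e => Fr.ne (by
      rw [← inv_smul_smul g Fr.b, e, inv_smul_eq_iff.2 hg.symm]))
    refine ⟨x, x.2, (Fr.H_iff _).2 ⟨?_, ?_⟩⟩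
    · rw [mul_smul, hg, inv_smul_eq_iff.2 (Fr.U_le _ x.2).symm]
    · rw [mul_smul, ← hx, inv_smul_smul]
  have hSH : ∀ g : G, ∃ x ∈ S, x⁻¹ * g ∈ Fr.H := by
    intro g
    by_cases hg : g • Fr.a = Fr.a
    · obtain ⟨x, hx, h⟩ := hstab g hg
      exact ⟨x, hU hx, h⟩
    · obtain ⟨u, hu, -⟩ := Fr.U_reg _ hg
      obtain ⟨x, hx, h⟩ := hstab (((u : G) * Fr.t)⁻¹ * g) (by
        rw [mul_smul, inv_smul_eq_iff, mul_smul, show Fr.t • Fr.a = Fr.b from Fr.w_a]; exact hu.symm)
      refine ⟨(u : G) * Fr.t * x, mul_mem (mul_mem (hU u.2) ht) (hU hx), ?_⟩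
      rwa [_root_.mul_inv_rev, mul_assoc]
  have hnorm : ∀ h ∈ Fr.H, ∀ x ∈ S, h * x * h⁻¹ ∈ S := by
    intro h hh x hx
    have hle : S ≤ S.comap (MulAut.conj h).toMonoidHom := sup_le
      (fun x hx => hU (Fr.H_norm h hh x hx)) (Subgroup.zpowers_le.2 (by
        show h * Fr.φ wS * h⁻¹ ∈ S
        rw [Fr.conj_phi ⟨h, hh⟩]
        exact hphi _))
    exact hle hx
  haveI := Fr.simple
  have hn : S.Normal := ⟨fun x hx g => by
    obtain ⟨y, hy, h⟩ := hSH g
    have := mul_mem (mul_mem hy (hnorm _ h x hx)) (inv_mem hy)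
    simpa [mul_assoc] using this⟩
  refine hn.eq_bot_or_eq_top.resolve_left fun h => ?_
  rw [h, Subgroup.mem_bot] at ht
  exact Fr.ne ((show Fr.t • Fr.a = Fr.b from Fr.w_a).symm.trans (by rw [ht, one_smul]))

end Frame

namespace Coords

variable [Fintype k] {C} {Fr : Frame G Ω k} (K : Coords Fr C)

include K in
/-- The recognition theorem. -/
theorem recog : Nonempty (G ≃* Cfsg.PSU 3 F q) := by
  classical
  have h2 := K.two
  have hω := K.ω_ne
  let f : Option ↥Fr.U → Ω := fun o => o.elim Fr.a fun x => (x : G) • Fr.b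
  have hne : ∀ x : Fr.U, (x : G) • Fr.b ≠ Fr.a := fun x h => Fr.ne (by
    rw [← inv_smul_smul (x : G) Fr.b, h, inv_smul_eq_iff.2 (Fr.U_le _ x.2).symm])
  have hf : Function.Bijective f := by
    refine ⟨?_, fun c => ?_⟩
    · rintro (- | x) (- | y) h
      · rfl
      · exact absurd h.symm (hne y)
      · exact absurd h (hne x)
      · exact congrArg some (Subtype.ext (Fr.U_eq x.2 y.2 h))
    · by_cases hc : c = Fr.a
      · exact ⟨none, hc.symm⟩
      · obtain ⟨x, hx, -⟩ := Fr.U_reg c hc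
        exact ⟨some x, hx⟩
  let E : Ω ≃ Pt C := (Equiv.ofBijective f hf).symm.trans
    (K.equiv.symm.toEquiv.optionCongr.trans (Equiv.ofBijective _ (U3Rec.toPt_bijective C)))
  have hE : ∀ u : rad C, E ((K.equiv u : G) • Fr.b) = (u : ↥(Cfsg.SU 3 F q)) • opp C := fun u => by
    have : (Equiv.ofBijective f hf).symm ((K.equiv u : G) • Fr.b) = some (K.equiv u) :=
      (Equiv.symm_apply_eq _).2 rfl
    show toPt C (K.equiv.symm.toEquiv.optionCongr ((Equiv.ofBijective f hf).symm _)) = _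
    rw [this]
    show toPt C (some (K.equiv.symm (K.equiv u))) = _
    rw [MulEquiv.symm_apply_apply]
    rfl
  have hEa : E Fr.a = base C := by
    have : (Equiv.ofBijective f hf).symm Fr.a = none := (Equiv.symm_apply_eq _).2 rfl
    show toPt C (K.equiv.symm.toEquiv.optionCongr ((Equiv.ofBijective f hf).symm _)) = _
    rw [this]
    rfl
  have hEb : E Fr.b = opp C := by simpa using hE 1
  haveI := Fr.faithful
  let R : G →* Equiv.Perm (Pt C) := E.permCongrHom.toMonoidHom.comp (MulAction.toPermHom G Ω)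
  have hR : ∀ g c, R g (E c) = E (g • c) := fun g c => by
    simp [R, Equiv.permCongrHom, Equiv.permCongr_apply]
  have hRinj : Function.Injective R :=
    E.permCongrHom.injective.comp MulAction.toPerm_injective
  have hU : ∀ u : rad C, R (K.equiv u : G) = rho C u := fun u => Equiv.ext fun c => by
    obtain ⟨c, rfl⟩ := E.surjective c
    rw [hR]
    by_cases hc : c = Fr.a
    · rw [hc, Fr.U_le _ (K.equiv u).2, hEa]
      exact ((smul_base_eq_iff C).2 u.2.1).symm
    · obtain ⟨y, rfl, -⟩ := Fr.U_reg c hc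
      obtain ⟨y, rfl⟩ := K.equiv.surjective y
      rw [smul_smul, ← Subgroup.coe_mul, ← map_mul, hE, hE, Subgroup.coe_mul, mul_smul]
      rfl
  -- the exchanging element
  set l : Fˣ := Units.mk0 (2 * K.ω)⁻¹ (inv_ne_zero (mul_ne_zero h2 hω)) with hl
  have hlv : (l : F) = (2 * K.ω)⁻¹ := rfl
  have ht : R Fr.t = rho C (dH C l * wEl C) := Equiv.ext fun c => by
    obtain ⟨c, rfl⟩ := E.surjective c
    rw [hR]
    show _ = (dH C l * wEl C) • E c
    by_cases hc : c = Fr.a
    · rw [hc, show Fr.t • Fr.a = Fr.b from Fr.w_a, hEb, hEa, mul_smul, show wEl C • base C = opp C from rfl, dH_opp]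
    obtain ⟨y, rfl, -⟩ := Fr.U_reg c hc
    obtain ⟨u, rfl⟩ := K.equiv.surjective y
    obtain ⟨h, hu⟩ := U3Rec.exists_mk C u
    rw [hE]
    by_cases hb : cB C u = 0
    · have ha : cA C u = 0 := by
        have h' := h
        rw [hb, map_zero, add_zero, zero_add, mul_eq_zero] at h'
        exact h'.elim id (map_eq_zero C.σ).1
      obtain rfl : u = 1 := U3Rec.coord_ext C (by rw [ha, (U3Rec.coord_one C).1]) (by rw [hb, (U3Rec.coord_one C).2])
      rw [map_one, Subgroup.coe_one, Subgroup.coe_one, one_smul, one_smul,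
        show Fr.t • Fr.b = Fr.a from Fr.w_b, hEa, mul_smul, U3Rec.w_opp, (smul_base_eq_iff C).2 (SU3Pres.dH_mem C l)]
    have key : (dH C l * wEl C) • (uEl C (cA C u) (cB C u) h) • opp C =
        uEl C (mu C l * (-cA C u / cB C u)) (nu C l * (cB C u)⁻¹)
          (SU3Pres.conj_eq C (SU3Pres.left_eq C h hb) l.ne_zero) • opp C := by
      rw [mul_smul, U3Rec.w_point C h hb, smul_smul, ← SU3Pres.dH_conj C l (SU3Pres.left_eq C h hb), mul_smul,
        mul_smul, inv_smul_eq_iff.2 (dH_opp C l).symm, ← mul_smul]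
    have e1 : ((K.equiv u : G)) = (K.equiv (uMk C h) : G) := by rw [← hu]
    rw [e1, K.t_equiv h hb (SU3Pres.conj_eq C (SU3Pres.left_eq C h hb) l.ne_zero) ?_ ?_, hE]
    · conv_rhs => rw [show (u : ↥(Cfsg.SU 3 F q)) = uEl C (cA C u) (cB C u) h from congrArg Subtype.val hu]
      exact key.symm
    · rw [mu, hlv, map_inv₀, map_mul, map_ofNat, K.hω]
      field_simp
    · have h4 : (4 : F) ≠ 0 := by rw [show (4 : F) = 2 * 2 by norm_num]; exact mul_ne_zero h2 h2
      rw [nu, hlv, map_inv₀, map_mul, map_ofNat, K.hω]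
      field_simp
      ring
  have hmap : (⊤ : Subgroup G).map R = (rho C).range := by
    rw [← Fr.sup_t_eq_top, MonoidHom.range_eq_map, ← rad_sup_weyl C l, Subgroup.map_sup, Subgroup.map_sup,
      MonoidHom.map_zpowers, MonoidHom.map_zpowers, ht]
    congr 1
    ext p
    simp only [Subgroup.mem_map]
    refine ⟨fun ⟨x, hx, h⟩ => ?_, fun ⟨u, hu, h⟩ => ⟨_, (K.equiv ⟨u, hu⟩).2, (hU ⟨u, hu⟩).trans h⟩⟩
    obtain ⟨u, hu⟩ := K.equiv.surjective ⟨x, hx⟩
    exact ⟨u, u.2, by rw [← hU, hu]; exact h⟩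
  exact ⟨(((Subgroup.topEquiv (G := G)).symm.trans (Subgroup.equivMapOfInjective _ R hRinj)).trans
    (MulEquiv.subgroupCongr hmap)).trans ((QuotientGroup.quotientKerEquivRange (rho C)).symm.trans
      (QuotientGroup.quotientMulEquivOfEq (U3Rec.ker_rho C)))⟩

end Coords

end Cfsg.Agent.ONanU3
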