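import Cfsg.Agent.Lib.ONanU3.Defs

/-!
# Rows of the matrices of `SL₂(k)`
-/

set_option autoImplicit false
set_option linter.style.haveILetI false

namespace Cfsg.Agent.ONanU3

open Matrix

variable {k : Type} [Field k]

local notation "SL" => SpecialLinearGroup (Fin 2) k

/-- The determinant of two rows. -/
def dt2 (x y : k × k) : k := x.1 * y.2 - x.2 * y.1

/-- The first row. -/
def top (m : SL) : k × k := (m.1 0 0, m.1 0 1)

/-- The second row. -/
def bot (m : SL) : k × k := (m.1 1 0, m.1 1 1)

theorem dt2_top_bot (m : SL) : dt2 (top m) (bot m) = 1 := by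
  have h := m.2
  rw [Matrix.det_fin_two] at h
  exact h

theorem bot_ne (m : SL) : bot m ≠ 0 := fun h => by
  simpa [dt2, h] using dt2_top_bot m

theorem rows_ext {m m' : SL} (ht : top m = top m') (hb : bot m = bot m') : m = m' := by
  simp only [top, bot, Prod.mk.injEq] at ht hb
  refine Subtype.ext ?_
  ext i j
  fin_cases i <;> fin_cases j <;> simp [ht, hb]

/-- The matrix with given rows. -/
def ofRows (x y : k × k) (h : dt2 x y = 1) : SL :=
  ⟨!![x.1, x.2; y.1, y.2], by rw [Matrix.det_fin_two_of]; exact h⟩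

theorem top_ofRows {x y : k × k} (h : dt2 x y = 1) : top (ofRows x y h) = x := rfl

theorem bot_ofRows {x y : k × k} (h : dt2 x y = 1) : bot (ofRows x y h) = y := rfl

theorem zS_val (s : k) : (zS s : SL).1 = !![1, s; 0, 1] := rfl

theorem wS_val : (wS : SL).1 = !![0, 1; -1, 0] := rfl

theorem zS_mul_rows (s : k) (m : SL) : top (zS s * m) = top m + s • bot m ∧ bot (zS s * m) = bot m := by
  constructor <;>
    simp [top, bot, zS_val, SpecialLinearGroup.coe_mul, Matrix.mul_apply, Fin.sum_univ_two, Prod.ext_iff]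

theorem wS_mul_rows (m : SL) : top (wS * m) = bot m ∧ bot (wS * m) = -top m := by
  constructor <;> simp [top, bot, wS_val, SpecialLinearGroup.coe_mul, Matrix.mul_apply, Fin.sum_univ_two, Prod.ext_iff]

theorem neg_mul_rows (m : SL) : top ((-1 : SL) * m) = -top m ∧ bot ((-1 : SL) * m) = -bot m := by
  constructor <;> simp [top, bot, Prod.ext_iff]

theorem zS_add (s r : k) : (zS (s + r) : SL) = zS s * zS r := by
  refine rows_ext ?_ ?_ <;> simp [top, bot, zS_val, SpecialLinearGroup.coe_mul, Matrix.mul_apply, Fin.sum_univ_two, add_comm]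

theorem zS_zero : (zS 0 : SL) = 1 := by
  refine rows_ext ?_ ?_ <;> simp [top, bot, zS_val]

theorem wS_sq : (wS : SL) * wS = -1 := by
  refine rows_ext ?_ ?_ <;> simp [top, bot, wS_val, SpecialLinearGroup.coe_mul, Matrix.mul_apply, Fin.sum_univ_two]

theorem neg_one_comm (m : SL) : (-1 : SL) * m = m * -1 := by simp

/-- Every matrix is a product of upper unitriangular matrices and the exchanging element. -/
theorem mem_of_gens (S : Subgroup SL) (hz : ∀ s, (zS s : SL) ∈ S) (hw : (wS : SL) ∈ S) (m : SL) : m ∈ S := by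
  -- lower unitriangular matrices
  have hl : ∀ r : k, (wS * zS (-r) * wS⁻¹ : SL) ∈ S := fun r => mul_mem (mul_mem hw (hz _)) (inv_mem hw)
  have key : ∀ m : SL, m.1 1 0 ≠ 0 → m ∈ S := by
    intro m hm
    have e : m = zS ((m.1 0 0 - 1) / m.1 1 0) * (wS * zS (-m.1 1 0) * wS⁻¹) * zS ((m.1 1 1 - 1) / m.1 1 0) := by
      have h := m.2
      rw [Matrix.det_fin_two] at h
      refine rows_ext ?_ ?_ <;>
        simp [top, bot, zS_val, wS_val, SpecialLinearGroup.coe_mul, Matrix.mul_apply, Fin.sum_univ_two, Matrix.SpecialLinearGroup.coe_inv,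
          Matrix.adjugate_fin_two_of]
      · refine ⟨by field_simp; ring, ?_⟩
        field_simp
        linear_combination -h
      · field_simp
        ring
    rw [e]
    exact mul_mem (mul_mem (hz _) (hl _)) (hz _)
  by_cases hm : m.1 1 0 = 0
  · have h1 : (wS * m : SL).1 1 0 ≠ 0 := by
      have hb := congrArg Prod.fst (wS_mul_rows m).2
      simp only [bot, top, Prod.fst_neg] at hb
      rw [hb, neg_ne_zero]
      intro h0
      simpa [dt2, top, bot, h0, hm] using dt2_top_bot m
    simpa using mul_mem (inv_mem hw) (key _ h1)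
  · exact key m hm

/-- A product `wS * zS s` is a central translation times a lower triangular matrix. -/
theorem wS_zS {s : k} (hs : s ≠ 0) : ∃ l : SL, (wS * zS s : SL) = zS (-s⁻¹) * l ∧ l.1 0 1 = 0 := by
  refine ⟨zS s⁻¹ * (wS * zS s), ?_, ?_⟩
  · rw [← mul_assoc, ← zS_add, neg_add_cancel, zS_zero, one_mul]
  · simp [zS_val, wS_val, SpecialLinearGroup.coe_mul, Matrix.mul_apply, Fin.sum_univ_two, hs]

end Cfsg.Agent.ONanU3
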